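import Cfsg.Agent.Lib.Lie.UThreeOdd.Unital
import Cfsg.Agent.Lib.Lie.SU3PresFrame
import Cfsg.Agent.Lib.Classical.UnitMultThreeGen
import Cfsg.Agent.Lib.Classical.UnitCenter

/-!
A group with coordinates of the unital on its points is `PSU₃(q)`: it acts on its points as the unitary group does on
the isotropic lines.
-/

set_option autoImplicit false
set_option linter.unusedSectionVars false
set_option linter.style.haveILetI false

namespace Cfsg.Agent.Lie.UThreeOdd

open MulAction Matrix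
open Cfsg (SU PSU)
open Cfsg.Agent.Classical Cfsg.Agent.Classical.PSUAut Cfsg.Agent.Fus.UnitN Cfsg.Agent.Lie.SUGen
  Cfsg.Agent.Lie.SU3Pres

universe u v

variable {K : Type} [Field K] [Fintype K] {q : ℕ} {hF : Fintype.card K = q ^ 2}
  {e n f : Fin 3 → K}

theorem exists_frame_unital (hF : Fintype.card K = q ^ 2) :
    ∃ e n f : Fin 3 → K, Nonempty (Frame3 q e n f) := by
  obtain ⟨e, n, f, B⟩ := exists_frame hF
  exact ⟨e, n, f, ⟨B⟩⟩

/-- The similitude `(x, y, z) ↦ (γ γ̄ z, γ y, x)`. -/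
theorem exists_sim (B : Frame3 q e n f) (γ : K) : ∃ M : Matrix (Fin 3) (Fin 3) K,
    ∀ x y z, M *ᵥ co e n f x y z = co e n f (γ * qFrob hF γ * z) (γ * y) x := by
  refine ⟨Pm B * !![0, 0, γ * qFrob hF γ; 0, γ, 0; 1, 0, 0] * (Pm B)⁻¹, fun x y z => ?_⟩
  have h := Pm_mulVec hF B ![x, y, z]
  simp only [Matrix.cons_val_zero, Matrix.cons_val_one, Matrix.cons_val] at h
  rw [← h, Matrix.mulVec_mulVec, Matrix.nonsing_inv_mul_cancel_right _ _ (Pm_det hF B),
    ← Matrix.mulVec_mulVec, Pm_mulVec hF B]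
  simp [Matrix.mulVec, dotProduct, Fin.sum_univ_three]

/-- The unipotent elements and their opposites generate the Weyl element. -/
theorem wm_mem (h2 : (2 : K) ≠ 0) (B : Frame3 q e n f) (S : Subgroup (SU 3 K q))
    (hU : ∀ α b, OK hF α b → Um hF B α b ∈ S)
    (hV : ∀ α b, OK hF α b → Wm hF B * Um hF B α b * Wm hF B ∈ S) : Wm hF B ∈ S := by
  obtain ⟨α, hα⟩ : ∃ α, OK hF α (1 : K) := by
    obtain ⟨α, hα⟩ := exists_norm_eq (qFrob_ne_id hF) (qFrob_qFrob hF) (t := (-2 : K))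
      (by rw [map_neg, map_ofNat]) (neg_ne_zero.2 h2)
    refine ⟨α, ?_⟩
    simp only [OK, map_one]
    linear_combination hα
  have h1 := hV α 1 hα
  have hA : OK hF (-α / 1) (1 / 1) := hα.first hF one_ne_zero
  have hB : OK hF (-α / qFrob hF 1) (1 / 1) := by rw [map_one]; exact hA
  rw [rank_one hF B hα one_ne_zero, map_one, div_one, div_one, T_one hF B, mul_one] at h1
  rw [map_one, div_one, div_one] at hB
  rw [div_one, div_one] at hA
  have hm := hU _ _ hA
  have := S.mul_mem (S.mul_mem (S.inv_mem hm) h1) (S.inv_mem hm)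
  rwa [mul_assoc (Um hF B (-α) 1) (Wm hF B), inv_mul_cancel_left, mul_inv_cancel_right] at this

variable {G : Type u} {Ω : Type v} [Group G] [MulAction G Ω] [Finite G] [FaithfulSMul G Ω]

theorem Unital.one_coord (D : Unital G Ω hF) : D.θ 1 = 0 ∧ D.Δ 1 = 0 := by
  have h1 := D.θ_mul 1 (one_mem _) 1 (one_mem _)
  have h2 := D.Δ_mul 1 (one_mem _) 1 (one_mem _)
  rw [one_mul, left_eq_add] at h1
  rw [one_mul, h1, map_zero, zero_mul, add_zero, left_eq_add] at h2
  exact ⟨h1, h2⟩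

theorem Unital.Δ_ne (D : Unital G Ω hF) {x : G} (hx : x ∈ D.U) (hx1 : x ≠ 1) : D.Δ x ≠ 0 := fun h => by
  have hn := D.norm x hx
  rw [h, map_zero, add_zero, eq_comm, mul_eq_zero, map_eq_zero, or_self] at hn
  obtain ⟨h1, h2⟩ := D.one_coord
  exact hx1 (D.inj x hx 1 (one_mem _) (by rw [hn, h1]) (by rw [h, h2]))

set_option maxHeartbeats 1000000 in
/-- The group with coordinates of the unital is `PSU₃(q)`. -/
theorem psu_of_unital [IsSimpleGroup G] (h2 : (2 : K) ≠ 0) (D : Unital G Ω hF) :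
    Nonempty (G ≃* PSU 3 K q) := by
  classical
  obtain ⟨e, n, f, ⟨B⟩⟩ := exists_frame_unital hF
  obtain ⟨h10, h11⟩ := D.one_coord
  have hOK : ∀ x ∈ D.U, OK hF (D.θ x) (-D.Δ x) := fun x hx => by
    unfold OK
    rw [map_neg]
    linear_combination -(D.norm x hx)
  have hUa : ∀ x : D.U, (x : G) • D.b ≠ D.a := fun x h => by
    have h' := congrArg (fun c => (x : G)⁻¹ • c) h
    simp only [inv_smul_smul, D.U_fix _ (inv_mem x.2)] at h'
    exact D.hab h'.symm
  -- the vector of a point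
  let vec : Ω → Fin 3 → K := fun c =>
    if h : c = D.a then co e n f 1 0 0 else
      co e n f (-D.Δ ((D.U_reg c h).exists.choose : G)) (D.θ ((D.U_reg c h).exists.choose : G)) 1
  have hva : vec D.a = co e n f 1 0 0 := dif_pos rfl
  have hvx : ∀ x ∈ D.U, vec (x • D.b) = co e n f (-D.Δ x) (D.θ x) 1 := fun x hx => by
    have h : x • D.b ≠ D.a := hUa ⟨x, hx⟩
    show dite _ _ _ = _
    rw [dif_neg h, (D.U_reg _ h).unique (D.U_reg _ h).exists.choose_spec
      (show ((⟨x, hx⟩ : D.U) : G) • D.b = x • D.b from rfl)]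
  have hvb : vec D.b = co e n f 0 0 1 := by
    have h := hvx 1 (one_mem _)
    rwa [one_smul, h10, h11, neg_zero] at h
  have hcase : ∀ c : Ω, c = D.a ∨ ∃ x ∈ D.U, c = x • D.b := fun c => by
    by_cases h : c = D.a
    · exact Or.inl h
    · obtain ⟨x, hx, -⟩ := D.U_reg c h
      exact Or.inr ⟨x, x.2, hx.symm⟩
  have hinj : ∀ c c' : Ω, ∀ l : K, vec c = l • vec c' → c = c' := fun c c' l h => by
    rcases hcase c with rfl | ⟨x, hx, rfl⟩ <;> rcases hcase c' with rfl | ⟨y, hy, rfl⟩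
    · rfl
    · rw [hva, hvx y hy, smul_co] at h
      obtain ⟨e1, -, e3⟩ := co_inj hF B h
      rw [mul_one] at e3
      rw [← e3, zero_mul] at e1
      exact absurd e1 one_ne_zero
    · rw [hva, hvx x hx, smul_co] at h
      obtain ⟨-, -, e3⟩ := co_inj hF B h
      rw [mul_zero] at e3
      exact absurd e3 one_ne_zero
    · rw [hvx x hx, hvx y hy, smul_co] at h
      obtain ⟨e1, e2, e3⟩ := co_inj hF B h
      rw [mul_one] at e3
      rw [← e3, one_mul] at e1 e2
      rw [D.inj x hx y hy e2 (neg_injective e1)]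
  -- pairs acting equally
  let R : Subgroup (G × SU 3 K q) :=
    { carrier := {p | ∀ c, ∃ l : K, l ≠ 0 ∧ suVal p.2 *ᵥ vec c = l • vec (p.1 • c)}
      one_mem' := fun c => ⟨1, one_ne_zero, by
        rw [Prod.snd_one, Prod.fst_one, suVal_one', Matrix.one_mulVec, one_smul, one_smul]⟩
      mul_mem' := fun {p p'} hp hp' c => by
        obtain ⟨l, hl, e1⟩ := hp' c
        obtain ⟨l', hl', e2⟩ := hp (p'.1 • c)
        exact ⟨l * l', mul_ne_zero hl hl', by
          rw [Prod.snd_mul, Prod.fst_mul, mulVec_mul, e1, Matrix.mulVec_smul, e2, smul_smul, mul_smul p.1]⟩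
      inv_mem' := fun {p} hp c => by
        obtain ⟨l, hl, e1⟩ := hp (p.1⁻¹ • c)
        rw [smul_inv_smul] at e1
        refine ⟨l⁻¹, inv_ne_zero hl, ?_⟩
        rw [Prod.snd_inv, Prod.fst_inv]
        have h := congrArg (fun v => l⁻¹ • (suVal p.2⁻¹ *ᵥ v)) e1
        simp only [(inv_apply _ _).1, Matrix.mulVec_smul, inv_smul_smul₀ hl] at h
        exact h.symm }
  have hUv : ∀ x ∈ D.U, ∀ c : Ω,
      suVal (Um hF B (D.θ x) (-D.Δ x)) *ᵥ vec c = vec (x • c) := fun x hx c => by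
    rcases hcase c with rfl | ⟨y, hy, rfl⟩
    · rw [D.U_fix x hx, hva, U_act hF B (hOK x hx)]
      congr 1 <;> ring
    · rw [← mul_smul x y D.b, hvx y hy, hvx _ (mul_mem hx hy), U_act hF B (hOK x hx), D.θ_mul x hx y hy,
        D.Δ_mul x hx y hy]
      congr 1 <;> ring
  have hRU : ∀ x ∈ D.U, (x, Um hF B (D.θ x) (-D.Δ x)) ∈ R := fun x hx c =>
    ⟨1, one_ne_zero, by rw [one_smul]; exact hUv x hx c⟩
  -- the similitude acts as `w`
  obtain ⟨M, hM⟩ := exists_sim (hF := hF) B D.γ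
  have hγ : qFrob hF D.γ ≠ 0 := (map_ne_zero (qFrob hF)).2 D.γ_ne
  have hw : ∀ c : Ω, ∃ l : K, l ≠ 0 ∧ M *ᵥ vec c = l • vec (D.w • c) := fun c => by
    rcases hcase c with rfl | ⟨x, hx, rfl⟩
    · exact ⟨1, one_ne_zero, by rw [D.w_a, hva, hvb, hM, one_smul, mul_zero, mul_zero]⟩
    by_cases hx1 : x = 1
    · subst hx1
      refine ⟨D.γ * qFrob hF D.γ, mul_ne_zero D.γ_ne hγ, ?_⟩
      rw [one_smul, D.w_b, hva, hvb, hM, smul_co]
      congr 1 <;> ring
    obtain ⟨y, hy, e1, e2, e3⟩ := D.w_act x hx hx1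
    have hd := D.Δ_ne hx hx1
    refine ⟨-D.Δ x, neg_ne_zero.2 hd, ?_⟩
    rw [e1, hvx x hx, hvx y hy, hM, smul_co, e2, e3]
    congr 1 <;> field_simp
  have hRV : ∀ x ∈ D.U, (D.w * x * D.w⁻¹,
      Wm hF B * Um hF B (-D.θ x / qFrob hF D.γ) (-D.Δ x / (D.γ * qFrob hF D.γ)) * Wm hF B) ∈ R := by
    intro x hx c
    have hg := D.γ_ne
    have h1 : OK hF (-D.θ x / qFrob hF D.γ) (-D.Δ x / (D.γ * qFrob hF D.γ)) := by
      have h0 := hOK x hx
      unfold OK at h0 ⊢
      simp only [map_div₀, map_mul, map_neg, cj_cj hF] at h0 ⊢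
      field_simp
      linear_combination h0
    have hSM : ∀ v, suVal (Wm hF B *
        Um hF B (-D.θ x / qFrob hF D.γ) (-D.Δ x / (D.γ * qFrob hF D.γ)) * Wm hF B) *ᵥ (M *ᵥ v) =
          M *ᵥ (suVal (Um hF B (D.θ x) (-D.Δ x)) *ᵥ v) := fun v => by
      obtain ⟨a₀, a₁, a₂, rfl⟩ := exists_co hF B v
      rw [hM, U_act hF B (hOK x hx), hM, mulVec_mul, mulVec_mul, W_act, U_act hF B h1, W_act]
      simp only [map_div₀, map_neg, cj_cj hF]
      congr 1 <;> field_simp <;> ring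
    obtain ⟨l, hl, e1⟩ := hw (D.w⁻¹ • c)
    rw [smul_inv_smul] at e1
    obtain ⟨l', hl', e2⟩ := hw (x • D.w⁻¹ • c)
    refine ⟨l⁻¹ * l', mul_ne_zero (inv_ne_zero hl) hl', ?_⟩
    have e3 := hSM (vec (D.w⁻¹ • c))
    rw [e1, hUv x hx, e2, Matrix.mulVec_smul] at e3
    show suVal _ *ᵥ vec c = (l⁻¹ * l') • vec ((D.w * x * D.w⁻¹) • c)
    rw [mul_smul (D.w * x), mul_smul D.w, mul_smul l⁻¹ l', ← e3, inv_smul_smul₀ hl]
  let π₁ : R →* G := (MonoidHom.fst G (SU 3 K q)).comp R.subtype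
  let π₂ : R →* SU 3 K q := (MonoidHom.snd G (SU 3 K q)).comp R.subtype
  have hπ₁ : Function.Surjective π₁ := by
    rw [← MonoidHom.range_eq_top, eq_top_iff, ← D.gen, Subgroup.closure_le]
    rintro g (hg | ⟨x, hx, rfl⟩)
    · exact ⟨⟨_, hRU g hg⟩, rfl⟩
    · exact ⟨⟨_, hRV x hx⟩, rfl⟩
  have hπ₂ : Function.Surjective π₂ := by
    rw [← MonoidHom.range_eq_top]
    have hU : ∀ α b, OK hF α b → Um hF B α b ∈ π₂.range := fun α b hab => by
      obtain ⟨x, hx, e1, e2⟩ := D.surj α (-b) (by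
        unfold OK at hab
        rw [map_neg]
        linear_combination -hab)
      refine ⟨⟨_, hRU x hx⟩, ?_⟩
      show Um hF B (D.θ x) (-D.Δ x) = _
      rw [e1, e2, neg_neg]
    refine UnitMult.eq_top_of_UW hF B hU (wm_mem h2 B _ hU fun α b hab => ?_)
    obtain ⟨x, hx, e1, e2⟩ := D.surj (-(qFrob hF D.γ * α)) (-(D.γ * qFrob hF D.γ * b)) (by
      unfold OK at hab
      simp only [map_neg, map_mul, cj_cj hF]
      linear_combination -(D.γ * qFrob hF D.γ) * hab)
    refine ⟨⟨_, hRV x hx⟩, ?_⟩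
    show Wm hF B * Um hF B _ _ * Wm hF B = _
    rw [e1, e2, neg_neg, neg_neg, mul_div_cancel_left₀ _ hγ,
      mul_div_cancel_left₀ _ (mul_ne_zero D.γ_ne hγ)]
  -- either projection determines the element
  have huniq : ∀ g g' s, (g, s) ∈ R → (g', s) ∈ R → g = g' := fun g g' s h h' =>
    FaithfulSMul.eq_of_smul_eq_smul (α := Ω) fun c => by
      obtain ⟨l, hl, e1⟩ := h c
      obtain ⟨l', hl', e2⟩ := h' c
      refine hinj _ _ (l⁻¹ * l') ?_
      show vec (g • c) = (l⁻¹ * l') • vec (g' • c)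
      rw [mul_smul, ← e2, e1, inv_smul_smul₀ hl]
  have hscal : ∀ s, ((1 : G), s) ∈ R ↔ s ∈ Subgroup.center (SU 3 K q) := by
    refine fun s => ⟨fun hs => ?_, fun hs c => ?_⟩
    · have hfix : ∀ c, ∃ l : K, suVal s *ᵥ vec c = l • vec c := fun c => by
        obtain ⟨l, -, hl⟩ := hs c
        exact ⟨l, by rw [hl, one_smul]⟩
      have hpt : ∀ α b : K, OK hF α b → ∃ c, vec c = co e n f b α 1 := fun α b h => by
        obtain ⟨x, hx, e1, e2⟩ := D.surj α (-b) (by
          unfold OK at h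
          rw [map_neg]
          linear_combination -h)
        exact ⟨x • D.b, by rw [hvx x hx, e1, e2, neg_neg]⟩
      obtain ⟨l₁, hl₁⟩ := hfix D.a
      obtain ⟨l₃, hl₃⟩ := hfix D.b
      rw [hva, smul_co] at hl₁
      rw [hvb, smul_co] at hl₃
      simp only [mul_zero, mul_one] at hl₁ hl₃
      obtain ⟨y0, y1, y2, hn⟩ := exists_co hF B (suVal s *ᵥ co e n f 0 1 0)
      have hgen : ∀ x y z : K, suVal s *ᵥ co e n f x y z =
          co e n f (x * l₁ + y * y0) (y * y1) (y * y2 + z * l₃) := fun x y z => by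
        rw [show co e n f x y z = x • co e n f 1 0 0 + (y • co e n f 0 1 0 + z • co e n f 0 0 1) by
          rw [smul_co, smul_co, smul_co, co_add, co_add]; simp, Matrix.mulVec_add, Matrix.mulVec_add,
          Matrix.mulVec_smul, Matrix.mulVec_smul, Matrix.mulVec_smul, hl₁, hl₃, hn, smul_co, smul_co, smul_co,
          co_add, co_add]
        congr 1 <;> ring
      have hb1 : OK hF 1 (-(2 : K)⁻¹) := by
        simp only [OK, map_neg, map_inv₀, map_ofNat, map_one]
        field_simp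
        ring
      have hb2 : OK hF (-1) (-(2 : K)⁻¹) := by
        simpa [OK] using hb1
      obtain ⟨c₁, hc₁⟩ := hpt _ _ hb1
      obtain ⟨c₂, hc₂⟩ := hpt _ _ hb2
      obtain ⟨μ, hμ⟩ := hfix c₁
      obtain ⟨ν, hν⟩ := hfix c₂
      rw [hc₁, hgen, smul_co] at hμ
      rw [hc₂, hgen, smul_co] at hν
      obtain ⟨a1, a2, a3⟩ := co_inj hF B hμ
      obtain ⟨b1, b2, b3⟩ := co_inj hF B hν
      rw [one_mul, mul_one] at a2
      have hνy : ν = y1 := by linear_combination b2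
      have hy2 : y2 = 0 := by
        refine (mul_eq_zero.1 (show (2 : K) * y2 = 0 from ?_)).resolve_left h2
        linear_combination a3 - b3 - a2 - hνy
      have hl3 : l₃ = y1 := by linear_combination a3 - hy2 - a2
      have hy0 : y0 = 0 := by
        refine (mul_eq_zero.1 (show (2 : K) * y0 = 0 from ?_)).resolve_left h2
        linear_combination a1 - b1 + (2 : K)⁻¹ * (a2 + hνy)
      have hl1 : l₁ = y1 := by
        refine sub_eq_zero.1 ((mul_eq_zero.1 (show -(2 : K)⁻¹ * (l₁ - y1) = 0 from ?_)).resolve_left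
          (neg_ne_zero.2 (inv_ne_zero h2)))
        linear_combination a1 - hy0 + (2 : K)⁻¹ * a2
      refine mem_center_of_suVal_scalar (c := y1) (Matrix.ext_iff_mulVec.2 fun v => ?_)
      obtain ⟨x, y, z, rfl⟩ := exists_co hF B v
      rw [hgen, hl1, hy0, hy2, hl3, Matrix.scalar_apply, ← Matrix.smul_one_eq_diagonal,
        Matrix.smul_mulVec, Matrix.one_mulVec, smul_co]
      congr 1 <;> ring
    · obtain ⟨l, hl⟩ := suVal_scalar_of_mem_center hF hs
      have hl0 : l ≠ 0 := fun h => by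
        have h' := congrArg Matrix.det hl
        rw [h, Matrix.scalar_apply, Matrix.det_diagonal, Fin.prod_univ_three] at h'
        simp only [mul_zero] at h'
        exact one_ne_zero ((show (suVal s).det = 1 from s.1.2).symm.trans h')
      refine ⟨l, hl0, ?_⟩
      show suVal s *ᵥ _ = _
      rw [one_smul, hl, Matrix.scalar_apply, ← Matrix.smul_one_eq_diagonal, Matrix.smul_mulVec, Matrix.one_mulVec]
  choose sec hsec using hπ₂
  have hsec' : ∀ s, ((sec s : G × SU 3 K q).1, s) ∈ R := fun s => by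
    have h := (sec s).2
    rwa [show ((sec s : G × SU 3 K q)) = ((sec s : G × SU 3 K q).1, s) from Prod.ext rfl (hsec s)] at h
  let φ : SU 3 K q →* G := MonoidHom.mk' (fun s => (sec s : G × SU 3 K q).1) fun s s' =>
    huniq _ _ (s * s') (hsec' (s * s')) (R.mul_mem (hsec' s) (hsec' s'))
  have hφ : Function.Surjective φ := fun g => by
    obtain ⟨⟨⟨g', s⟩, hp⟩, rfl⟩ := hπ₁ g
    exact ⟨s, huniq _ _ s (hsec' s) hp⟩
  have hker : φ.ker = Subgroup.center (SU 3 K q) := Subgroup.ext fun s => by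
    rw [← hscal]
    refine ⟨fun h => ?_, fun h => huniq _ _ s (hsec' s) h⟩
    have h1 := hsec' s
    rwa [show (sec s : G × SU 3 K q).1 = 1 from h] at h1
  exact ⟨((QuotientGroup.quotientMulEquivOfEq hker.symm).trans
    (QuotientGroup.quotientKerEquivOfSurjective φ hφ)).symm⟩

end Cfsg.Agent.Lie.UThreeOdd
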