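import Cfsg.Agent.Lib.Lie.UThreeOdd.Unitary
import Cfsg.Agent.Lib.Lie.UThreeOdd.Ident

/-!
A simple group with a split BN-pair of rank one of odd unitary type is `PSU₃(q)`.
-/

set_option autoImplicit false
set_option linter.unusedSectionVars false

namespace Cfsg.Agent.Lie.UThreeOdd

open MulAction
open Cfsg (PSU)
open Cfsg.Agent.Classical

universe u v

namespace Coord

variable {G : Type u} {Ω : Type v} [Group G] [MulAction G Ω] [Finite G] [FaithfulSMul G Ω] {D : Hyp G Ω}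
  {K : Type} [Field K] [Fintype K] (C : Coord D K)
include C

theorem gen_jv [IsSimpleGroup G] :
    Subgroup.closure ((D.U : Set G) ∪ (fun x => C.jv * x * C.jv⁻¹) '' (D.U : Set G)) = ⊤ := by
  set L := Subgroup.closure ((D.U : Set G) ∪ (fun x => C.jv * x * C.jv⁻¹) '' (D.U : Set G)) with hL
  have hUL : ∀ u ∈ D.U, u ∈ L := fun u hu => Subgroup.subset_closure (Or.inl hu)
  have hjL : ∀ u ∈ D.U, C.jv * u * C.jv⁻¹ ∈ L := fun u hu => Subgroup.subset_closure (Or.inr ⟨u, hu, rfl⟩)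
  let N : G → Prop := fun g => ∀ x ∈ L, g * x * g⁻¹ ∈ L
  have hN : ∀ g : G, (∀ u ∈ D.U, g * u * g⁻¹ ∈ L) → (∀ u ∈ D.U, g * (C.jv * u * C.jv⁻¹) * g⁻¹ ∈ L) → N g := by
    intro g h1 h2 x hx
    refine (Subgroup.closure_le (K := L.comap (MulAut.conj g).toMonoidHom)).2 ?_ hx
    rintro y (hy | ⟨u, hu, rfl⟩)
    · exact h1 y hy
    · exact h2 u hu
  have hmul : ∀ g h : G, N g → N h → N (g * h) := fun g h hg hh x hx => by
    have := hg _ (hh x hx)
    rwa [show g * h * x * (g * h)⁻¹ = g * (h * x * h⁻¹) * g⁻¹ by group]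
  have hUN : ∀ u ∈ D.U, N u := fun u hu x hx => mul_mem (mul_mem (hUL u hu) hx) (inv_mem (hUL u hu))
  have hHN : ∀ h ∈ D.H, N h := by
    intro h hh
    refine hN h (fun u hu => hUL _ (D.H_conj hh hu)) fun u hu => ?_
    have hh' : C.jv⁻¹ * h * C.jv ∈ D.H := by
      obtain ⟨ha, hb⟩ := (D.mem_H).1 hh
      refine D.mem_H.2 ⟨?_, ?_⟩ <;> rw [mul_smul, mul_smul, inv_smul_eq_iff]
      · rw [C.jv_a, hb]
      · rw [C.jv_b, ha]
    have h' := hjL _ (D.H_conj hh' hu)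
    rwa [show h * (C.jv * u * C.jv⁻¹) * h⁻¹ =
      C.jv * (C.jv⁻¹ * h * C.jv * u * (C.jv⁻¹ * h * C.jv)⁻¹) * C.jv⁻¹ by group]
  have hjj : C.jv * C.jv ∈ D.H :=
    D.mem_H.2 ⟨by rw [mul_smul, C.jv_a, C.jv_b], by rw [mul_smul, C.jv_b, C.jv_a]⟩
  have hjN : N C.jv := by
    refine hN _ hjL fun u hu => ?_
    have h' := hUL _ (D.H_conj hjj hu)
    rwa [show C.jv * (C.jv * u * C.jv⁻¹) * C.jv⁻¹ = C.jv * C.jv * u * (C.jv * C.jv)⁻¹ by group]
  have hstab : ∀ g : G, g • D.a = D.a → N g := by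
    intro g hg
    obtain ⟨u, hu, hub⟩ := D.exists_U (c := g • D.b) fun e => D.b_ne (smul_left_cancel g (e.trans hg.symm))
    have hmem : u⁻¹ * g ∈ D.H := D.mem_H.2 ⟨by rw [mul_smul, hg, inv_smul_eq_iff, D.U_fix u hu],
      by rw [mul_smul, ← hub, inv_smul_smul]⟩
    rw [show g = u * (u⁻¹ * g) by group]
    exact hmul _ _ (hUN u hu) (hHN _ hmem)
  have hall : ∀ g : G, N g := by
    intro g
    by_cases hg : g • D.a = D.a
    · exact hstab g hg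
    obtain ⟨u, hu, hub⟩ := D.exists_U hg
    have e : (u * C.jv) • D.a = g • D.a := by rw [mul_smul, C.jv_a, hub]
    rw [show g = u * C.jv * ((u * C.jv)⁻¹ * g) by group]
    exact hmul _ _ (hmul _ _ (hUN u hu) hjN) (hstab _ (by rw [mul_smul, ← e, inv_smul_smul]))
  haveI : L.Normal := ⟨fun x hx g => hall g x hx⟩
  refine (IsSimpleGroup.eq_bot_or_eq_top_of_normal L inferInstance).resolve_left fun h => ?_
  have h1 : D.U = ⊥ := le_bot_iff.1 (h ▸ fun u hu => hUL u hu)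
  have h2 := D.card_U
  rw [h1, Subgroup.card_bot] at h2
  have := D.three_le_q
  rw [D.q_def] at this
  have h3 : 1 < (D.p ^ D.n) ^ 3 := Nat.one_lt_pow (by norm_num) (by omega)
  omega

theorem exists_unital [IsSimpleGroup G] (S : C.Shape) (hF : Fintype.card K = D.q ^ 2) :
    Nonempty (Unital G Ω hF) := by
  classical
  have hq : ∀ x : K, qFrob hF x = x ^ D.q := fun x => qFrob_apply hF x
  have hco : ∀ x : G, ∃ θ z : K, x ∈ D.U → z ^ D.q = z ∧ C.P θ z = x := fun x => by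
    by_cases hx : x ∈ D.U
    · obtain ⟨θ, z, h⟩ := C.P_surj x hx
      exact ⟨θ, z, fun _ => h⟩
    · exact ⟨0, 0, fun h => absurd h hx⟩
  choose Θ Z hΘ using hco
  have hco' : ∀ {θ z : K}, z ^ D.q = z → Θ (C.P θ z) = θ ∧ Z (C.P θ z) = z := fun {θ z} hz => by
    obtain ⟨h1, h2⟩ := hΘ _ (C.P_mem θ z hz)
    exact C.P_inj _ _ _ _ h1 hz h2
  obtain ⟨γ, hγ0, hγ⟩ := C.exists_γ S
  have hJ2 := C.twoJ_ne S
  have hc : ((2 * S.J) ^ 2)⁻¹ = γ * γ ^ D.q := by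
    obtain ⟨θ', z', hz', -, e, hd⟩ := C.jv_image S (θ := 1) C.cj_zero one_ne_zero
    rw [(hγ 1 0 θ' z' C.cj_zero one_ne_zero hz' e).2] at hd
    exact mul_right_cancel₀ (inv_ne_zero (C.dd_ne S C.cj_zero one_ne_zero))
      (by simpa [div_eq_mul_inv] using hd.symm)
  refine ⟨{
    a := D.a, b := D.b, hab := D.hab, U := D.U, w := C.jv, γ := γ
    θ := fun x => S.τ (Θ x), Δ := fun x => C.dd S (Θ x) (Z x)
    U_fix := D.U_fix, U_reg := D.U_reg
    θ_mul := ?_, Δ_mul := ?_, norm := ?_, inj := ?_, surj := ?_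
    γ_ne := hγ0, w_a := C.jv_a, w_b := C.jv_b, w_act := ?_, gen := C.gen_jv }⟩
  · intro x hx y hy
    obtain ⟨hz, ex⟩ := hΘ x hx
    obtain ⟨hz', ey⟩ := hΘ y hy
    rw [← ex, ← ey, C.P_mul' hz hz', (hco' hz).1, (hco' hz').1,
      (hco' (C.fix_add (C.fix_add hz hz') (C.A_fix _ _))).1, map_add]
  · intro x hx y hy
    obtain ⟨hz, ex⟩ := hΘ x hx
    obtain ⟨hz', ey⟩ := hΘ y hy
    have hz'' := C.fix_add (C.fix_add hz hz') (C.A_fix (Θ x) (Θ y))
    conv_lhs => rw [← ex, ← ey, C.P_mul' hz hz', (hco' hz'').1, (hco' hz'').2]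
    rw [hq]
    refine mul_left_cancel₀ hJ2 ?_
    rw [mul_add, mul_add, C.dd_spec, C.dd_spec, C.dd_spec, ← S.τ_form, C.cj_add]
    ring
  · intro x hx
    rw [hq, hq]
    exact C.dd_norm S (hΘ x hx).1
  · intro x hx y hy h1 h2
    obtain ⟨hz, ex⟩ := hΘ x hx
    obtain ⟨hz', ey⟩ := hΘ y hy
    have e1 : Θ x = Θ y := S.τ.injective h1
    have e2 := congrArg (2 * S.J * ·) h2
    simp only [C.dd_spec, e1, add_left_inj] at e2
    rw [← ex, ← ey, e1, e2]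
  · intro u η h
    rw [hq, hq] at h
    have hz : (2 * S.J * η - S.J * (S.τ u * S.τ u ^ D.q)) ^ D.q = 2 * S.J * η - S.J * (S.τ u * S.τ u ^ D.q) := by
      rw [C.cj_sub, mul_pow (2 * S.J), C.twoJ_skew S, mul_pow S.J, S.J_skew, C.norm_fix S, S.τ_norm]
      linear_combination (-2 * S.J) * h
    refine ⟨C.P (S.τ u) (2 * S.J * η - S.J * (S.τ u * S.τ u ^ D.q)), C.P_mem _ _ hz, ?_, ?_⟩
    · rw [(hco' hz).1, S.τ_τ]
    · rw [(hco' hz).1, (hco' hz).2]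
      refine mul_left_cancel₀ hJ2 ?_
      rw [C.dd_spec]
      ring
  · intro x hx hx1
    obtain ⟨hz, ex⟩ := hΘ x hx
    have hxb : x • D.b = C.pt (Θ x) (Z x) := by
      conv_lhs => rw [← ex]
      rfl
    rw [hxb, hq]
    by_cases hθ : Θ x = 0
    · have hz0 : Z x ≠ 0 := fun e => hx1 (by rw [← ex, hθ, e, C.P_zero])
      have hzi : (Z x)⁻¹ ^ D.q = (Z x)⁻¹ := by rw [inv_pow, hz]
      refine ⟨C.P 0 (Z x)⁻¹, C.P_mem _ _ hzi, ?_, ?_, ?_⟩
      · rw [hθ, C.jv_pt hz hz0]; rfl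
      · rw [(hco' hzi).1, hθ, map_zero, mul_zero, neg_zero, zero_div]
      · rw [(hco' hzi).1, (hco' hzi).2, hθ, dd, dd, zero_mul, mul_zero, add_zero, add_zero, ← hc]
        field_simp
    · obtain ⟨θ', z', hz', -, e, -⟩ := C.jv_image S hz hθ
      obtain ⟨e1, e2⟩ := hγ _ _ _ _ hz hθ hz' e
      refine ⟨C.P θ' z', C.P_mem _ _ hz', e, ?_, ?_⟩
      · rw [(hco' hz').1, e1]
      · rw [(hco' hz').1, (hco' hz').2, e2]

end Coord

/-- A simple group of the given shape is `PSU₃(q)`. -/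
theorem Hyp.exists_iso {G : Type u} {Ω : Type v} [Group G] [MulAction G Ω] [Finite G] [FaithfulSMul G Ω]
    [IsSimpleGroup G] (D : Hyp G Ω) :
    ∃ (F : Type) (_ : Field F) (_ : Fintype F), Fintype.card F = (D.p ^ D.n) ^ 2 ∧
      Nonempty (G ≃* PSU 3 F (D.p ^ D.n)) := by
  obtain ⟨K, iK, iKf, ⟨C⟩⟩ := D.exists_coord
  obtain ⟨S⟩ := C.exists_shape
  obtain ⟨E⟩ := C.exists_unital S C.card
  exact ⟨K, iK, iKf, C.card, psu_of_unital C.two_ne E⟩

end Cfsg.Agent.Lie.UThreeOdd
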