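import Cfsg.Prelude.Def_LieExceptional
import Cfsg.Agent.Lib.Lie.BNTits
import Cfsg.Agent.Lib.Transfer.RankOneCor.BN
import Cfsg.Agent.Lib.Lie.UThreeOdd.Final

/-!
The permutation group of a split BN-pair of rank one of odd unitary type.
-/

set_option autoImplicit false
set_option linter.unusedSectionVars false

namespace Cfsg.Agent.Lie.UThreeOdd

open MulAction

universe u

theorem psu_of_bnPair {G : Type u} [Group G] [Finite G] [IsSimpleGroup G] (P : Cfsg.BNPair G) (h1 : P.rank = 1)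
    {p n : ℕ} (hp : p.Prime) (hp2 : p ≠ 2) (hn : 1 ≤ n) (U : Subgroup G) (hUB : U ≤ P.B)
    (hUn : ∀ b ∈ P.B, ∀ u ∈ U, b * u * b⁻¹ ∈ U) (hsplit : U ⊔ (P.B ⊓ P.N) = P.B)
    (hind : P.B.index = p ^ (3 * n) + 1) (hU : Nat.card U = p ^ (3 * n)) (hHc : IsCyclic ↥(P.B ⊓ P.N))
    (hH : Nat.gcd 3 (p ^ n + 1) * Nat.card ↥(P.B ⊓ P.N) = p ^ (2 * n) - 1) :
    ∃ (F : Type) (_ : Field F) (_ : Fintype F), Fintype.card F = (p ^ n) ^ 2 ∧
      Nonempty (G ≃* Cfsg.PSU 3 F (p ^ n)) := by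
  classical
  obtain ⟨s, hsN, hsB, hcell⟩ := Transfer.RankOneCor.exists_s P h1
  have hmul : ∀ b ∈ P.B, ∃ u ∈ U, ∃ m ∈ P.B ⊓ P.N, u * m = b := fun b hb => by
    rw [← hsplit, ← SetLike.mem_coe, Subgroup.coe_mul_of_right_le_normalizer_left _ _
      (show P.B ⊓ P.N ≤ Subgroup.normalizer (U : Set G) from fun x hx =>
        Subgroup.mem_normalizer_fintype (hUn x (Subgroup.mem_inf.1 hx).1))] at hb
    exact hb
  have hs : ∀ g : G, g ∉ P.B → ∃ u ∈ U, u • (s : G ⧸ P.B) = (g : G ⧸ P.B) := fun g hg => by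
    obtain ⟨b, hb, c, hc, rfl⟩ := hcell g hg
    obtain ⟨u, hu, m, hm, rfl⟩ := hmul b hb
    refine ⟨u, hu, ?_⟩
    rw [MulAction.Quotient.smul_mk, smul_eq_mul, QuotientGroup.eq,
      show (u * s)⁻¹ * (u * m * s * c) = s⁻¹ * m * s⁻¹⁻¹ * c by group]
    exact mul_mem (P.conj_mem _ (inv_mem hsN) _ hm) hc
  have hfix1 : ∀ {g : G}, g • ((1 : G) : G ⧸ P.B) = ((1 : G) : G ⧸ P.B) ↔ g ∈ P.B := fun {g} => by
    rw [MulAction.Quotient.smul_mk, eq_comm, QuotientGroup.eq, smul_eq_mul, mul_one, inv_one, one_mul]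
  have hab : ((1 : G) : G ⧸ P.B) ≠ (s : G ⧸ P.B) := fun e => hsB (by
    rw [QuotientGroup.eq, inv_one, one_mul] at e; exact e)
  have hUa : ∀ u ∈ U, u • ((1 : G) : G ⧸ P.B) = ((1 : G) : G ⧸ P.B) := fun u hu => hfix1.2 (hUB hu)
  have hne : ∀ u : U, (u : G) • (s : G ⧸ P.B) ≠ ((1 : G) : G ⧸ P.B) := fun u e =>
    hab.symm (smul_left_cancel (u : G) (e.trans (hUa u u.2).symm))
  let φ : U → {c : G ⧸ P.B // c ≠ ((1 : G) : G ⧸ P.B)} := fun u => ⟨(u : G) • (s : G ⧸ P.B), hne u⟩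
  have hφs : Function.Surjective φ := by
    rintro ⟨c, hc⟩
    induction c using QuotientGroup.induction_on with
    | H x =>
      obtain ⟨u, hu, e⟩ := hs x fun hx => hc (QuotientGroup.eq.2 (by simpa using hx))
      exact ⟨⟨u, hu⟩, Subtype.ext e⟩
  have hφ : Function.Bijective φ := by
    refine (Nat.bijective_iff_surjective_and_card φ).2 ⟨hφs, ?_⟩
    haveI := Fintype.ofFinite (G ⧸ P.B)
    rw [hU, Nat.card_eq_fintype_card, Fintype.card_subtype_compl, Fintype.card_subtype_eq,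
      ← Nat.card_eq_fintype_card, ← Subgroup.index_eq_card, hind, Nat.add_sub_cancel]
  have key : ∀ x y : G ⧸ P.B, x ≠ y → ∃ g : G, g • ((1 : G) : G ⧸ P.B) = x ∧ g • (s : G ⧸ P.B) = y := by
    intro x y hxy
    induction x using QuotientGroup.induction_on with
    | H x =>
    induction y using QuotientGroup.induction_on with
    | H y =>
    obtain ⟨u, hu, e⟩ := hs (x⁻¹ * y) fun hm => hxy (QuotientGroup.eq.2 hm)
    refine ⟨x * u, ?_, ?_⟩
    · rw [mul_smul, hUa u hu, MulAction.Quotient.smul_mk, smul_eq_mul, mul_one]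
    · rw [mul_smul, e, MulAction.Quotient.smul_mk, smul_eq_mul, mul_inv_cancel_left]
  have hstab : stabilizer G ((1 : G) : G ⧸ P.B) ⊓ stabilizer G (s : G ⧸ P.B) = P.B ⊓ P.N := by
    have hge : P.B ⊓ P.N ≤ stabilizer G (s : G ⧸ P.B) := fun m hm => by
      rw [mem_stabilizer_iff, MulAction.Quotient.smul_mk, eq_comm, QuotientGroup.eq, smul_eq_mul,
        show s⁻¹ * (m * s) = s⁻¹ * m * s⁻¹⁻¹ by group]
      exact P.conj_mem _ (inv_mem hsN) _ hm
    refine le_antisymm (fun x hx => ?_) (le_inf (fun x hx => hfix1.2 hx.1) hge)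
    obtain ⟨u, hu, m, hm, rfl⟩ := hmul x (hfix1.1 hx.1)
    have h : (u * m) • (s : G ⧸ P.B) = (s : G ⧸ P.B) := hx.2
    rw [mul_smul, mem_stabilizer_iff.1 (hge hm)] at h
    have hu1 : (⟨u, hu⟩ : U) = 1 := hφ.1 (Subtype.ext (by simp [φ, h]))
    rw [show u = 1 from congrArg Subtype.val hu1, one_mul]
    exact hm
  haveI : FaithfulSMul G (G ⧸ P.B) := by
    have hcore : P.B.normalCore = ⊥ := by
      rcases (inferInstance : P.B.normalCore.Normal).eq_bot_or_eq_top with h | h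
      · exact h
      · exact absurd (P.B.normalCore_le (h ▸ Subgroup.mem_top s)) hsB
    refine ⟨fun {g₁ g₂} h => ?_⟩
    have h3 : g₂⁻¹ * g₁ ∈ P.B.normalCore := fun b => by
      have h4 : (g₂⁻¹ * g₁) • ((b⁻¹ : G) : G ⧸ P.B) = ((b⁻¹ : G) : G ⧸ P.B) := by rw [mul_smul, h, inv_smul_smul]
      rw [MulAction.Quotient.smul_mk, eq_comm, QuotientGroup.eq, smul_eq_mul, inv_inv, ← mul_assoc] at h4
      exact h4
    rw [hcore, Subgroup.mem_bot, inv_mul_eq_one] at h3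
    exact h3.symm
  let D : Hyp G (G ⧸ P.B) :=
  { a := ((1 : G) : G ⧸ P.B)
    b := (s : G ⧸ P.B)
    U := U
    p := p
    n := n
    hab := hab
    hp := hp
    hp2 := hp2
    hn := hn
    U_fix := hUa
    U_norm := fun g hg u hu => hUn g (hfix1.1 hg) u hu
    U_reg := fun c hc => by
      obtain ⟨u, hu⟩ := hφ.2 ⟨c, hc⟩
      exact ⟨u, congrArg Subtype.val hu, fun v hv => hφ.1 ((Subtype.ext hv).trans hu.symm)⟩
    two := fun {x y z w} hxy hzw => by
      obtain ⟨g, hg1, hg2⟩ := key x y hxy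
      obtain ⟨k, hk1, hk2⟩ := key z w hzw
      exact ⟨k * g⁻¹, by rw [mul_smul, inv_smul_eq_iff.2 hg1.symm, hk1],
        by rw [mul_smul, inv_smul_eq_iff.2 hg2.symm, hk2]⟩
    card_U := by rw [hU, mul_comm 3 n, pow_mul]
    cyc := hstab.symm ▸ hHc
    card_H := by rw [hstab, hH, mul_comm 2 n, pow_mul] }
  exact D.exists_iso

end Cfsg.Agent.Lie.UThreeOdd
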