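import Cfsg.Agent.Lib.Lie.UThreeOdd.Five

/-!
The pencil equation: a function semi-invariant under an element of index `d` in the units of the field of `q²`
elements that satisfies the incidence condition is a multiple of the norm.
-/

set_option autoImplicit false
set_option linter.unusedSectionVars false

namespace Cfsg.Agent.Lie.UThreeOdd

section Aux

variable {K : Type} [Field K]

/-- The three base-orbit identities: conjugates of `D = -c a δ + N C`. -/
theorem norm_split {c a δ N C C' s : K} (hN : N = 2 - s) (hδ : δ * δ = s * s - 4) :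
    (-(c * a * δ) + N * C) * (-(c * a * δ) + N * C') =
      N * (-(c * c * a * a * (s + 2)) - c * a * δ * (C + C') + N * (C * C')) := by
  subst hN
  linear_combination (c * c * a * a) * hδ

/-- Values separated by a symmetric pair of parameters are determined. -/
theorem value_eq {c a δ s C C' : K} (h2 : (2 : K) ≠ 0) (hc : c ≠ 0) (ha : a ≠ 0) (hδ : δ ≠ 0) (hs : s + 2 ≠ 0)
    (h1 : -(c * c * a * a * (s + 2)) - c * a * δ * (C + C') + (2 - s) * (C * C') = 4 * (C * C'))
    (h1' : -(c * c * a * a * (s + 2)) - c * a * -δ * (C + C') + (2 - s) * (C * C') = 4 * (C * C')) :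
    C' = -C ∧ C * C = (c * a) * (c * a) := by
  have hsum : C + C' = 0 := by
    refine (mul_eq_zero.1 (show (2 * (c * a * δ)) * (C + C') = 0 by linear_combination h1' - h1)).resolve_left ?_
    exact mul_ne_zero h2 (mul_ne_zero (mul_ne_zero hc ha) hδ)
  have hC : C' = -C := by linear_combination hsum
  refine ⟨hC, ?_⟩
  refine sub_eq_zero.1 ((mul_eq_zero.1 (show (s + 2) * (C * C - c * a * (c * a)) = 0 from ?_)).resolve_left hs)
  subst hC
  linear_combination h1

/-- Roots of `x² ± x - 1` do not contain a long orbit. -/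
theorem no_orbit {μ η : K} (hμ : μ ≠ 0) (h6 : (6 : K) ≠ 0)
    (h : ∀ i : ℕ, (η ^ i * μ) ^ 4 - 3 * (η ^ i * μ) ^ 2 + 1 = 0) (h2 : η ^ 2 ≠ 1) : False := by
  have hη : η ≠ 0 := by
    rintro rfl
    simpa using h 1
  have e0 := h 0
  have e1 := h 1
  have e2 := h 2
  rw [pow_zero, one_mul] at e0
  rw [pow_one] at e1
  set u := μ ^ 2
  set t := η ^ 2
  have hu : u ≠ 0 := pow_ne_zero _ hμ
  have ht : t ≠ 0 := pow_ne_zero _ hη
  have a1 : t * u * (t * u) - 3 * (t * u) + 1 = 0 := by linear_combination e1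
  have a0 : u * u - 3 * u + 1 = 0 := by linear_combination e0
  have a2 : t * t * u * (t * t * u) - 3 * (t * t * u) + 1 = 0 := by linear_combination e2
  have b1 : (t + 1) * u = 3 := by
    refine sub_eq_zero.1 ((mul_eq_zero.1 (show (t - 1) * u * ((t + 1) * u - 3) = 0 by linear_combination a1 - a0)).resolve_left ?_)
    exact mul_ne_zero (sub_ne_zero.2 h2) hu
  have b2 : t * ((t + 1) * u) = 3 := by
    refine sub_eq_zero.1 ((mul_eq_zero.1
      (show t * (t - 1) * u * (t * ((t + 1) * u) - 3) = 0 by linear_combination a2 - a1)).resolve_left ?_)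
    exact mul_ne_zero (mul_ne_zero ht (sub_ne_zero.2 h2)) hu
  rw [b1] at b2
  have h3 : (3 : K) ≠ 0 := fun h3 => h6 (by linear_combination 2 * h3)
  exact h2 (mul_right_cancel₀ h3 (by rw [b2, one_mul]))

end Aux

/-- The pencil equation. -/
theorem pencil {K : Type} [Field K] [Fintype K] {p n d : ℕ} (hp : p.Prime) (hp2 : p ≠ 2) (hn : 1 ≤ n)
    (hd : d = 1 ∨ (d = 3 ∧ (p ^ n) % 3 = 2 ∧ 5 ≤ p)) (hK : Fintype.card K = (p ^ n) ^ 2) {om nu c : K}
    (hom : d * orderOf om = (p ^ n) ^ 2 - 1) (hnu : orderOf nu = p ^ n - 1) (hnuq : nu ^ p ^ n = nu)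
    (hc : c ^ p ^ n = -c) (hnc : c = 0 ∨ nu = om ^ (p ^ n + 1)) (f : K → K)
    (hf : ∀ x, x ≠ 0 → f x ^ p ^ n ≠ f x) (hs : ∀ x, f (om * x) = nu * f x)
    (hM : ∀ x y z : K, x ≠ 0 → y ≠ 0 → z ≠ 0 → y ≠ x → z ≠ x → (f y - f x) ^ p ^ n = f y - f x →
      (f z - f x) ^ p ^ n = f z - f x →
      let D := fun u => f x - f u - c * (x ^ p ^ n * u - x * u ^ p ^ n) + f (u - x)
      (D y)⁻¹ - ((D y) ^ p ^ n)⁻¹ = (D z)⁻¹ - ((D z) ^ p ^ n)⁻¹) :
    ∃ J : K, J ≠ 0 ∧ J ^ p ^ n = -J ∧ (∀ x, x ≠ 0 → f x = J * (x * x ^ p ^ n)) ∧ (c = J ∨ c = -J) := by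
  haveI : Fact p.Prime := ⟨hp⟩
  haveI hchar : CharP K p := by
    obtain ⟨r, hr⟩ := CharP.exists K
    obtain ⟨j, hrp, hj⟩ := FiniteField.card K r
    have h5 : r ∣ (p ^ n) ^ 2 := by rw [← hK, hj]; exact dvd_pow_self r j.pos.ne'
    rwa [(Nat.prime_dvd_prime_iff_eq hrp hp).1 (hrp.dvd_of_dvd_pow (hrp.dvd_of_dvd_pow h5))] at hr
  set q := p ^ n with hq
  have hq3 : 3 ≤ q := by
    have h1 : p ≤ p ^ n := Nat.le_self_pow (by omega) p
    have := hp.two_le
    omega
  have hqodd : Odd q := (hp.odd_of_ne_two hp2).pow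
  have h2 : (2 : K) ≠ 0 := by
    intro h
    have hd2 : p ∣ 2 := (CharP.cast_eq_zero_iff K p 2).1 (by simpa using h)
    exact hp2 ((Nat.prime_dvd_prime_iff_eq hp Nat.prime_two).1 hd2)
  -- the Frobenius of order two
  haveI : ExpChar K p := ExpChar.prime hp
  set cj := iterateFrobenius K p n with hcjdef
  have hcj : ∀ x : K, cj x = x ^ q := fun x => iterateFrobenius_def ..
  have hcj2 : ∀ x : K, cj (cj x) = x := fun x => by
    rw [hcj, hcj, ← pow_mul, ← pow_two, ← hK, FiniteField.pow_card]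
  -- the orders
  obtain ⟨m, hm⟩ : d ∣ q + 1 := by
    rcases hd with rfl | ⟨rfl, h3, -⟩
    · exact one_dvd _
    · omega
  have hd0 : 0 < d := by rcases hd with rfl | ⟨rfl, -, -⟩ <;> omega
  have hord : orderOf om = (q - 1) * m := by
    refine Nat.eq_of_mul_eq_mul_left hd0 ?_
    rw [hom, Nat.mul_left_comm, ← hm, mul_comm, ← Nat.sq_sub_sq, one_pow]
  have hmeven : Even m := by
    have h1 : Even (d * m) := hm ▸ hqodd.add_one
    rcases hd with rfl | ⟨rfl, -, -⟩
    · simpa using h1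
    · exact (Nat.even_mul.1 h1).resolve_left (by decide)
  have hm0 : 0 < m := Nat.pos_of_ne_zero fun h => by simp [h] at hm
  by_cases hm2 : m = 2
  · -- the field with twenty-five elements
    rcases hd with rfl | ⟨rfl, -, -⟩
    · omega
    have hq5 : q = 5 := by omega
    rw [hq5] at hK hom hnu hc hnc hf hM ⊢
    exact pencil_five (by simpa using hK) (by omega) (by simpa using hnu) hc (by simpa using hnc) f hf hs hM
  have hm4 : 4 ≤ m := by obtain ⟨j, hj⟩ := hmeven; omega
  have hom0 : om ≠ 0 := fun h => by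
    rw [h] at hord
    have h0 : 0 < (q - 1) * m := Nat.mul_pos (by omega) hm0
    rw [orderOf_zero] at hord
    omega
  -- the elements of norm one in the group
  set η := om ^ (q - 1) with hη
  have hηo : orderOf η = m := by
    rw [hη, orderOf_pow' om (by omega : q - 1 ≠ 0), hord, Nat.gcd_eq_right (dvd_mul_right _ _),
      Nat.mul_div_cancel_left _ (by omega : 0 < q - 1)]
  have hηN : ∀ i, η ^ i * cj (η ^ i) = 1 := fun i => by
    have h1 : η * cj η = 1 := by
      rw [hcj, hη, ← pow_mul, ← pow_add,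
        show (q - 1) + (q - 1) * q = (q - 1) * m * d by rw [mul_assoc, mul_comm m, ← hm]; ring,
        pow_mul, ← hord, pow_orderOf_eq_one, one_pow]
    rw [map_pow, ← mul_pow, h1, one_pow]
  have hfW : ∀ i x, f (η ^ i * x) = f x := by
    have h1 : ∀ j x, f (om ^ j * x) = nu ^ j * f x := fun j => by
      induction j with
      | zero => intro x; simp
      | succ j ih => intro x; rw [pow_succ', mul_assoc, hs, ih, pow_succ', mul_assoc]
    intro i x
    rw [hη, ← pow_mul, h1, pow_mul, ← hnu, pow_orderOf_eq_one, one_pow, one_mul]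
  have hfpow : ∀ j x, f (om ^ j * x) = nu ^ j * f x := fun j => by
    induction j with
    | zero => intro x; simp
    | succ j ih => intro x; rw [pow_succ', mul_assoc, hs, ih, pow_succ', mul_assoc]
  have hneg : η ^ (m / 2) = -1 := by
    obtain ⟨j, hj⟩ := hmeven
    have h1 : η ^ j * η ^ j = 1 := by rw [← pow_add, ← hj, ← hηo, pow_orderOf_eq_one]
    rw [show m / 2 = j by omega]
    rcases mul_self_eq_one_iff.1 h1 with h | h
    · have := Nat.le_of_dvd (by omega) (orderOf_dvd_of_pow_eq_one h); omega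
    · exact h
  have hη2 : η ^ 2 ≠ 1 := fun h => by
    have := Nat.le_of_dvd two_pos (orderOf_dvd_of_pow_eq_one h); omega
  -- a translate of a point of the orbit
  have hsub : ∀ i, η ^ i ≠ 1 → ∃ k : ℕ, η ^ i - 1 = om ^ k := fun i hi => by
    set z := η ^ i - 1 with hz
    have hz0 : z ≠ 0 := sub_ne_zero.2 hi
    have h1 : z ^ (q - 1) * η ^ i = -1 := by
      refine mul_left_cancel₀ hz0 ?_
      rw [← mul_assoc, ← pow_succ', show q - 1 + 1 = q by omega, ← hcj, hz, map_sub, map_one, sub_mul, mul_comm (cj (η ^ i)), hηN i,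
        one_mul]
      ring
    have h2' : z ^ ((q - 1) * m) = 1 := by
      have h3 : (η ^ i) ^ m = 1 := by rw [← pow_mul, mul_comm, pow_mul, ← hηo, pow_orderOf_eq_one, one_pow]
      have h4 := congrArg (· ^ m) h1
      simp only [mul_pow, h3, mul_one, hmeven.neg_one_pow] at h4
      rw [pow_mul, h4]
    rw [← hord] at h2'
    haveI : NeZero (orderOf om) := ⟨by rw [hord]; exact (Nat.mul_pos (by omega) hm0).ne'⟩
    obtain ⟨k, -, hk⟩ := (IsPrimitiveRoot.orderOf om).eq_pow_of_pow_eq_one h2'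
    exact ⟨k, hk.symm⟩
  -- values on the base orbit
  have hpt : ∀ θ : K, θ ≠ 0 → ∀ i j, η ^ i ≠ 1 → η ^ j ≠ 1 →
      let D := fun u => -(c * (cj θ * u - θ * cj u)) + f (u - θ)
      (D (η ^ i * θ))⁻¹ - (cj (D (η ^ i * θ)))⁻¹ = (D (η ^ j * θ))⁻¹ - (cj (D (η ^ j * θ)))⁻¹ := by
    intro θ hθ i j hi hj
    have hne : ∀ i, η ^ i ≠ 1 → η ^ i * θ ≠ θ ∧ η ^ i * θ ≠ 0 := fun i hi =>
      ⟨fun h => hi (mul_right_cancel₀ hθ (by rw [h, one_mul])),
        mul_ne_zero (fun h => by simpa [h] using hηN i) hθ⟩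
    have h := hM θ (η ^ i * θ) (η ^ j * θ) hθ (hne i hi).2 (hne j hj).2 (hne i hi).1 (hne j hj).1
      (by rw [hfW, sub_self, zero_pow (by omega)]) (by rw [hfW, sub_self, zero_pow (by omega)])
    simp only [hfW, sub_self, zero_sub, ← hcj] at h ⊢
    exact h
  -- one translate
  have hD : ∀ θ i k, η ^ i - 1 = om ^ k →
      -(c * (cj θ * (η ^ i * θ) - θ * cj (η ^ i * θ))) + f (η ^ i * θ - θ) =
        -(c * (θ * cj θ) * (η ^ i - cj (η ^ i))) + nu ^ k * f θ := fun θ i k hk => by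
    rw [show η ^ i * θ - θ = om ^ k * θ by rw [← hk]; ring, hfpow, map_mul]
    ring
  have hcnu : ∀ k, cj (nu ^ k) = nu ^ k := fun k => by rw [map_pow, hcj, hnuq]
  have hcc : cj c = -c := by rw [hcj, hc]
  have hCne : ∀ θ, θ ≠ 0 → f θ - cj (f θ) ≠ 0 := fun θ hθ h => hf θ hθ (by rw [← hcj]; exact (sub_eq_zero.1 h).symm)
  have hnu0 : nu ≠ 0 := fun h => by rw [h, orderOf_zero] at hnu; omega
  -- `c` is not zero
  have hc0 : c ≠ 0 := fun h0 => by
    obtain ⟨k₀, hk₀⟩ := hsub (m / 2) (by rw [hneg]; exact fun h => h2 (by linear_combination -h))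
    obtain ⟨k, hk⟩ := hsub 1 (by rw [pow_one]; exact fun h => hη2 (by rw [h, one_pow]))
    have h := hpt 1 one_ne_zero 1 (m / 2) (by rw [pow_one]; exact fun h => hη2 (by rw [h, one_pow]))
      (by rw [hneg]; exact fun h => h2 (by linear_combination -h))
    dsimp only at h
    rw [hD 1 1 k hk, hD 1 (m / 2) k₀ hk₀] at h
    simp only [h0, zero_mul, neg_zero, zero_add, map_mul, hcnu, mul_inv, ← mul_sub] at h
    have hC := hCne 1 one_ne_zero
    have hT : (f 1)⁻¹ - (cj (f 1))⁻¹ ≠ 0 := fun e => hC (sub_eq_zero.2 (inv_injective (sub_eq_zero.1 e)))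
    have hkk := inv_injective (mul_right_cancel₀ hT h)
    have hmod : k ≡ k₀ [MOD q - 1] := by rw [← hnu]; exact (isOfFinOrder_iff_pow_eq_one.2 ⟨q - 1, by omega, by
      rw [← hnu]; exact pow_orderOf_eq_one nu⟩).pow_eq_pow_iff_modEq.1 hkk
    have hNk : (om * cj om) ^ k = (om * cj om) ^ k₀ := by
      have hN1 : (om * cj om) ^ (q - 1) = 1 := by
        rw [hcj, ← pow_succ', ← pow_mul,
          show (q + 1) * (q - 1) = orderOf om * d by rw [hord, mul_assoc, mul_comm m, ← hm, mul_comm],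
          pow_mul, pow_orderOf_eq_one, one_pow]
      rw [pow_eq_pow_mod k hN1, pow_eq_pow_mod k₀ hN1, hmod]
    rw [mul_pow, mul_pow, ← map_pow, ← map_pow, ← hk, ← hk₀, hneg, pow_one, map_sub, map_sub, map_neg, map_one] at hNk
    have h1 := hηN 1
    rw [pow_one] at h1
    have : (η + 1) * (η + 1) = 0 := by linear_combination (-η) * hNk + (η - 1) * h1
    refine hη2 ?_
    rw [show η = -1 by linear_combination (mul_self_eq_zero.1 this)]
    ring
  have hnc' : nu = om * cj om := by rw [hcj, ← pow_succ']; exact hnc.resolve_left hc0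
  have hNnu : ∀ k, nu ^ k = om ^ k * cj (om ^ k) := fun k => by rw [hnc', mul_pow, map_pow]
  -- (1) the values
  have key : ∀ θ, θ ≠ 0 → cj (f θ) = -f θ ∧ f θ * f θ = (c * (θ * cj θ)) * (c * (θ * cj θ)) ∧
      (-(c * (cj θ * (η ^ (m / 2) * θ) - θ * cj (η ^ (m / 2) * θ))) + f (η ^ (m / 2) * θ - θ)) = 4 * f θ := by
    intro θ hθ
    set a := θ * cj θ with ha
    have haj : cj a = a := by rw [ha, map_mul, hcj2, mul_comm]
    have ha0 : a ≠ 0 := mul_ne_zero hθ ((map_ne_zero cj).2 hθ)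
    set C := f θ with hC
    set T : ℕ → K := fun i => η ^ i + cj (η ^ i) with hT
    -- the expression at one parameter
    have hone : ∀ i, η ^ i ≠ 1 →
        (-(c * (cj θ * (η ^ i * θ) - θ * cj (η ^ i * θ))) + f (η ^ i * θ - θ)) =
          -(c * a * (η ^ i - cj (η ^ i))) + (2 - T i) * C ∧ (2 - T i) ≠ 0 ∧
        cj (-(c * a * (η ^ i - cj (η ^ i))) + (2 - T i) * C) =
          -(c * a * (η ^ i - cj (η ^ i))) + (2 - T i) * cj C ∧
        (η ^ i - cj (η ^ i)) * (η ^ i - cj (η ^ i)) = T i * T i - 4 := by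
      intro i hi
      obtain ⟨k, hk⟩ := hsub i hi
      have hN : nu ^ k = 2 - T i := by
        rw [hNnu, ← hk, map_sub, map_one, hT]
        linear_combination hηN i
      refine ⟨by rw [hD θ i k hk, hN], hN ▸ pow_ne_zero _ hnu0, ?_, ?_⟩
      · simp only [hT, map_add, map_neg, map_mul, map_sub, hcc, haj, hcj2, map_ofNat]
        ring
      · rw [hT]; linear_combination -4 * hηN i
    have hhalf : η ^ (m / 2) ≠ 1 := by rw [hneg]; exact fun h => h2 (by linear_combination -h)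
    obtain ⟨e0, n0, j0, -⟩ := hone _ hhalf
    have hT0 : T (m / 2) = -2 := by simp only [hT, hneg, map_neg, map_one]; ring
    have hd0 : η ^ (m / 2) - cj (η ^ (m / 2)) = 0 := by simp [hneg]
    rw [hT0, hd0, mul_zero, neg_zero, zero_add, show (2 : K) - -2 = 4 by ring] at e0 j0
    rw [hT0, show (2 : K) - -2 = 4 by ring] at n0
    have hCC : C - cj C ≠ 0 := hCne θ hθ
    have hC0 : C ≠ 0 := fun h => hCC (by rw [h, map_zero, sub_zero])
    have hnorm : ∀ i, η ^ i ≠ 1 → -(c * c * a * a * (T i + 2)) - c * a * (η ^ i - cj (η ^ i)) * (C + cj C) +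
        (2 - T i) * (C * cj C) = 4 * (C * cj C) := by
      intro i hi
      obtain ⟨e, nz, j, hδ⟩ := hone i hi
      have h := hpt θ hθ i (m / 2) hi hhalf
      dsimp only at h
      rw [e, e0, j, map_mul, map_ofNat] at h
      set δ := η ^ i - cj (η ^ i)
      set X := -(c * a * δ) + (2 - T i) * C with hX
      set Y := -(c * a * δ) + (2 - T i) * cj C with hY
      have hXY : Y - X ≠ 0 := fun e' => by
        refine mul_ne_zero nz hCC ?_
        linear_combination -e'
      have hXne : X ≠ 0 := fun h0 => by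
        refine hXY ?_
        rw [← j, h0, map_zero, sub_zero]
      have hYne : Y ≠ 0 := by rw [← j]; exact (map_ne_zero cj).2 hXne
      have hCj : cj C ≠ 0 := (map_ne_zero cj).2 hC0
      rw [inv_sub_inv hXne hYne, inv_sub_inv (mul_ne_zero n0 hC0) (mul_ne_zero n0 hCj),
        div_eq_div_iff (mul_ne_zero hXne hYne)
          (mul_ne_zero (mul_ne_zero n0 hC0) (mul_ne_zero n0 hCj)),
        norm_split (C := C) (C' := cj C) rfl hδ] at h
      refine mul_left_cancel₀ (mul_ne_zero (mul_ne_zero n0 nz) hCC) ?_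
      rw [hX, hY] at h
      linear_combination h
    have h1 : η ^ 1 ≠ 1 := by rw [pow_one]; exact fun h => hη2 (by rw [h, one_pow])
    have h1' : η ^ (m - 1) ≠ 1 := fun h => by
      have := Nat.le_of_dvd (by omega) (orderOf_dvd_of_pow_eq_one h); omega
    have hinv : η ^ (m - 1) = cj (η ^ 1) := by
      refine mul_left_cancel₀ (show η ^ 1 ≠ 0 from fun h => by simpa [h] using hηN 1) ?_
      rw [hηN, ← pow_add, show 1 + (m - 1) = m by omega, ← hηo, pow_orderOf_eq_one]
    have e1 := hnorm 1 h1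
    have e2 := hnorm (m - 1) h1'
    simp only [hT, hinv, hcj2] at e2
    simp only [hT] at e1
    have hδ : η ^ 1 - cj (η ^ 1) ≠ 0 := fun h => hη2 (by
      have := hηN 1
      rw [← sub_eq_zero.1 h] at this
      linear_combination this)
    have hs2 : η ^ 1 + cj (η ^ 1) + 2 ≠ 0 := fun h => hη2 (by
      have h' : (η + 1) * (η + 1) = 0 := by linear_combination η * h - hηN 1
      rw [show η = -1 by linear_combination (mul_self_eq_zero.1 h')]
      ring)
    obtain ⟨r1, r2⟩ := value_eq h2 hc0 ha0 hδ hs2 e1 (by linear_combination e2)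
    exact ⟨r1, r2, e0⟩
  have hsign : ∀ θ, θ ≠ 0 → f θ = c * (θ * cj θ) ∨ f θ = -(c * (θ * cj θ)) := fun θ hθ =>
    mul_self_eq_mul_self_iff.1 (key θ hθ).2.1
  -- (2) the sign is constant
  suffices hconst : ∀ θ θ', θ ≠ 0 → θ' ≠ 0 → f θ = c * (θ * cj θ) → f θ' = -(c * (θ' * cj θ')) → False by
    rcases em (∃ θ, θ ≠ 0 ∧ f θ = c * (θ * cj θ)) with ⟨θ, hθ, e⟩ | hno
    · refine ⟨c, hc0, hc, fun x hx => ?_, Or.inl rfl⟩
      rw [← hcj]
      exact (hsign x hx).resolve_right fun e' => hconst θ x hθ hx e e'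
    · refine ⟨-c, neg_ne_zero.2 hc0, by rw [← hcj, map_neg, hcc], fun x hx => ?_, Or.inr (neg_neg c).symm⟩
      rw [← hcj, neg_mul]
      exact (hsign x hx).resolve_left fun e => hno ⟨x, hx, e⟩
  intro θ θ' hθ hθ' eθ eθ'
  set a := θ * cj θ with ha
  have ha0 : a ≠ 0 := mul_ne_zero hθ ((map_ne_zero cj).2 hθ)
  -- scale
  obtain ⟨j, hj⟩ : ∃ j : ℕ, nu ^ j * (θ' * cj θ') = -a := by
    have hfix : ∀ x : K, x ≠ 0 → cj x = x → x ^ (q - 1) = 1 := fun x hx h => by
      refine mul_left_cancel₀ hx ?_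
      rw [← pow_succ', show q - 1 + 1 = q by omega, ← hcj, h, mul_one]
    have hb0 : θ' * cj θ' ≠ 0 := mul_ne_zero hθ' ((map_ne_zero cj).2 hθ')
    have h1 := hfix (-a / (θ' * cj θ')) (div_ne_zero (neg_ne_zero.2 ha0) hb0) (by
      rw [ha]; simp only [map_div₀, map_neg, map_mul, hcj2]; ring)
    haveI : NeZero (orderOf nu) := ⟨by rw [hnu]; omega⟩
    rw [← hnu] at h1
    obtain ⟨j, -, hj⟩ := (IsPrimitiveRoot.orderOf nu).eq_pow_of_pow_eq_one h1
    exact ⟨j, by rw [hj, div_mul_cancel₀ _ hb0]⟩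
  set μ := om ^ j * θ' / θ with hμdef
  have hμN : μ * cj μ = -1 := by
    rw [hNnu] at hj
    rw [hμdef, map_div₀, map_mul, div_mul_div_comm, ← ha, div_eq_iff ha0]
    linear_combination hj
  have hμf : f (μ * θ) = f θ := by
    rw [hμdef, div_mul_cancel₀ _ hθ, hfpow, eθ', eθ, ← mul_neg]
    linear_combination (-c) * hj
  -- every element of the coset is a root
  have hroot : ∀ i : ℕ, (η ^ i * μ) ^ 4 - 3 * (η ^ i * μ) ^ 2 + 1 = 0 := by
    intro i
    set ν := η ^ i * μ with hν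
    have hνN : ν * cj ν = -1 := by rw [hν, map_mul]; linear_combination (μ * cj μ) * hηN i + hμN
    have hν1 : ν ≠ 1 := fun h => h2 (by rw [h, map_one] at hνN; linear_combination hνN)
    have hν0 : ν ≠ 0 := fun h => by simp [h] at hνN
    set τ := ν + cj ν with hτ
    set δ := ν - cj ν with hδdef
    have hfν : f (ν * θ) = f θ := by rw [hν, mul_assoc, hfW, hμf]
    obtain ⟨ε, hε, hfd⟩ : ∃ ε : K, ε * ε = 1 ∧ f (ν * θ - θ) = -(ε * (c * a * τ)) := by
      have hne : ν * θ - θ ≠ 0 := fun h => hν1 (mul_right_cancel₀ hθ (by rw [one_mul]; exact sub_eq_zero.1 h))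
      have hN' : (ν * θ - θ) * cj (ν * θ - θ) = -(τ * a) := by
        rw [map_sub, map_mul, hτ, ha]
        linear_combination (θ * cj θ) * hνN
      rcases hsign _ hne with e | e <;> rw [hN'] at e
      · exact ⟨1, one_mul 1, by rw [e]; ring⟩
      · exact ⟨-1, by ring, by rw [e]; ring⟩
    have hhalf : η ^ (m / 2) ≠ 1 := by rw [hneg]; exact fun h => h2 (by linear_combination -h)
    have hne' : ν * θ ≠ θ := fun h => hν1 (mul_right_cancel₀ hθ (by rw [h, one_mul]))
    have hne'' : η ^ (m / 2) * θ ≠ θ := fun h => hhalf (mul_right_cancel₀ hθ (by rw [h, one_mul]))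
    have h := hM θ (ν * θ) (η ^ (m / 2) * θ) hθ (mul_ne_zero hν0 hθ)
      (mul_ne_zero (by rw [hneg]; exact neg_ne_zero.2 one_ne_zero) hθ) hne' hne''
      (by rw [hfν, sub_self, zero_pow (by omega)]) (by rw [hfW, sub_self, zero_pow (by omega)])
    simp only [hfν, hfW, sub_self, zero_sub, ← hcj] at h
    rw [(key θ hθ).2.2, hfd, show -(c * (cj θ * (ν * θ) - θ * cj (ν * θ))) + -(ε * (c * a * τ)) =
      -(c * a * (δ + ε * τ)) by rw [map_mul, hδdef, ha]; ring] at h
    have hεj : cj ε = ε := by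
      rcases mul_self_eq_one_iff.1 hε with e | e <;> simp [e]
    have haj : cj a = a := by rw [ha, map_mul, hcj2, mul_comm]
    have hτ0 : τ ≠ 0 := fun h0 => by
      have hp0 : (ν - 1) * cj (ν - 1) = 0 := by rw [map_sub, map_one]; linear_combination hνN - h0
      rcases mul_eq_zero.1 hp0 with e | e
      · exact hν1 (sub_eq_zero.1 e)
      · exact hν1 (sub_eq_zero.1 ((map_eq_zero cj).1 e))
    have hε0 : ε ≠ 0 := fun h0 => by simp [h0] at hε
    set X := -(c * a * (δ + ε * τ)) with hX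
    have hY : cj X = c * a * (-δ + ε * τ) := by
      rw [hX, hδdef, hτ]
      simp only [map_neg, map_mul, map_add, map_sub, hcc, haj, hεj, hcj2]
      ring
    have hXne : X ≠ 0 := fun h0 => by
      refine mul_ne_zero (mul_ne_zero h2 (mul_ne_zero hε0 hτ0)) (mul_ne_zero hc0 ha0) ?_
      have h0' : cj X = 0 := by rw [h0, map_zero]
      rw [hY] at h0'
      rw [hX] at h0
      linear_combination h0' - h0
    have hXX : X * cj X = 4 * (c * a) * (c * a) := by
      rw [hY, hX, hδdef, hτ]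
      linear_combination (-(c * a) * (c * a) * (ν + cj ν) * (ν + cj ν)) * hε + (-4 * (c * a) * (c * a)) * hνN
    have h4 : (4 : K) ≠ 0 := fun h0 => mul_ne_zero h2 h2 (by linear_combination h0)
    have hca : c * a ≠ 0 := mul_ne_zero hc0 ha0
    rw [eθ, map_mul, map_mul, hcc, haj, map_ofNat,
      inv_sub_inv hXne ((map_ne_zero cj).2 hXne), inv_sub_inv (mul_ne_zero h4 hca)
        (mul_ne_zero h4 (mul_ne_zero (neg_ne_zero.2 hc0) ha0)), hXX, hY, hX,
      div_eq_div_iff (mul_ne_zero (mul_ne_zero h4 hca) hca)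
        (mul_ne_zero (mul_ne_zero h4 hca) (mul_ne_zero h4 (mul_ne_zero (neg_ne_zero.2 hc0) ha0)))] at h
    have hετ : ε * τ = 1 := by
      refine mul_left_cancel₀ (mul_ne_zero (mul_ne_zero (mul_ne_zero (mul_ne_zero h2 h4) h4) hca)
        (mul_ne_zero hca hca)) ?_
      linear_combination -h
    have hττ : τ * τ = 1 := by linear_combination (ε * τ + 1) * hετ - (τ * τ) * hε
    rw [hτ] at hττ
    linear_combination (ν ^ 2) * hττ - (2 * ν ^ 2 + ν * cj ν - 1) * hνN
  rcases hd with rfl | ⟨rfl, -, hp5⟩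
  · -- one coset
    rw [one_mul] at hm
    have hz : (θ' / θ) ^ orderOf om = 1 := by
      rw [hord, ← hm, mul_comm, ← Nat.sq_sub_sq, one_pow, ← hK]
      exact FiniteField.pow_card_sub_one_eq_one _ (div_ne_zero hθ' hθ)
    haveI : NeZero (orderOf om) := ⟨by rw [hord]; exact (Nat.mul_pos (by omega) hm0).ne'⟩
    obtain ⟨k, -, hk⟩ := (IsPrimitiveRoot.orderOf om).eq_pow_of_pow_eq_one hz
    rw [eq_div_iff hθ] at hk
    rw [← hk, hfpow, eθ, map_mul] at eθ'
    refine mul_ne_zero (mul_ne_zero h2 (pow_ne_zero k hnu0)) (mul_ne_zero hc0 ha0) ?_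
    rw [ha]
    linear_combination eθ' + (c * (θ * cj θ)) * hNnu k
  · refine no_orbit (fun h => by simp [h] at hμN) (fun h6 => ?_) hroot hη2
    have hd6 : p ∣ 2 * 3 := (CharP.cast_eq_zero_iff K p 6).1 (by simpa using h6)
    rcases hp.dvd_mul.1 hd6 with h | h <;> have := Nat.le_of_dvd (by norm_num) h <;> omega

end Cfsg.Agent.Lie.UThreeOdd
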