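import Mathlib

/-!
An alternating biadditive form on the field of `q²` elements which is semi-invariant under a multiplication of
order `(q² - 1)/(3, q + 1)` is hermitian-skew, after a twist by an automorphism.
-/

set_option autoImplicit false
set_option linter.unusedSectionVars false

namespace Cfsg.Agent.Lie.UThreeOdd

variable {K : Type} [Field K] [Fintype K] {p : ℕ} [Fact p.Prime] [CharP K p]

include p in
theorem span_additive (f : K →+ K) : ∃ c : (K ≃+* K) → K, ∀ x, f x = ∑ᶠ σ : K ≃+* K, c σ * σ x := by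
  classical
  let _ := ZMod.algebra K p
  have : Fintype (K ≃+* K) := Fintype.ofInjective (fun σ : K ≃+* K => (σ : K → K)) DFunLike.coe_injective
  let L : (K ≃+* K) → (K →ₗ[ZMod p] K) := fun σ =>
    AddMonoidHom.toZModLinearMap p (σ : K →+* K).toAddMonoidHom
  have hL : LinearIndependent K L := by
    refine LinearIndependent.of_comp (LinearMap.ltoFun (ZMod p) K K K) ?_
    exact (linearIndependent_monoidHom K K).comp (fun σ : K ≃+* K => ((σ : K →+* K) : K →* K))
      fun σ τ h => RingEquiv.ext fun x => DFunLike.congr_fun h x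
  have hcard : Fintype.card (K ≃+* K) ≥ Module.finrank K (K →ₗ[ZMod p] K) := by
    rw [Module.finrank_linearMap_self]
    have hb := FiniteField.bijective_frobeniusAlgEquivOfAlgebraic_pow (ZMod p) K
    have hi : Function.Injective (fun e : K ≃ₐ[ZMod p] K => (e : K ≃+* K)) :=
      fun a b h => AlgEquiv.ext fun x => RingEquiv.congr_fun h x
    have := Fintype.card_le_of_injective _ (hi.comp hb.1)
    simpa using this
  have htop : Submodule.span K (Set.range L) = ⊤ :=
    hL.span_eq_top_of_card_eq_finrank' (le_antisymm hL.fintype_card_le_finrank hcard)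
  obtain ⟨c, hc⟩ := (Submodule.mem_span_range_iff_exists_fun K).1
    (htop ▸ Submodule.mem_top : AddMonoidHom.toZModLinearMap p f ∈ Submodule.span K (Set.range L))
  refine ⟨c, fun x => ?_⟩
  rw [finsum_eq_sum_of_fintype]
  simpa [L] using (LinearMap.congr_fun hc x).symm

theorem coeff_eq {c c' : (K ≃+* K) → K}
    (h : ∀ x : K, ∑ᶠ σ : K ≃+* K, c σ * σ x = ∑ᶠ σ : K ≃+* K, c' σ * σ x) (σ : K ≃+* K) : c σ = c' σ := by
  classical
  have : Fintype (K ≃+* K) := Fintype.ofInjective (fun σ : K ≃+* K => (σ : K → K)) DFunLike.coe_injective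
  have hi := Fintype.linearIndependent_iff.1 ((linearIndependent_monoidHom K K).comp
    (fun σ : K ≃+* K => ((σ : K →+* K) : K →* K)) fun σ τ h => RingEquiv.ext fun x => DFunLike.congr_fun h x)
    (fun σ => c σ - c' σ)
  refine sub_eq_zero.1 (hi (funext fun x => ?_) σ)
  rw [Finset.sum_apply, Pi.zero_apply]
  have hx := h x
  rw [finsum_eq_sum_of_fintype, finsum_eq_sum_of_fintype, ← sub_eq_zero, ← Finset.sum_sub_distrib] at hx
  simpa [sub_mul] using hx

include p in
theorem exists_coeff (B : K → K → K) (hl : ∀ x y z, B (x + y) z = B x z + B y z)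
    (hr : ∀ x y z, B x (y + z) = B x y + B x z) :
    ∃ c : (K ≃+* K) → (K ≃+* K) → K,
      (∀ x y, B x y = ∑ᶠ σ : K ≃+* K, (∑ᶠ τ : K ≃+* K, c σ τ * τ y) * σ x) := by
  classical
  have : Fintype (K ≃+* K) := Fintype.ofInjective (fun σ : K ≃+* K => (σ : K → K)) DFunLike.coe_injective
  have hd : ∀ y, ∃ d : (K ≃+* K) → K, ∀ x, B x y = ∑ᶠ σ : K ≃+* K, d σ * σ x := fun y =>
    span_additive (p := p) (AddMonoidHom.mk' (fun x => B x y) fun x x' => hl x x' y)
  choose d hd using hd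
  have hadd : ∀ σ y y', d (y + y') σ = d y σ + d y' σ := fun σ y y' => by
    refine coeff_eq (c := d (y + y')) (c' := fun σ => d y σ + d y' σ) (fun x => ?_) σ
    rw [← hd, hr, hd, hd]
    simp only [finsum_eq_sum_of_fintype, add_mul, Finset.sum_add_distrib]
  choose c hc using fun σ => span_additive (p := p) (AddMonoidHom.mk' (fun y => d y σ) (hadd σ))
  refine ⟨c, fun x y => ?_⟩
  rw [hd y x]
  exact finsum_congr fun σ => by rw [← hc σ y]; rfl

include p in
/-- Every automorphism is a power of the Frobenius map. -/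
theorem exists_exp {n : ℕ} (hK : Fintype.card K = (p ^ n) ^ 2) (σ : K ≃+* K) :
    ∃ i < 2 * n, ∀ x, σ x = x ^ p ^ i := by
  classical
  let _ := ZMod.algebra K p
  let e : K ≃ₐ[ZMod p] K := AlgEquiv.ofRingEquiv (f := σ) fun r =>
    RingHom.congr_fun (Subsingleton.elim ((σ.toRingHom).comp (algebraMap (ZMod p) K))
      (algebraMap (ZMod p) K)) r
  obtain ⟨i, hi⟩ := (FiniteField.bijective_frobeniusAlgEquivOfAlgebraic_pow (ZMod p) K).2 e
  have hfin : Module.finrank (ZMod p) K = 2 * n := by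
    have h := Module.natCard_eq_pow_finrank (K := ZMod p) (V := K)
    rw [Nat.card_zmod, Nat.card_eq_fintype_card, hK, ← pow_mul, mul_comm n 2] at h
    exact (Nat.pow_right_injective (Fact.out : p.Prime).two_le h).symm
  refine ⟨i, hfin ▸ i.isLt, fun x => ?_⟩
  have h := congrArg (fun g : K ≃ₐ[ZMod p] K => g x) hi
  simp only at h
  rw [show σ x = e x from rfl, ← h]
  have hk : ∀ k : ℕ, (FiniteField.frobeniusAlgEquivOfAlgebraic (ZMod p) K ^ k) x = x ^ p ^ k := fun k => by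
    induction k with
    | zero => simp
    | succ k ih =>
      rw [pow_succ', AlgEquiv.mul_apply, ih]
      simp [FiniteField.coe_frobeniusAlgEquivOfAlgebraic, ← pow_mul, pow_succ]
  exact hk i

/-- The exponents `m` with `(q + 1)/d ∣ pᵐ + 1`. -/
theorem exp_cases {n m d : ℕ} (hp : 3 ≤ p) (hd : d = 1 ∨ (d = 3 ∧ 5 ≤ p)) (hm : m < 2 * n)
    (h : p ^ n + 1 ∣ d * (p ^ m + 1)) : m = 0 ∨ m = n := by
  have hd3 : d ≤ 3 := by rcases hd with h | ⟨h, -⟩ <;> omega
  rcases Nat.lt_trichotomy m n with hlt | he | hgt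
  · left
    by_contra hm0
    have h1 := Nat.le_of_dvd (by rcases hd with h' | ⟨h', -⟩ <;> simp [h']) h
    have h2 : p ^ m * p ≤ p ^ n := by rw [← pow_succ]; exact Nat.pow_le_pow_right (by omega) hlt
    have h3 : p ^ 1 ≤ p ^ m := Nat.pow_le_pow_right (by omega) (by omega)
    rw [pow_one] at h3
    rcases hd with rfl | ⟨rfl, hp5⟩ <;> nlinarith
  · exact Or.inr he
  · exfalso
    obtain ⟨r, rfl⟩ : ∃ r, m = n + r := ⟨m - n, by omega⟩
    have hr : 1 ≤ p ^ r := Nat.one_le_pow _ _ (by omega)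
    have e : d * (p ^ (n + r) + 1) + d * (p ^ r - 1) = (p ^ n + 1) * (d * p ^ r) := by
      obtain ⟨k, hk⟩ : ∃ k, p ^ r = k + 1 := ⟨p ^ r - 1, by omega⟩
      rw [pow_add, hk, Nat.add_sub_cancel]; ring
    have h1 : p ^ n + 1 ∣ d * (p ^ r - 1) := (Nat.dvd_add_right h).1 (e ▸ dvd_mul_right _ _)
    have h2 : 1 < p ^ r := Nat.one_lt_pow (by omega) (by omega)
    have h3 := Nat.le_of_dvd (Nat.mul_pos (by rcases hd with h' | ⟨h', -⟩ <;> omega) (by omega)) h1
    have h4 : p ^ r * p ≤ p ^ n := by rw [← pow_succ]; exact Nat.pow_le_pow_right (by omega) (by omega)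
    have h5 : d * (p ^ r - 1) ≤ 3 * p ^ r := Nat.mul_le_mul hd3 (by omega)
    nlinarith

include p in
/-- The form is hermitian-skew after twisting by an automorphism. -/
theorem skew_of_semi {n d : ℕ} (hp : 3 ≤ p) (hn : 1 ≤ n) (hd : d = 1 ∨ (d = 3 ∧ 5 ≤ p))
    (hK : Fintype.card K = (p ^ n) ^ 2) {ω ν : K} (hν0 : ν ^ p ^ n = ν) (hν : orderOf ν = p ^ n - 1)
    (hω : d * orderOf ω = (p ^ n) ^ 2 - 1)
    (A : K → K → K) (hl : ∀ x y z, A (x + y) z = A x z + A y z) (hr : ∀ x y z, A x (y + z) = A x y + A x z)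
    (halt : ∀ x y, A y x = -A x y) (hF : ∀ x y, A x y ^ p ^ n = A x y)
    (hinv : ∀ x y, A (ω * x) (ω * y) = ν * A x y) :
    ∃ (σ : K ≃+* K) (c : K), c ^ p ^ n = -c ∧ (∀ x y, σ (A x y) = c * (x ^ p ^ n * y - x * y ^ p ^ n)) ∧
      (c = 0 ∨ σ ν = ω ^ (p ^ n + 1)) := by
  classical
  have : Fintype (K ≃+* K) := Fintype.ofInjective (fun σ : K ≃+* K => (σ : K → K)) DFunLike.coe_injective
  by_cases hA : ∀ x y, A x y = 0
  · refine ⟨RingEquiv.refl K, 0, by rw [zero_pow (pow_ne_zero n (by omega)), neg_zero], fun x y => ?_, Or.inl rfl⟩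
    simp [hA]
  push Not at hA
  have hq : 3 ≤ p ^ n := le_trans hp (Nat.le_self_pow (by omega) p)
  have hp1 : 1 < p := by omega
  have h2 : (2 : K) ≠ 0 := fun h => by
    have h' : ((2 : ℕ) : K) = 0 := by exact_mod_cast h
    rw [CharP.cast_eq_zero_iff K p] at h'
    have := Nat.le_of_dvd (by norm_num) h'
    omega
  have hω0 : ω ≠ 0 := fun h => by
    rw [h, orderOf_zero, mul_zero] at hω
    have : 3 * 3 ≤ (p ^ n) ^ 2 := by rw [sq]; exact Nat.mul_le_mul hq hq
    omega
  have hν00 : ν ≠ 0 := fun h => by rw [h, orderOf_zero] at hν; omega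
  let cjE : K ≃+* K := RingEquiv.ofBijective (iterateFrobenius K p n)
    (Finite.injective_iff_bijective.1 (iterateFrobenius K p n).injective)
  have hcj : ∀ x, cjE x = x ^ p ^ n := fun x => iterateFrobenius_def (R := K) p n x
  have hqq : ∀ x : K, (x ^ p ^ n) ^ p ^ n = x := fun x => by
    rw [← pow_mul, ← sq, ← hK, FiniteField.pow_card]
  obtain ⟨C, hC⟩ := exists_coeff (p := p) A hl hr
  -- the non-zero terms
  have hterm : ∀ σ τ : K ≃+* K, C σ τ * (σ ω * τ ω) = ν * C σ τ := by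
    intro σ τ
    have h1 : ∀ y σ, (∑ᶠ τ : K ≃+* K, C σ τ * τ (ω * y)) * σ ω = ν * ∑ᶠ τ : K ≃+* K, C σ τ * τ y := by
      intro y σ
      refine coeff_eq (c := fun σ => (∑ᶠ τ : K ≃+* K, C σ τ * τ (ω * y)) * σ ω)
        (c' := fun σ => ν * ∑ᶠ τ : K ≃+* K, C σ τ * τ y) (fun x => ?_) σ
      have e := hinv x y
      rw [hC, hC, finsum_eq_sum_of_fintype, finsum_eq_sum_of_fintype, Finset.mul_sum] at e
      rw [finsum_eq_sum_of_fintype, finsum_eq_sum_of_fintype]
      convert e using 1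
      · exact Finset.sum_congr rfl fun σ _ => by rw [map_mul]; ring
      · exact Finset.sum_congr rfl fun σ _ => by ring
    refine coeff_eq (c := fun τ => C σ τ * (σ ω * τ ω)) (c' := fun τ => ν * C σ τ) (fun y => ?_) τ
    have e := h1 y σ
    rw [finsum_eq_sum_of_fintype, finsum_eq_sum_of_fintype, Finset.sum_mul, Finset.mul_sum] at e
    rw [finsum_eq_sum_of_fintype, finsum_eq_sum_of_fintype]
    convert e using 1
    · exact Finset.sum_congr rfl fun τ _ => by rw [map_mul]; ring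
    · exact Finset.sum_congr rfl fun τ _ => by ring
  have hskew : ∀ σ τ : K ≃+* K, C τ σ = -C σ τ := by
    intro σ τ
    refine coeff_eq (c := fun σ => C τ σ) (c' := fun σ => -C σ τ) (fun y => ?_) σ
    refine coeff_eq (c := fun τ => ∑ᶠ σ : K ≃+* K, C τ σ * σ y)
      (c' := fun τ => ∑ᶠ σ : K ≃+* K, -C σ τ * σ y) (fun x => ?_) τ
    rw [← hC, halt y x, hC]
    simp only [finsum_eq_sum_of_fintype, Finset.sum_mul, ← Finset.sum_neg_distrib]
    rw [Finset.sum_comm]
    exact Finset.sum_congr rfl fun τ _ => Finset.sum_congr rfl fun σ _ => by ring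
  have hsupp : ∀ σ τ : K ≃+* K, C σ τ ≠ 0 → τ = cjE.trans σ ∧ σ (ω ^ (p ^ n + 1)) = ν := by
    intro σ τ h0
    have e : σ ω * τ ω = ν := mul_left_cancel₀ h0 ((hterm σ τ).trans (mul_comm _ _))
    set ρ := τ.trans σ.symm with hρ
    have hτ : ∀ x, τ x = σ (ρ x) := fun x => by simp [hρ]
    obtain ⟨m, hm, hmx⟩ := exists_exp (p := p) hK ρ
    have e' : σ (ω ^ (p ^ m + 1)) = ν := by rw [← e, hτ, hmx, ← map_mul, pow_succ']
    have e2 : orderOf ω ∣ (p ^ m + 1) * (p ^ n - 1) := by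
      refine orderOf_dvd_of_pow_eq_one (σ.injective ?_)
      rw [pow_mul, map_pow, e', ← hν, pow_orderOf_eq_one, map_one]
    have e3 := Nat.mul_dvd_mul_left d e2
    rw [hω, show (p ^ n) ^ 2 - 1 = (p ^ n + 1) * (p ^ n - 1) by rw [← Nat.sq_sub_sq, one_pow], ← mul_assoc] at e3
    rcases exp_cases hp hd hm (Nat.dvd_of_mul_dvd_mul_right (by omega) e3) with rfl | rfl
    · exfalso
      have hστ : τ = σ := RingEquiv.ext fun x => by rw [hτ, hmx, pow_zero, pow_one]
      have h3 := hskew σ σ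
      rw [eq_neg_iff_add_eq_zero, ← two_mul, mul_eq_zero] at h3
      exact h0 (hστ ▸ h3.resolve_left h2)
    · exact ⟨RingEquiv.ext fun x => by rw [hτ, hmx, RingEquiv.trans_apply, hcj], e'⟩
  obtain ⟨σ₀, hσ₀⟩ : ∃ σ : K ≃+* K, σ (ω ^ (p ^ n + 1)) = ν := by
    by_contra hno
    push Not at hno
    obtain ⟨x, y, hxy⟩ := hA
    refine hxy ?_
    rw [hC]
    refine finsum_eq_zero_of_forall_eq_zero fun σ => ?_
    rw [finsum_eq_zero_of_forall_eq_zero fun τ => ?_, zero_mul]
    rw [show C σ τ = 0 from by_contra fun h0 => hno σ (hsupp σ τ h0).2, zero_mul]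
  set ν' := ω ^ (p ^ n + 1) with hν'
  have hν'0 : ν' ≠ 0 := pow_ne_zero _ hω0
  have hν'o : orderOf ν' = p ^ n - 1 := by
    rw [← hν, ← hσ₀]; exact (MulEquiv.orderOf_eq σ₀.toMulEquiv ν').symm
  -- only two automorphisms occur
  have htwo : ∀ σ : K ≃+* K, σ ν' = ν → σ = σ₀ ∨ σ = cjE.trans σ₀ := by
    intro σ hσ
    set ρ := σ.trans σ₀.symm with hρ
    have hσρ : ∀ x, σ x = σ₀ (ρ x) := fun x => by simp [hρ]
    obtain ⟨m, hm, hmx⟩ := exists_exp (p := p) hK ρ
    have h1 : ν' ^ p ^ m = ν' := σ₀.injective (by rw [← hmx, ← hσρ, hσ, hσ₀])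
    obtain ⟨r, i, hr', hir⟩ : ∃ r i, r < n ∧ m = r + i * n :=
      ⟨m % n, m / n, Nat.mod_lt _ hn, by rw [mul_comm (m / n) n, Nat.mod_add_div]⟩
    have hi : i < 2 := by
      by_contra hi
      have : 2 * n ≤ i * n := Nat.mul_le_mul_right _ (by omega)
      omega
    have h3 : ν' ^ p ^ r = ν' := by
      have hfix : ν' ^ p ^ n = ν' := by
        rw [show p ^ n = (p ^ n - 1) + 1 by omega, pow_succ, ← hν'o, pow_orderOf_eq_one, one_mul]
      interval_cases i
      · rwa [hir, Nat.zero_mul, Nat.add_zero] at h1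
      · rwa [hir, Nat.one_mul, pow_add, mul_comm, pow_mul, hfix] at h1
    have hr0 : r = 0 := by
      by_contra hr0
      have hp_r : 1 < p ^ r := Nat.one_lt_pow hr0 hp1
      have h4 : ν' ^ (p ^ r - 1) = 1 := by
        refine mul_right_cancel₀ hν'0 ?_
        rw [← pow_succ, Nat.sub_add_cancel hp_r.le, h3, one_mul]
      have h5 := Nat.le_of_dvd (by omega) (hν'o ▸ orderOf_dvd_of_pow_eq_one h4)
      have h6 : p ^ r < p ^ n := Nat.pow_lt_pow_right hp1 hr'
      omega
    subst hr0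
    interval_cases i
    · left; exact RingEquiv.ext fun x => by rw [hσρ, hmx, hir]; simp
    · right; exact RingEquiv.ext fun x => by rw [hσρ, hmx, RingEquiv.trans_apply, hcj, hir]; simp
  have hne : σ₀ ≠ cjE.trans σ₀ := fun e => by
    have h1 : ∀ x : K, x ^ p ^ n = x := fun x => σ₀.injective (by
      rw [← hcj]; exact (RingEquiv.congr_fun e x).symm)
    obtain ⟨g, hg⟩ := IsCyclic.exists_ofOrder_eq_natCard (α := Kˣ)
    have h3 : g ^ (p ^ n - 1) = 1 := by
      refine Units.ext (mul_right_cancel₀ g.ne_zero ?_)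
      rw [Units.val_pow_eq_pow_val, ← pow_succ, Nat.sub_add_cancel (by omega), h1, Units.val_one, one_mul]
    have h4 := orderOf_dvd_of_pow_eq_one h3
    rw [hg, Nat.card_units, Nat.card_eq_fintype_card, hK] at h4
    have h5 := Nat.le_of_dvd (by omega) h4
    have : p ^ n * 3 ≤ (p ^ n) ^ 2 := by rw [sq]; exact Nat.mul_le_mul_left _ hq
    omega
  set C₀ := C σ₀ (cjE.trans σ₀) with hC₀
  have hcc : cjE.trans (cjE.trans σ₀) = σ₀ := RingEquiv.ext fun x => by
    simp only [RingEquiv.trans_apply, hcj, hqq]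
  have hA' : ∀ x y, A x y = C₀ * (σ₀ x * σ₀ (y ^ p ^ n) - σ₀ (x ^ p ^ n) * σ₀ y) := by
    intro x y
    rw [hC, finsum_eq_sum_of_fintype]
    rw [Finset.sum_eq_add (a := σ₀) (b := cjE.trans σ₀) hne (fun σ _ hσ => ?_) (by simp) (by simp)]
    · have hin : ∀ σ : K ≃+* K, ∑ᶠ τ : K ≃+* K, C σ τ * τ y = C σ (cjE.trans σ) * σ (y ^ p ^ n) := fun σ => by
        rw [finsum_eq_single _ (cjE.trans σ) fun τ hτ => by
          rw [show C σ τ = 0 from by_contra fun h0 => hτ (hsupp σ τ h0).1, zero_mul]]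
        simp [hcj]
      rw [hin, hin, hcc, hskew σ₀ (cjE.trans σ₀)]
      simp only [RingEquiv.trans_apply, hcj, hqq]
      ring
    · rw [finsum_eq_zero_of_forall_eq_zero fun τ => ?_, zero_mul]
      rw [show C σ τ = 0 from by_contra fun h0 => ?_, zero_mul]
      rcases htwo σ (hsupp σ τ h0).2 with h | h
      · exact hσ.1 h
      · exact hσ.2 h
  set c := -σ₀.symm C₀ with hc
  have hfin : ∀ x y, σ₀.symm (A x y) = c * (x ^ p ^ n * y - x * y ^ p ^ n) := by
    intro x y
    rw [hA', map_mul, map_sub, map_mul, map_mul]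
    simp only [RingEquiv.symm_apply_apply, hc]
    ring
  refine ⟨σ₀.symm, c, ?_, hfin, Or.inr (by rw [← hσ₀, RingEquiv.symm_apply_apply])⟩
  obtain ⟨x, y, hxy⟩ := hA
  have hne0 : x ^ p ^ n * y - x * y ^ p ^ n ≠ 0 := fun h => hxy (σ₀.symm.injective (by
    rw [hfin, h, mul_zero, map_zero]))
  have e := hfin x y
  have e2 : (σ₀.symm (A x y)) ^ p ^ n = σ₀.symm (A x y) := by rw [← map_pow, hF]
  rw [e, mul_pow, sub_pow_char_pow, mul_pow, mul_pow, hqq, hqq] at e2
  refine mul_right_cancel₀ hne0 ?_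
  linear_combination -e2

end Cfsg.Agent.Lie.UThreeOdd
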