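import Cfsg.Agent.Lib.Lie.UThreeOdd.Layer

/-!
`R` is central in `U`, and `H` acts faithfully and irreducibly on `U/R`, abelian of order `q²`. The elements outside
`W` centralise only the identity of `U`.
-/

set_option autoImplicit false
set_option linter.unusedSectionVars false

namespace Cfsg.Agent.Lie.UThreeOdd

open MulAction

universe u v

namespace Hyp

variable {G : Type u} {Ω : Type v} [Group G] [MulAction G Ω] [Finite G] [FaithfulSMul G Ω] (D : Hyp G Ω)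
include D

theorem isPGroup_U : IsPGroup D.p D.U := IsPGroup.of_card (n := D.n * 3) (by rw [D.card_U, pow_mul])

/-- An element of `H` outside `W` fixes only the identity of `R`. -/
theorem R_fpf {h : G} (hh : h ∈ D.H) (hW : h ∉ D.W) {r : G} (hr : r ∈ D.R) (hc : h * r = r * h) : r = 1 := by
  rcases D.R_irr (M := D.R ⊓ D.cU h) inf_le_left fun k hk u hu => by
    obtain ⟨h1, h2⟩ := Subgroup.mem_inf.1 hu
    refine Subgroup.mem_inf.2 ⟨D.H_R hk h1, D.mem_cU.2 ⟨D.H_conj hk (D.R_le h1), ?_⟩⟩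
    calc h * (k * u * k⁻¹) = k * (h * u) * k⁻¹ := by rw [← mul_assoc, ← mul_assoc, D.H_comm hh hk]; group
      _ = k * u * (h * k⁻¹) := by rw [(D.mem_cU.1 h2).2]; group
      _ = _ := by rw [D.H_comm hh (inv_mem hk)]; group
    with e | e
  · exact Subgroup.mem_bot.1 (e ▸ (Subgroup.mem_inf.2 ⟨hr, D.mem_cU.2 ⟨D.R_le hr, hc⟩⟩))
  · exact absurd (D.mem_W.2 ⟨hh, fun u hu => (D.mem_cU.1 (Subgroup.mem_inf.1 (e.ge hu)).2).2⟩) hW

theorem R_central {r : G} (hr : r ∈ D.R) {u : G} (hu : u ∈ D.U) : u * r = r * u := by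
  classical
  haveI := Fact.mk D.hp
  haveI := D.isPGroup_U.isNilpotent
  set Z : Subgroup G := (Subgroup.center D.U).map D.U.subtype with hZ
  have hmemZ : ∀ {z : G}, z ∈ Z ↔ z ∈ D.U ∧ ∀ v ∈ D.U, v * z = z * v := fun {z} => by
    constructor
    · rintro ⟨z, hz, rfl⟩
      exact ⟨z.2, fun v hv => congrArg Subtype.val (Subgroup.mem_center_iff.1 hz ⟨v, hv⟩)⟩
    · rintro ⟨h1, h2⟩
      exact ⟨⟨z, h1⟩, Subgroup.mem_center_iff.2 fun v => Subtype.ext (h2 v v.2), rfl⟩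
  have hZH : ∀ h ∈ D.H, ∀ z ∈ Z, h * z * h⁻¹ ∈ Z := fun h hh z hz => by
    obtain ⟨h1, h2⟩ := hmemZ.1 hz
    refine hmemZ.2 ⟨D.H_conj hh h1, fun v hv => ?_⟩
    have hv' : h⁻¹ * v * h ∈ D.U := by simpa using D.H_conj (inv_mem hh) hv
    calc v * (h * z * h⁻¹) = h * ((h⁻¹ * v * h) * z) * h⁻¹ := by group
      _ = h * (z * (h⁻¹ * v * h)) * h⁻¹ := by rw [h2 _ hv']
      _ = _ := by group
  rcases D.R_irr (M := D.R ⊓ Z) inf_le_left fun h hh x hx => Subgroup.mem_inf.2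
    ⟨D.H_R hh (Subgroup.mem_inf.1 hx).1, hZH h hh x (Subgroup.mem_inf.1 hx).2⟩ with e | e
  swap
  · exact (hmemZ.1 (Subgroup.mem_inf.1 (e.ge hr)).2).2 u hu
  exfalso
  have hmul : Nat.card Z * D.q ≤ D.q ^ 3 := by
    rw [← D.card_R, ← Nat.card_prod]
    refine le_of_le_of_eq (Nat.card_le_card_of_injective
      (fun w : Z × D.R => (⟨(w.1 : G) * w.2, mul_mem (hmemZ.1 w.1.2).1 (D.R_le w.2.2)⟩ : D.U)) fun w w' h => ?_) ?_
    · have h' : (w.1 : G) * w.2 = w'.1 * w'.2 := congrArg Subtype.val h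
      have h2 : (w'.1 : G)⁻¹ * w.1 ∈ D.R ⊓ Z := Subgroup.mem_inf.2 ⟨by
          rw [show (w'.1 : G)⁻¹ * w.1 = w'.2 * (w.2 : G)⁻¹ by
            rw [eq_mul_inv_iff_mul_eq, mul_assoc, h', inv_mul_cancel_left]]
          exact mul_mem w'.2.2 (inv_mem w.2.2), mul_mem (inv_mem w'.1.2) w.1.2⟩
      rw [e, Subgroup.mem_bot, inv_mul_eq_one] at h2
      exact Prod.ext (Subtype.ext h2.symm) (Subtype.ext (mul_left_cancel (h2 ▸ h' : (w.1 : G) * w.2 = w.1 * w'.2)))
    · rw [D.card_U, D.card_R]; rfl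
  have hq := D.three_le_q
  haveI : Nontrivial D.U := Finite.one_lt_card_iff_nontrivial.1 (by
    rw [D.card_U]
    exact Nat.one_lt_pow (by norm_num) (Nat.one_lt_pow (by have := D.hn; omega) D.hp.one_lt))
  haveI : Nontrivial Z := by
    rw [Subgroup.nontrivial_iff_ne_bot, hZ, Ne, Subgroup.map_eq_bot_iff_of_injective _ D.U.subtype_injective]
    exact Group.IsNilpotent.center_ne_bot _
  have hcard : Nat.card Z ≤ D.q ^ 2 :=
    Nat.le_of_mul_le_mul_right (hmul.trans_eq (pow_succ D.q 2)) (by omega)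
  have hZU : Z ≤ D.U := fun z hz => (hmemZ.1 hz).1
  obtain ⟨h1, -⟩ := D.layer (D.isPGroup_U.to_le hZU) hcard (D.act Z hZH)
    (fun h hh hne v hv => by
      have h2 : (v : G) ∈ D.cU h := D.mem_cU.2 ⟨hZU v.2, mul_inv_eq_iff_eq_mul.1 (congrArg Subtype.val hv)⟩
      rw [D.cU_W hh (fun e' => hne (Subtype.ext e'))] at h2
      exact Subtype.ext (Subgroup.mem_bot.1 (e ▸ (Subgroup.mem_inf.2 ⟨h2, v.2⟩))))
    (fun h hne => by
      refine le_trans (Nat.card_le_card_of_injective (fun v : {v : Z // D.act Z hZH h v = v} =>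
        (⟨((v : Z) : G), D.mem_cU.2 ⟨hZU v.1.2, mul_inv_eq_iff_eq_mul.1 (congrArg Subtype.val v.2)⟩⟩ :
          D.cU (h : G))) fun v v' e' => Subtype.ext (Subtype.ext (congrArg (fun x : D.cU (h : G) => (x : G)) e')))
        (D.cU_le h.2 fun e' => hne (Subtype.ext e')))
  have hinj : Function.Injective (fun w : Z × D.R =>
      (⟨(w.1 : G) * w.2, mul_mem (hZU w.1.2) (D.R_le w.2.2)⟩ : D.U)) := fun w w' h => by
    have h' : (w.1 : G) * w.2 = w'.1 * w'.2 := congrArg Subtype.val h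
    have h2 : (w'.1 : G)⁻¹ * w.1 ∈ D.R ⊓ Z := Subgroup.mem_inf.2 ⟨by
        rw [show (w'.1 : G)⁻¹ * w.1 = w'.2 * (w.2 : G)⁻¹ by
          rw [eq_mul_inv_iff_mul_eq, mul_assoc, h', inv_mul_cancel_left]]
        exact mul_mem w'.2.2 (inv_mem w.2.2), mul_mem (inv_mem w'.1.2) w.1.2⟩
    rw [e, Subgroup.mem_bot, inv_mul_eq_one] at h2
    exact Prod.ext (Subtype.ext h2.symm) (Subtype.ext (mul_left_cancel (h2 ▸ h' : (w.1 : G) * w.2 = w.1 * w'.2)))
  have hsurj := ((Nat.bijective_iff_injective_and_card _).mpr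
    ⟨hinj, by rw [Nat.card_prod, h1, D.card_R, D.card_U]; exact (pow_succ D.q 2).symm⟩).2
  -- then `U = ZR` is abelian
  have hab : ∀ v ∈ D.R, ∀ x ∈ D.U, x * v = v * x := fun v hv x hx => by
    obtain ⟨⟨⟨z, hz⟩, ⟨r', hr'⟩⟩, hzr⟩ := hsurj ⟨x, hx⟩
    have e' : z * r' = x := congrArg Subtype.val hzr
    rw [← e', mul_assoc, D.R_comm hr' hv, ← mul_assoc, ← (hmemZ.1 hz).2 v (D.R_le hv), mul_assoc]
  obtain ⟨⟨r', hr'⟩, hr1⟩ := Subgroup.ne_bot_iff_exists_ne_one.1 D.R_ne_bot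
  exact hr1 (Subtype.ext (Subgroup.mem_bot.1 (e ▸ (Subgroup.mem_inf.2
    ⟨hr', hmemZ.2 ⟨D.R_le hr', fun x hx => hab r' hr' x hx⟩⟩))))

instance R_normal : (D.R.subgroupOf D.U).Normal := ⟨fun x hx g => by
  rw [Subgroup.mem_subgroupOf] at hx ⊢
  simpa [D.R_central hx g.2] using hx⟩

/-- The action of `H` on `U/R`. -/
noncomputable def actV : D.H →* MulAut (D.U ⧸ D.R.subgroupOf D.U) where
  toFun h :=
    let f : ∀ k : D.H, D.U ⧸ D.R.subgroupOf D.U →* D.U ⧸ D.R.subgroupOf D.U := fun k =>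
      QuotientGroup.map _ _ (D.act D.U (fun _ hh _ hu => D.H_conj hh hu) k).toMonoidHom fun x hx => by
        rw [Subgroup.mem_comap, Subgroup.mem_subgroupOf]
        exact D.H_R k.2 (Subgroup.mem_subgroupOf.1 hx)
    { toFun := f h
      invFun := f h⁻¹
      left_inv := fun x => by
        obtain ⟨x, rfl⟩ := QuotientGroup.mk_surjective x
        exact congrArg QuotientGroup.mk (Subtype.ext (by simp [D.act_apply, mul_assoc]))
      right_inv := fun x => by
        obtain ⟨x, rfl⟩ := QuotientGroup.mk_surjective x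
        exact congrArg QuotientGroup.mk (Subtype.ext (by simp [D.act_apply, mul_assoc]))
      map_mul' := map_mul (f h) }
  map_one' := MulEquiv.ext fun x => by
    obtain ⟨x, rfl⟩ := QuotientGroup.mk_surjective x
    exact congrArg QuotientGroup.mk (Subtype.ext (by simp [D.act_apply]))
  map_mul' h k := MulEquiv.ext fun x => by
    obtain ⟨x, rfl⟩ := QuotientGroup.mk_surjective x
    exact congrArg QuotientGroup.mk (Subtype.ext (by simp [D.act_apply, mul_assoc]))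

theorem actV_mk (h : D.H) (u : D.U) :
    D.actV h (u : D.U ⧸ D.R.subgroupOf D.U) = ((⟨(h : G) * u * (h : G)⁻¹, D.H_conj h.2 u.2⟩ : D.U) :
      D.U ⧸ D.R.subgroupOf D.U) := rfl

theorem card_V : Nat.card (D.U ⧸ D.R.subgroupOf D.U) = D.q ^ 2 := by
  have h := (D.R.subgroupOf D.U).card_eq_card_quotient_mul_card_subgroup
  rw [Nat.card_congr (Subgroup.subgroupOfEquivOfLe D.R_le).toEquiv, D.card_R, D.card_U, ← D.q_def, pow_succ D.q 2] at h
  exact (Nat.eq_of_mul_eq_mul_right (by have := D.three_le_q; omega) h).symm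

/-- An element of `W` fixing a coset of `R` lies in `R`. -/
theorem mem_R_of_W {w : G} (hw : w ∈ D.W) (hw1 : w ≠ 1) {u : G} (hu : u ∈ D.U)
    (h : u⁻¹ * (w * u * w⁻¹) ∈ D.R) : u ∈ D.R := by
  haveI := Fact.mk D.hp
  have hwH := (D.mem_W.1 hw).1
  set y := u⁻¹ * (w * u * w⁻¹) with hy
  have hk : ∀ k : ℕ, w ^ k * u * (w ^ k)⁻¹ = u * y ^ k := by
    intro k
    induction k with
    | zero => simp
    | succ k ih =>
      calc w ^ (k + 1) * u * (w ^ (k + 1))⁻¹ = w * (w ^ k * u * (w ^ k)⁻¹) * w⁻¹ := by rw [pow_succ']; group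
        _ = w * u * w⁻¹ * (w * y ^ k * w⁻¹) := by rw [ih]; group
        _ = w * u * w⁻¹ * y ^ k := by
          rw [(D.mem_W.1 hw).2 _ (pow_mem h k), mul_inv_cancel_right]
        _ = _ := by rw [pow_succ', show w * u * w⁻¹ = u * y by rw [hy, mul_inv_cancel_left], mul_assoc]
  have h1 := hk (orderOf w)
  rw [pow_orderOf_eq_one, one_mul, inv_one, mul_one, left_eq_mul] at h1
  obtain ⟨j, hj⟩ := D.exists_pow D.R_le
  have h2 : y = 1 := orderOf_eq_one_iff.1 (Nat.eq_one_of_dvd_coprimes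
    ((D.coprime_H.coprime_dvd_left (Subgroup.orderOf_dvd_natCard _ hwH)).pow_right j)
    (orderOf_dvd_of_pow_eq_one h1) (hj ▸ Subgroup.orderOf_dvd_natCard _ h))
  rw [← D.cU_W hw hw1]
  refine D.mem_cU.2 ⟨hu, mul_inv_eq_iff_eq_mul.1 ?_⟩
  rw [hy, inv_mul_eq_one] at h2
  exact h2.symm

/-- `U/R` is abelian, and `H` acts faithfully and irreducibly on it. -/
theorem layer_V : Function.Injective D.actV ∧
    (∀ x y : D.U ⧸ D.R.subgroupOf D.U, x * y = y * x) ∧
      ∀ M : Subgroup (D.U ⧸ D.R.subgroupOf D.U), (∀ h, ∀ x ∈ M, D.actV h x ∈ M) → M = ⊥ ∨ M = ⊤ := by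
  classical
  haveI : Nontrivial (D.U ⧸ D.R.subgroupOf D.U) := Finite.one_lt_card_iff_nontrivial.1 (by
    rw [D.card_V]; exact Nat.one_lt_pow (by norm_num) (by have := D.three_le_q; omega))
  refine (D.layer (D.isPGroup_U.to_quotient _) D.card_V.le D.actV (fun h hh hne x hx => ?_) fun h hne => ?_).2
  · obtain ⟨u, rfl⟩ := QuotientGroup.mk_surjective x
    rw [D.actV_mk, eq_comm, QuotientGroup.eq] at hx
    exact (QuotientGroup.eq_one_iff u).2 (Subgroup.mem_subgroupOf.2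
      (D.mem_R_of_W hh (fun e' => hne (Subtype.ext e')) u.2 (Subgroup.mem_subgroupOf.1 hx)))
  · have hh1 : (h : G) ≠ 1 := fun e' => hne (Subtype.ext e')
    by_cases hW : (h : G) ∈ D.W
    · haveI : Subsingleton {v : D.U ⧸ D.R.subgroupOf D.U // D.actV h v = v} := by
        suffices hs : ∀ v : {v : D.U ⧸ D.R.subgroupOf D.U // D.actV h v = v}, v.1 = 1 from
          ⟨fun v v' => Subtype.ext ((hs v).trans (hs v').symm)⟩
        rintro ⟨x, hx⟩
        obtain ⟨u, rfl⟩ := QuotientGroup.mk_surjective x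
        rw [D.actV_mk, eq_comm, QuotientGroup.eq] at hx
        exact (QuotientGroup.eq_one_iff u).2 (Subgroup.mem_subgroupOf.2
          (D.mem_R_of_W hW hh1 u.2 (Subgroup.mem_subgroupOf.1 hx)))
      exact (Finite.card_le_one_iff_subsingleton.2 inferInstance).trans (by have := D.three_le_q; omega)
    · -- every fixed coset contains a fixed element
      let δ : D.R → D.R := fun r => ⟨(h : G) * r * (h : G)⁻¹ * (r : G)⁻¹, mul_mem (D.H_R h.2 r.2) (inv_mem r.2)⟩
      have hδ : Function.Injective δ := fun r r' e' => by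
        have e1 : (h : G) * r * (h : G)⁻¹ * (r : G)⁻¹ = h * r' * (h : G)⁻¹ * (r' : G)⁻¹ := congrArg Subtype.val e'
        rw [mul_inv_eq_iff_eq_mul] at e1
        refine Subtype.ext (inv_mul_eq_one.1 (D.R_fpf h.2 hW (mul_mem (inv_mem r.2) r'.2) ?_))
        rw [← mul_inv_eq_iff_eq_mul]
        calc (h : G) * ((r : G)⁻¹ * r') * (h : G)⁻¹
            = ((h : G) * r * (h : G)⁻¹)⁻¹ * (h * r' * (h : G)⁻¹) := by group
          _ = (r : G)⁻¹ * r' := by rw [e1]; group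
      have hex : ∀ v : {v : D.U ⧸ D.R.subgroupOf D.U // D.actV h v = v}, ∃ u : D.cU (h : G),
          ((⟨u, (D.mem_cU.1 u.2).1⟩ : D.U) : D.U ⧸ D.R.subgroupOf D.U) = v.1 := by
        rintro ⟨x, hx⟩
        obtain ⟨u, rfl⟩ := QuotientGroup.mk_surjective x
        rw [D.actV_mk, eq_comm, QuotientGroup.eq, Subgroup.mem_subgroupOf] at hx
        obtain ⟨r, hr⟩ := (Finite.injective_iff_surjective.1 hδ) ⟨_, inv_mem hx⟩
        have hr' : (h : G) * r * (h : G)⁻¹ * (r : G)⁻¹ = ((u : G)⁻¹ * (h * u * (h : G)⁻¹))⁻¹ :=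
          congrArg Subtype.val hr
        refine ⟨⟨u * r, D.mem_cU.2 ⟨mul_mem u.2 (D.R_le r.2), mul_inv_eq_iff_eq_mul.1 ?_⟩⟩, ?_⟩
        · rw [mul_inv_eq_iff_eq_mul] at hr'
          calc (h : G) * (u * r) * (h : G)⁻¹ = h * u * (h : G)⁻¹ * (h * r * (h : G)⁻¹) := by group
            _ = _ := by rw [hr']; group
        · rw [QuotientGroup.eq, Subgroup.mem_subgroupOf]
          simp
      choose sec hsec using hex
      refine le_trans (Nat.card_le_card_of_injective sec fun v v' e' => Subtype.ext ?_) (D.cU_le h.2 hh1)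
      rw [← hsec v, e', hsec]

/-- An element of `H` outside `W` centralises no non-identity element of `U`. -/
theorem cU_eq_bot {h : G} (hh : h ∈ D.H) (hW : h ∉ D.W) : D.cU h = ⊥ := by
  refine (Subgroup.eq_bot_iff_forall _).2 fun u hu => ?_
  obtain ⟨hu, hc⟩ := D.mem_cU.1 hu
  obtain ⟨hinj, -, hirr⟩ := D.layer_V
  by_cases huR : u ∈ D.R
  · exact D.R_fpf hh hW huR hc
  exfalso
  set h' : D.H := ⟨h, hh⟩
  let M : Subgroup (D.U ⧸ D.R.subgroupOf D.U) :=
    { carrier := {x | D.actV h' x = x}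
      one_mem' := map_one (D.actV h')
      mul_mem' := fun {x y} hx hy => by
        show D.actV h' (x * y) = x * y
        rw [map_mul, hx, hy]
      inv_mem' := fun {x} hx => by
        show D.actV h' x⁻¹ = x⁻¹
        rw [map_inv, hx] }
  have huM : ((⟨u, hu⟩ : D.U) : D.U ⧸ D.R.subgroupOf D.U) ∈ M :=
    congrArg (fun x : D.U => (x : D.U ⧸ D.R.subgroupOf D.U)) (Subtype.ext (mul_inv_eq_iff_eq_mul.2 hc) :
      (⟨h * u * h⁻¹, D.H_conj hh hu⟩ : D.U) = ⟨u, hu⟩)
  rcases hirr M fun k x hx => by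
    show D.actV h' (D.actV k x) = D.actV k x
    rw [← MulAut.mul_apply, ← map_mul, show h' * k = k * h' from Subtype.ext (D.H_comm hh k.2), map_mul,
      MulAut.mul_apply, hx]
    with e | e
  · rw [e, Subgroup.mem_bot, QuotientGroup.eq_one_iff, Subgroup.mem_subgroupOf] at huM
    exact huR huM
  · have h1 : D.actV h' = 1 := MulEquiv.ext fun x => (e.ge (Subgroup.mem_top x) : D.actV h' x = x)
    have h2 : h = 1 := congrArg Subtype.val (hinj (h1.trans (map_one D.actV).symm))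
    exact hW (h2 ▸ one_mem D.W)

end Hyp

end Cfsg.Agent.Lie.UThreeOdd
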