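import Mathlib

/-!
An automorphism of coprime order of a finite `p`-group `P` has order less than `|P|`; one without invariant subgroups
on an abelian group is multiplication by a field element.
-/

set_option autoImplicit false

namespace Cfsg.Agent.Lie.UThreeOdd

universe u

/-- Trivial on a normal subgroup and on its quotient, and of order coprime to it: trivial. -/
theorem eq_one_of_series {P : Type u} [Group P] [Finite P] (f : MulAut P) (N : Subgroup P)
    (hN : ∀ x ∈ N, f x = x) (hq : ∀ x, x⁻¹ * f x ∈ N) (hc : (orderOf f).Coprime (Nat.card N)) :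
    f = 1 := by
  refine MulEquiv.ext fun x => ?_
  set y := x⁻¹ * f x with hy
  have hfx : f x = x * y := by rw [hy, mul_inv_cancel_left]
  have hk : ∀ k : ℕ, (f ^ k) x = x * y ^ k := by
    intro k
    induction k with
    | zero => simp
    | succ k ih =>
      rw [pow_succ', MulAut.mul_apply, ih, map_mul, map_pow, hfx, hN y (hq x), pow_succ', mul_assoc]
  have h1 := hk (orderOf f)
  rw [pow_orderOf_eq_one, MulAut.one_apply, left_eq_mul] at h1
  have h2 : (⟨y, hq x⟩ : N) = 1 := orderOf_eq_one_iff.1 (Nat.eq_one_of_dvd_coprimes hc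
    (orderOf_dvd_of_pow_eq_one (Subtype.ext (by simpa using h1))) (orderOf_dvd_natCard _))
  rw [MulAut.one_apply, hfx, show y = 1 from congrArg Subtype.val h2, mul_one]

section Field

variable {A : Type u} [AddCommGroup A] [Finite A] [Nontrivial A]

/-- An endomorphism without invariant subgroups is multiplication by a field element. -/
theorem exists_field (f : AddMonoid.End A)
    (hirr : ∀ B : AddSubgroup A, (∀ x ∈ B, f x ∈ B) → B = ⊥ ∨ B = ⊤) :
    ∃ (K : Type) (_ : Field K) (_ : Fintype K) (e : K ≃+ A) (ω : K), ∀ x : K, f (e x) = e (ω * x) := by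
  classical
  set S : Set (AddMonoid.End A) := {f} with hS
  have hScomm : ∀ x ∈ S, ∀ y ∈ S, x * y = y * x := by
    intro x hx y hy
    rw [Set.mem_singleton_iff.1 hx, Set.mem_singleton_iff.1 hy]
  letI : CommRing (Subring.closure S) := Subring.closureCommRingOfComm hScomm
  let fc : Subring.closure S := ⟨f, Subring.subset_closure rfl⟩
  have hcomm : ∀ (ψ : Subring.closure S) (x : A),
      (ψ : AddMonoid.End A) (f x) = f ((ψ : AddMonoid.End A) x) := fun ψ x =>
    congrArg (fun z : Subring.closure S => (z : AddMonoid.End A) x) (mul_comm ψ fc)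
  have hinj : ∀ ψ : Subring.closure S, ψ ≠ 0 → ∀ x, (ψ : AddMonoid.End A) x = 0 → x = 0 := by
    intro ψ hψ x hx
    rcases hirr (AddMonoidHom.ker ((ψ : AddMonoid.End A) : A →+ A)) (fun y hy => by
      show (ψ : AddMonoid.End A) (f y) = 0
      rw [hcomm, show (ψ : AddMonoid.End A) y = 0 from hy, map_zero]) with h | h
    · exact (AddSubgroup.mem_bot.1 (h ▸ (AddMonoidHom.mem_ker.2 hx)))
    · exact absurd (Subtype.ext (AddMonoidHom.ext fun y =>
        AddMonoidHom.mem_ker.1 (h ▸ AddSubgroup.mem_top y))) hψ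
  haveI : Finite (AddMonoid.End A) :=
    Finite.of_injective (fun ψ => (ψ : A → A)) DFunLike.coe_injective
  haveI : Fintype (Subring.closure S) := Fintype.ofFinite _
  obtain ⟨v, hv⟩ := exists_ne (0 : A)
  haveI : Nontrivial (Subring.closure S) := ⟨⟨1, 0, fun e => hv
    (congrArg (fun z : Subring.closure S => (z : AddMonoid.End A) v) e)⟩⟩
  haveI : NoZeroDivisors (Subring.closure S) := ⟨fun {ψ φ} h => by
    by_contra hne
    push Not at hne
    exact hne.2 (Subtype.ext (AddMonoidHom.ext fun x => hinj ψ hne.1 _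
      (congrArg (fun z : Subring.closure S => (z : AddMonoid.End A) x) h)))⟩
  haveI : IsDomain (Subring.closure S) := NoZeroDivisors.to_isDomain _
  letI : Field (Subring.closure S) := Fintype.fieldOfDomain _
  let ev : Subring.closure S →+ A :=
    { toFun := fun ψ => (ψ : AddMonoid.End A) v
      map_zero' := rfl
      map_add' := fun _ _ => rfl }
  have hev : Function.Bijective ev := by
    refine ⟨(injective_iff_map_eq_zero ev).mpr fun ψ hψ => by_contra fun hne => hv (hinj ψ hne v hψ),
      AddMonoidHom.range_eq_top.1 ((hirr ev.range ?_).resolve_left fun h => hv ?_)⟩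
    · rintro _ ⟨ψ, rfl⟩
      exact ⟨fc * ψ, rfl⟩
    · exact (AddSubgroup.mem_bot.1 (h ▸ (⟨1, rfl⟩ : v ∈ ev.range)))
  haveI : CharP (Subring.closure S) (ringChar (Subring.closure S)) := ringChar.charP _
  obtain ⟨r, k, hk⟩ := FiniteField.card (Subring.closure S) (ringChar (Subring.closure S))
  haveI := Fact.mk k
  haveI : Fintype (GaloisField (ringChar (Subring.closure S)) r) := Fintype.ofFinite _
  let ι : GaloisField (ringChar (Subring.closure S)) r ≃+* Subring.closure S :=
    FiniteField.ringEquivOfCardEq (by rw [hk, ← Nat.card_eq_fintype_card, GaloisField.card _ _ r.ne_zero])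
  refine ⟨_, inferInstance, inferInstance, ι.toAddEquiv.trans (AddEquiv.ofBijective ev hev),
    ι.symm fc, fun x => ?_⟩
  show f (ev (ι x)) = ev (ι (ι.symm fc * x))
  rw [map_mul, RingEquiv.apply_symm_apply]
  rfl

end Field

variable {P : Type u} [Group P] [Finite P] [Nontrivial P] {p : ℕ} [Fact p.Prime]

/-- The automorphisms of a subgroup and of a quotient. -/
theorem exists_restrict (f : MulAut P) (N : Subgroup P) (hN : ∀ x ∈ N, f x ∈ N) :
    ∃ g : MulAut N, ∀ (k : ℕ) (x : N), ((g ^ k) x : P) = (f ^ k) x := by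
  classical
  let φ : N →* N := (f.toMonoidHom.comp N.subtype).codRestrict N fun x => hN x x.2
  have hφ : Function.Bijective φ := Finite.injective_iff_bijective.1 fun x y h =>
    Subtype.ext (f.injective (congrArg Subtype.val h))
  refine ⟨MulEquiv.ofBijective φ hφ, fun k x => ?_⟩
  induction k with
  | zero => rfl
  | succ k ih => rw [pow_succ', pow_succ', MulAut.mul_apply, MulAut.mul_apply, ← ih]; rfl

omit [Nontrivial P] [Fact p.Prime] in
theorem exists_quotient (f : MulAut P) (N : Subgroup P) [N.Normal] (hN : ∀ x ∈ N, f x ∈ N) :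
    ∃ g : MulAut (P ⧸ N), ∀ (k : ℕ) (x : P), (g ^ k) (x : P ⧸ N) = (((f ^ k) x : P) : P ⧸ N) := by
  classical
  let φ : P ⧸ N →* P ⧸ N := QuotientGroup.map N N f.toMonoidHom fun x hx => hN x hx
  have hφ : Function.Surjective φ := fun y => by
    obtain ⟨y, rfl⟩ := QuotientGroup.mk_surjective y
    exact ⟨((f.symm y : P) : P ⧸ N), congrArg (QuotientGroup.mk) (f.apply_symm_apply y)⟩
  refine ⟨MulEquiv.ofBijective φ (Finite.surjective_iff_bijective.1 hφ), fun k x => ?_⟩
  induction k with
  | zero => rfl
  | succ k ih => rw [pow_succ', pow_succ', MulAut.mul_apply, MulAut.mul_apply, ih]; rfl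

/-- The order of an automorphism of coprime order is less than `|P|`, and equal to `|P| - 1` only if `P` is abelian
without invariant subgroups. -/
theorem orderOf_lt (hP : IsPGroup p P) (f : MulAut P) (hco : (orderOf f).Coprime p) :
    orderOf f + 1 ≤ Nat.card P ∧ (orderOf f + 1 = Nat.card P →
      (∀ x y : P, x * y = y * x) ∧ ∀ N : Subgroup P, (∀ x ∈ N, f x ∈ N) → N = ⊥ ∨ N = ⊤) := by
  classical
  induction hn : Nat.card P using Nat.strong_induction_on generalizing P with
  | _ n ih =>
  subst hn
  -- a minimal invariant subgroup of the centre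
  haveI := hP.isNilpotent
  haveI : Finite (Subgroup P) := Finite.of_injective (fun H : Subgroup P => (H : Set P)) SetLike.coe_injective
  have hcinv : ∀ x ∈ Subgroup.center P, f x ∈ Subgroup.center P := fun x hx =>
    Subgroup.mem_center_iff.2 fun y => by
      obtain ⟨y, rfl⟩ := f.surjective y
      rw [← map_mul, ← map_mul, Subgroup.mem_center_iff.1 hx y]
  obtain ⟨N, hNmin⟩ := exists_minimal_of_wellFoundedLT (α := Subgroup P) (P := fun N : Subgroup P =>
    N ≠ ⊥ ∧ N ≤ Subgroup.center P ∧ ∀ x ∈ N, f x ∈ N)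
    ⟨Subgroup.center P, Group.IsNilpotent.center_ne_bot _, le_rfl, hcinv⟩
  obtain ⟨hN1, hNc, hNf⟩ := hNmin.prop
  haveI : N.Normal := ⟨fun x hx g => by
    rw [Subgroup.mem_center_iff.1 (hNc hx) g, mul_inv_cancel_right]; exact hx⟩
  haveI : Nontrivial N := (Subgroup.nontrivial_iff_ne_bot N).2 hN1
  obtain ⟨g, hg⟩ := exists_restrict f N hNf
  letI : CommGroup N := { (inferInstance : Group N) with
    mul_comm := fun x y => Subtype.ext (Subgroup.mem_center_iff.1 (hNc y.2) x) }
  let φ : AddMonoid.End (Additive N) := g.toMonoidHom.toAdditive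
  obtain ⟨K, _, _, e, ω, hω⟩ := exists_field φ (fun B hB => by
    set M : Subgroup P := (B.toSubgroup').map N.subtype with hM
    by_cases hMb : M = ⊥
    · refine Or.inl ((AddSubgroup.eq_bot_iff_forall _).2 fun x hx => ?_)
      have h : ((Additive.toMul x : N) : P) ∈ M := ⟨Additive.toMul x, hx, rfl⟩
      rw [hMb, Subgroup.mem_bot] at h
      exact (Subtype.ext h : (Additive.toMul x : N) = 1)
    · have hle : M ≤ N := Subgroup.map_subtype_le _
      have hMN := hNmin.le_of_le ⟨hMb, hle.trans hNc, by
        rintro _ ⟨y, hy, rfl⟩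
        refine ⟨g y, hB _ hy, ?_⟩
        simpa using hg 1 y⟩ hle
      refine Or.inr (eq_top_iff.2 fun x _ => ?_)
      obtain ⟨y, hy, hyx⟩ := hMN (Additive.toMul x : N).2
      rw [show x = Additive.ofMul y from Additive.toMul.injective (Subtype.ext hyx.symm)]
      exact hy)
  -- its order
  have hωk : ∀ (k : ℕ) (x : K), (g ^ k) (Additive.toMul (e x)) = Additive.toMul (e (ω ^ k * x)) := by
    intro k x
    induction k with
    | zero => simp
    | succ k ih =>
      rw [pow_succ', MulAut.mul_apply, ih, pow_succ', mul_assoc]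
      exact congrArg Additive.toMul (hω (ω ^ k * x))
  have hω0 : ω ≠ 0 := fun h => by
    have h1 := hω 1
    rw [h, zero_mul, map_zero] at h1
    exact one_ne_zero (e.map_eq_zero_iff.1 (Additive.toMul.injective
      (g.map_eq_one_iff.1 (congrArg Additive.toMul h1))))
  set m := Fintype.card K - 1 with hm
  have hgm : g ^ m = 1 := MulEquiv.ext fun y => by
    obtain ⟨x, hx⟩ := e.surjective (Additive.ofMul y)
    rw [MulAut.one_apply, show y = Additive.toMul (e x) by rw [hx]; rfl, hωk,
      FiniteField.pow_card_sub_one_eq_one ω hω0, one_mul]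
  have hcardN : Fintype.card K = Nat.card N := by
    rw [← Nat.card_eq_fintype_card, Nat.card_congr e.toEquiv, Nat.card_congr Additive.toMul]
  have hfm : ∀ x ∈ N, (f ^ m) x = x := fun x hx => by
    rw [← hg m ⟨x, hx⟩, hgm]; rfl
  have hm1 : 1 < Fintype.card K := Fintype.one_lt_card
  by_cases hNT : N = ⊤
  · subst hNT
    have hfull : f ^ m = 1 := MulEquiv.ext fun x => hfm x (Subgroup.mem_top x)
    rw [Subgroup.card_top] at hcardN
    refine ⟨?_, fun _ => ⟨fun x y => Subgroup.mem_center_iff.1 (hNc (Subgroup.mem_top y)) x,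
      fun M hM => ?_⟩⟩
    · have := Nat.le_of_dvd (by omega) (orderOf_dvd_of_pow_eq_one hfull)
      omega
    · by_cases hMb : M = ⊥
      · exact Or.inl hMb
      · exact Or.inr (top_le_iff.1 (hNmin.le_of_le
          ⟨hMb, le_top.trans hNc, hM⟩ le_top))
  · have hlt : Nat.card (P ⧸ N) < Nat.card P := by
      have h1 := N.card_eq_card_quotient_mul_card_subgroup
      have h2 : 1 < Nat.card N := Finite.one_lt_card
      have h3 : 0 < Nat.card (P ⧸ N) := Nat.card_pos
      rw [h1]
      exact lt_mul_of_one_lt_right h3 h2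
    haveI : Nontrivial (P ⧸ N) := by
      rw [← Finite.one_lt_card_iff_nontrivial]
      exact lt_of_le_of_ne Nat.card_pos fun h => hNT (Subgroup.index_eq_one.1 h.symm)
    obtain ⟨g', hg'⟩ := exists_quotient f N hNf
    have hdvd : orderOf g' ∣ orderOf f := orderOf_dvd_of_pow_eq_one (MulEquiv.ext fun y => by
      obtain ⟨x, rfl⟩ := QuotientGroup.mk_surjective y
      rw [hg', pow_orderOf_eq_one]; rfl)
    have hb := (ih _ hlt (hP.to_quotient N) g' (Nat.Coprime.coprime_dvd_left hdvd hco) rfl).1
    set m' := orderOf g'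
    have h1 : f ^ (m' * m) = 1 := by
      refine eq_one_of_series _ N (fun x hx => ?_) (fun x => ?_) ?_
      · rw [mul_comm, pow_mul]
        have : ∀ j : ℕ, ((f ^ m) ^ j) x = x := fun j => by
          induction j with
          | zero => rfl
          | succ j ih => rw [pow_succ', MulAut.mul_apply, ih, hfm x hx]
        exact this _
      · rw [← QuotientGroup.eq, ← hg', pow_mul, pow_orderOf_eq_one, one_pow]; rfl
      · obtain ⟨j, hj⟩ := IsPGroup.iff_card.1 (hP.to_subgroup N)
        rw [hj]
        exact ((Nat.Coprime.coprime_dvd_left (orderOf_pow_dvd _) hco)).pow_right j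
    have hpos : 0 < m' := orderOf_pos g'
    have hle := Nat.le_of_dvd (Nat.mul_pos hpos (by omega)) (orderOf_dvd_of_pow_eq_one h1)
    have hc : Nat.card P = Nat.card (P ⧸ N) * Nat.card N := N.card_eq_card_quotient_mul_card_subgroup
    have hkey : orderOf f + 1 < Nat.card P := by
      have h4 : Nat.card N = m + 1 := by omega
      rw [hc, h4]
      calc orderOf f + 1 ≤ m' * m + 1 := by omega
        _ < (m' + 1) * (m + 1) := by ring_nf; omega
        _ ≤ _ := Nat.mul_le_mul_right _ hb
    exact ⟨hkey.le, fun h => absurd h hkey.ne⟩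

end Cfsg.Agent.Lie.UThreeOdd
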