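import Mathlib

/-!
The finite case `q = 5` of the pencil equation: with coordinates on the field of twenty-five elements, a function
semi-invariant under an element of order eight that satisfies the incidence condition is a multiple of the norm.
-/

set_option autoImplicit false

namespace Cfsg.Agent.Lie.UThreeOdd.FiveCheck

/-- Multiplication in the basis `1, i` with `i² = 2`. -/
def mul2 (p r : ZMod 5 × ZMod 5) : ZMod 5 × ZMod 5 :=
  (p.1 * r.1 + 2 * p.2 * r.2, p.1 * r.2 + p.2 * r.1)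

/-- The conjugate. -/
def bar2 (p : ZMod 5 × ZMod 5) : ZMod 5 × ZMod 5 := (p.1, -p.2)

/-- The norm. -/
def nm2 (p : ZMod 5 × ZMod 5) : ZMod 5 := p.1 * p.1 - 2 * p.2 * p.2

/-- Powers. -/
def pow2 (p : ZMod 5 × ZMod 5) : ℕ → ZMod 5 × ZMod 5
  | 0 => (1, 0)
  | n + 1 => mul2 (pow2 p n) p

/-- The point of class `k` and exponent `i`. -/
def el (k i : ℕ) : ZMod 5 × ZMod 5 := mul2 (pow2 (0, 2) i) (pow2 (1, 2) k)

/-- An incidence test: classes and exponents of the two points and of their difference. -/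
structure Pair where
  /-- class of the base point -/
  j : ℕ
  /-- class of the other point -/
  k : ℕ
  /-- exponent of the other point -/
  i : ℕ
  /-- class of the difference -/
  l : ℕ
  /-- exponent of the difference -/
  m : ℕ
  /-- the value of the cocycle -/
  s : ℕ

/-- The data of a test are right. -/
def Pair.Ok (t : Pair) : Prop :=
  t.j < 3 ∧ t.k < 3 ∧ t.l < 3 ∧ el t.k t.i ≠ el t.j 0 ∧ el t.k t.i - el t.j 0 = el t.l t.m ∧
    mul2 (0, 1) (mul2 (bar2 (el t.j 0)) (el t.k t.i) - mul2 (el t.j 0) (bar2 (el t.k t.i))) = ((t.s : ZMod 5), 0)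

instance (t : Pair) : Decidable t.Ok := by unfold Pair.Ok; infer_instance

/-- The tests. -/
def tests : List Pair :=
  [⟨0, 2, 4, 0, 3, 4⟩, ⟨0, 2, 1, 0, 5, 2⟩, ⟨0, 2, 7, 2, 4, 4⟩, ⟨0, 2, 2, 1, 0, 3⟩, ⟨2, 0, 4, 0, 3, 1⟩,
    ⟨2, 0, 1, 2, 1, 2⟩, ⟨2, 0, 7, 0, 0, 4⟩, ⟨0, 2, 6, 1, 5, 2⟩, ⟨2, 0, 2, 1, 3, 2⟩, ⟨0, 2, 3, 1, 6, 1⟩,
    ⟨0, 2, 5, 1, 1, 3⟩, ⟨0, 1, 3, 1, 2, 4⟩, ⟨2, 1, 0, 1, 5, 1⟩, ⟨2, 1, 2, 2, 5, 3⟩, ⟨1, 2, 1, 0, 3, 4⟩,
    ⟨2, 1, 5, 2, 3, 1⟩, ⟨0, 1, 5, 2, 1, 2⟩, ⟨0, 1, 4, 2, 6, 2⟩]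

theorem tests_ok : ∀ t ∈ tests, t.Ok := by decide

/-- One of three values. -/
def pick (a b c : ℕ) : ℕ → ℕ
  | 0 => a
  | 1 => b
  | _ => c

/-- The expression that must vanish. -/
def expr (t : Pair) (nu cc : ℕ) (I R : ℕ → ℕ) : ℕ :=
  let a := nu ^ t.i
  let b := nu ^ t.m
  let d := R t.j + 4 * (a * R t.k) + 4 * (t.s * cc) + b * R t.l
  let e := b * I t.l
  e * (R t.j * R t.j + 3 * (I t.j * I t.j)) + I t.j * (d * d + 3 * (e * e))

/-- The test fails. -/
def fail (t : Pair) (nu cc : ℕ) (I R : ℕ → ℕ) : Bool :=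
  nu ^ t.i * I t.k % 5 == I t.j && !(expr t nu cc I R % 5 == 0)

/-- The check for one value of the coefficient. -/
def check (nu cc : ℕ) : Bool :=
  (List.range 4).all fun u => (List.range 4).all fun v => (List.range 5).all fun r₀ => (List.range 5).all fun r₁ =>
    (List.range 5).all fun r₂ =>
      (tests.any fun t => fail t nu cc (pick 1 (u + 1) (v + 1)) (pick r₀ r₁ r₂)) ||
        (u == 2 && v == 3 && r₀ == 0 && r₁ == 0 && r₂ == 0 && (cc == 1 || cc == 4) && nu == 2)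

set_option maxRecDepth 100000 in
set_option maxHeartbeats 4000000 in
theorem check20 : check 2 0 = true := by decide +kernel

set_option maxRecDepth 100000 in
set_option maxHeartbeats 4000000 in
theorem check21 : check 2 1 = true := by decide +kernel

set_option maxRecDepth 100000 in
set_option maxHeartbeats 4000000 in
theorem check22 : check 2 2 = true := by decide +kernel

set_option maxRecDepth 100000 in
set_option maxHeartbeats 4000000 in
theorem check23 : check 2 3 = true := by decide +kernel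

set_option maxRecDepth 100000 in
set_option maxHeartbeats 4000000 in
theorem check24 : check 2 4 = true := by decide +kernel

set_option maxRecDepth 100000 in
set_option maxHeartbeats 4000000 in
theorem check30 : check 3 0 = true := by decide +kernel

theorem check_all {nu cc : ℕ} (hnu : nu = 2 ∨ nu = 3) (hcc : cc < 5) (h : nu = 3 → cc = 0) :
    check nu cc = true := by
  rcases hnu with rfl | rfl
  · interval_cases cc
    exacts [check20, check21, check22, check23, check24]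
  · obtain rfl := h rfl
    exact check30

theorem el_surj : ∀ p : ZMod 5 × ZMod 5, p ≠ 0 → ∃ k ∈ List.range 3, ∃ i ∈ List.range 8, el k i = p := by
  decide +kernel

theorem nm_el : ∀ k ∈ List.range 3, ∀ i ∈ List.range 8,
    nm2 (el k i) = 2 ^ i * (pick 1 3 4 k : ZMod 5) := by
  decide +kernel

theorem neg_el : ∀ j ∈ List.range 3, el j 4 ≠ el j 0 ∧ el j 4 - el j 0 = el j 2 ∧ bar2 (el j 4) = -bar2 (el j 0) ∧
    el j 4 = -el j 0 := by
  decide +kernel

theorem nu_facts : ((2 : ℕ) : ZMod 5) ^ 4 = 1 ∧ ((2 : ℕ) : ZMod 5) ^ 2 = -1 ∧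
    ((3 : ℕ) : ZMod 5) ^ 4 = 1 ∧ ((3 : ℕ) : ZMod 5) ^ 2 = -1 := by decide

theorem sq_ne_two : ∀ a : ZMod 5, a * a ≠ 2 := by decide

theorem four_three : (4 : ZMod 5) = -1 ∧ (3 : ZMod 5) = -2 := by decide

theorem eq_zero_of_eq_neg : ∀ a : ZMod 5, a = -a → a = 0 := by decide

section Field

variable {K : Type} [Field K] [CharP K 5] (ι : K)

/-- The element with given coordinates. -/
def val (p : ZMod 5 × ZMod 5) : K := ZMod.castHom dvd_rfl K p.1 + ZMod.castHom dvd_rfl K p.2 * ι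

theorem val_def (a b : ZMod 5) : val ι (a, b) = ZMod.castHom dvd_rfl K a + ZMod.castHom dvd_rfl K b * ι := rfl

theorem val_add (p r : ZMod 5 × ZMod 5) : val ι (p + r) = val ι p + val ι r := by
  simp only [val, Prod.fst_add, Prod.snd_add, map_add]; ring

theorem val_neg (p : ZMod 5 × ZMod 5) : val ι (-p) = -val ι p := by
  simp only [val, Prod.fst_neg, Prod.snd_neg, map_neg]; ring

theorem val_sub (p r : ZMod 5 × ZMod 5) : val ι (p - r) = val ι p - val ι r := by
  rw [sub_eq_add_neg, val_add, val_neg, sub_eq_add_neg]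

theorem val_zero : val ι 0 = 0 := by simp [val]

theorem val_scal (a : ZMod 5) : val ι (a, 0) = ZMod.castHom dvd_rfl K a := by simp [val]

variable {ι}

theorem val_mul (hι : ι * ι = 2) (p r : ZMod 5 × ZMod 5) : val ι (mul2 p r) = val ι p * val ι r := by
  simp only [val, mul2, map_add, map_mul, map_ofNat]
  linear_combination -(ZMod.castHom dvd_rfl K p.2 * ZMod.castHom dvd_rfl K r.2) * hι

theorem val_pow (hι : ι * ι = 2) (p : ZMod 5 × ZMod 5) (n : ℕ) : val ι (pow2 p n) = val ι p ^ n := by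
  induction n with
  | zero => simp [pow2, val]
  | succ n ih => rw [pow2, val_mul hι, ih, pow_succ]

theorem five_zero : (5 : K) = 0 := by
  have := CharP.cast_eq_zero K 5
  simpa using this

theorem val_frob (hι : ι * ι = 2) (p : ZMod 5 × ZMod 5) : val ι p ^ 5 = val ι (bar2 p) := by
  haveI : Fact (Nat.Prime 5) := ⟨by norm_num⟩
  haveI : ExpChar K 5 := ExpChar.prime (by norm_num)
  have hι5 : ι ^ 5 = -ι := by
    linear_combination (ι * (ι * ι + 2)) * hι + ι * five_zero (K := K)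
  simp only [val, bar2, map_neg]
  rw [add_pow_char, mul_pow, ← map_pow, ← map_pow, ZMod.pow_card, ZMod.pow_card, hι5]
  ring

theorem iota_sq_ne (hι : ι * ι = 2) (a : ZMod 5) : ι ≠ ZMod.castHom dvd_rfl K a := by
  haveI : Fact (Nat.Prime 5) := ⟨by norm_num⟩
  intro h
  refine sq_ne_two a ((ZMod.castHom dvd_rfl K).injective ?_)
  rw [map_mul, ← h, hι, map_ofNat]

theorem val_inj (hι : ι * ι = 2) : Function.Injective (val (K := K) ι) := by
  haveI : Fact (Nat.Prime 5) := ⟨by norm_num⟩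
  intro p r h
  have h0 : val ι (p - r) = 0 := by rw [val_sub, h, sub_self]
  set d := p - r with hd
  suffices d = 0 from sub_eq_zero.1 this
  by_cases hb : d.2 = 0
  · rw [val, hb, map_zero, zero_mul, add_zero] at h0
    exact Prod.ext ((ZMod.castHom dvd_rfl K).injective (h0.trans (map_zero _).symm)) hb
  · refine absurd ?_ (iota_sq_ne hι (-d.1 / d.2))
    rw [val] at h0
    have hb' : ZMod.castHom dvd_rfl K d.2 ≠ 0 := (map_ne_zero _).2 hb
    rw [map_div₀, map_neg, eq_div_iff hb']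
    linear_combination h0

/-- Equal values of the imaginary quotient. -/
theorem cross (hι : ι * ι = 2) {d e : ZMod 5 × ZMod 5} (hd : d ≠ 0) (he : e ≠ 0)
    (h : (val ι d)⁻¹ - (val ι d ^ 5)⁻¹ = (val ι e)⁻¹ - (val ι e ^ 5)⁻¹) : d.2 * nm2 e = e.2 * nm2 d := by
  have h1 : val ι d ≠ 0 := fun h0 => hd (val_inj hι (h0.trans (val_zero ι).symm))
  have h2 : val ι e ≠ 0 := fun h0 => he (val_inj hι (h0.trans (val_zero ι).symm))
  have key : ∀ p : ZMod 5 × ZMod 5, val ι p * val ι p ^ 5 = val ι (nm2 p, 0) ∧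
      val ι p ^ 5 - val ι p = val ι (0, -2 * p.2) := fun p => by
    rw [val_frob hι, ← val_mul hι, ← val_sub]
    constructor <;> congr 1
    · refine Prod.ext ?_ ?_ <;> simp [mul2, bar2, nm2] <;> ring
    · refine Prod.ext ?_ ?_ <;> simp [bar2]; ring
  have h3 : (val ι d ^ 5 - val ι d) * (val ι e * val ι e ^ 5) =
      (val ι e ^ 5 - val ι e) * (val ι d * val ι d ^ 5) := by
    rw [inv_sub_inv h1 (pow_ne_zero _ h1), inv_sub_inv h2 (pow_ne_zero _ h2),
      div_eq_div_iff (mul_ne_zero h1 (pow_ne_zero _ h1)) (mul_ne_zero h2 (pow_ne_zero _ h2))] at h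
    exact h
  rw [(key d).1, (key d).2, (key e).1, (key e).2, ← val_mul hι, ← val_mul hι] at h3
  have h4 := congrArg Prod.snd (val_inj hι h3)
  simp only [mul2, zero_mul, zero_add, mul_zero, add_zero] at h4
  have h5 : ∀ x y : ZMod 5, -2 * x = -2 * y → x = y := by decide
  exact h5 _ _ (by rw [← mul_assoc, ← mul_assoc]; exact h4)

/-- The model case. -/
theorem model (hι : ι * ι = 2) (hsurj : ∀ x : K, ∃ p, val ι p = x) {nu cc : ℕ} (hnu : nu = 2 ∨ nu = 3)
    (hcc : cc < 5) (hnc : nu = 3 → cc = 0) (f : K → K) (hf : ∀ x, x ≠ 0 → f x ^ 5 ≠ f x)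
    (hs : ∀ x, f (val ι (0, 2) * x) = (nu : K) * f x)
    (hI : ∃ r : ZMod 5, f 1 = val ι (r, 1))
    (hM : ∀ x y z : K, x ≠ 0 → y ≠ 0 → z ≠ 0 → y ≠ x → z ≠ x → (f y - f x) ^ 5 = f y - f x →
      (f z - f x) ^ 5 = f z - f x →
      let D := fun u => f x - f u - val ι (0, (cc : ZMod 5)) * (x ^ 5 * u - x * u ^ 5) + f (u - x)
      (D y)⁻¹ - ((D y) ^ 5)⁻¹ = (D z)⁻¹ - ((D z) ^ 5)⁻¹) :
    (∀ x, x ≠ 0 → f x = ι * (x * x ^ 5)) ∧ (cc = 1 ∨ cc = 4) := by
  haveI : Fact (Nat.Prime 5) := ⟨by norm_num⟩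
  choose P hP using fun k => hsurj (f (val ι (el k 0)))
  set I : ℕ → ℕ := pick 1 (P 1).2.val (P 2).2.val with hIdef
  set R : ℕ → ℕ := pick (P 0).1.val (P 1).1.val (P 2).1.val with hRdef
  have hP0 : (P 0).2 = 1 := by
    obtain ⟨r, hr⟩ := hI
    have h1 : val ι (el 0 0) = (1 : K) := by simp [el, pow2, mul2, val]
    have h2 := hP 0
    rw [h1, hr] at h2
    exact congrArg Prod.snd (val_inj hι h2)
  have hPk : ∀ k < 3, ((R k : ZMod 5), (I k : ZMod 5)) = P k := fun k hk => by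
    interval_cases k <;> simp [hIdef, hRdef, pick, Prod.ext_iff, hP0]
  -- the value at every point
  have hfel : ∀ k i, k < 3 → f (val ι (el k i)) =
      val ι ((nu : ZMod 5) ^ i * (R k : ZMod 5), (nu : ZMod 5) ^ i * (I k : ZMod 5)) := by
    intro k i hk
    induction i with
    | zero => rw [pow_zero, one_mul, one_mul, hPk k hk, hP]
    | succ i ih =>
      have e : val ι (el k (i + 1)) = val ι (0, 2) * val ι (el k i) := by
        simp only [el, pow2, val_mul hι]; ring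
      rw [e, hs, ih]
      simp only [val, pow_succ, map_mul, map_natCast]
      ring
  have hel : ∀ k i, k < 3 → val ι (el k i) ≠ 0 := fun k i hk => by
    simp only [el, val_mul hι, val_pow hι]
    refine mul_ne_zero (pow_ne_zero _ fun h => ?_) (pow_ne_zero _ fun h => ?_) <;>
      exact absurd (val_inj hι (h.trans (val_zero ι).symm)) (by decide)
  have hIne : ∀ k i, k < 3 → (nu : ZMod 5) ^ i * (I k : ZMod 5) ≠ 0 := by
    intro k i hk h
    refine hf _ (hel k i hk) ?_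
    rw [hfel k i hk, h, val_frob hι]
    simp [bar2]
  have hfix : ∀ a : ZMod 5, val ι (a, 0) ^ 5 = val ι (a, 0) := fun a => by
    rw [val_frob hι]; simp [bar2]
  -- no test fails
  have hgood : ∀ t ∈ tests, fail t nu cc I R = false := by
    intro t ht
    obtain ⟨hj, hk, hl, hne, hsub, hcoc⟩ := tests_ok t ht
    rw [← Bool.not_eq_true]
    intro hfail
    simp only [fail, Bool.and_eq_true, beq_iff_eq, Bool.not_eq_true', beq_eq_false_iff_ne] at hfail
    obtain ⟨heq, hexpr⟩ := hfail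
    refine hexpr (Nat.mod_eq_zero_of_dvd ((ZMod.natCast_eq_zero_iff _ 5).1 ?_))
    have haI : (nu : ZMod 5) ^ t.i * (I t.k : ZMod 5) = (I t.j : ZMod 5) := by
      rw [← heq, ZMod.natCast_mod, Nat.cast_mul, Nat.cast_pow]
    have h4 : (nu : ZMod 5) ^ 4 = 1 ∧ (nu : ZMod 5) ^ 2 = -1 := by
      rcases hnu with rfl | rfl
      exacts [⟨nu_facts.1, nu_facts.2.1⟩, ⟨nu_facts.2.2.1, nu_facts.2.2.2⟩]
    obtain ⟨hn0, hn2, hnb, hn4⟩ := neg_el t.j (List.mem_range.2 hj)
    have hyx : val ι (el t.j 4) ≠ val ι (el t.j 0) := fun h => hn0 (val_inj hι h)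
    have hzx : val ι (el t.k t.i) ≠ val ι (el t.j 0) := fun h => hne (val_inj hι h)
    have e1 : f (val ι (el t.j 4)) - f (val ι (el t.j 0)) = val ι (0, 0) := by
      rw [hfel _ _ hj, hfel _ _ hj, h4.1, pow_zero, sub_self]
      exact (val_zero ι).symm
    have e2 : f (val ι (el t.k t.i)) - f (val ι (el t.j 0)) =
        val ι ((nu : ZMod 5) ^ t.i * (R t.k : ZMod 5) - (R t.j : ZMod 5), 0) := by
      rw [hfel _ _ hk, hfel _ _ hj, ← val_sub, haI, pow_zero, one_mul, one_mul, Prod.mk_sub_mk, sub_self]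
    have hsc : ∀ q, mul2 (0, (cc : ZMod 5)) q =
        ((cc : ZMod 5) * (mul2 (0, 1) q).1, (cc : ZMod 5) * (mul2 (0, 1) q).2) := fun q => by
      refine Prod.ext ?_ ?_ <;> simp [mul2]; ring
    have h := hM _ _ _ (hel _ 0 hj) (hel _ 4 hj) (hel _ t.i hk) hyx hzx (by rw [e1, hfix]) (by rw [e2, hfix])
    have hDy : f (val ι (el t.j 0)) - f (val ι (el t.j 4)) - val ι (0, (cc : ZMod 5)) *
        (val ι (el t.j 0) ^ 5 * val ι (el t.j 4) - val ι (el t.j 0) * val ι (el t.j 4) ^ 5) +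
        f (val ι (el t.j 4) - val ι (el t.j 0)) = val ι (-(R t.j : ZMod 5), -(I t.j : ZMod 5)) := by
      rw [show val ι (el t.j 4) - val ι (el t.j 0) = val ι (el t.j 2) by rw [← val_sub, hn2],
        hfel _ _ hj, hfel _ _ hj, hfel _ _ hj, val_frob hι, val_frob hι, hnb, hn4, val_neg, val_neg, h4.1,
        h4.2, pow_zero, one_mul, one_mul, sub_self, neg_one_mul, neg_one_mul]
      ring
    have hDz : f (val ι (el t.j 0)) - f (val ι (el t.k t.i)) - val ι (0, (cc : ZMod 5)) *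
        (val ι (el t.j 0) ^ 5 * val ι (el t.k t.i) - val ι (el t.j 0) * val ι (el t.k t.i) ^ 5) +
        f (val ι (el t.k t.i) - val ι (el t.j 0)) =
          val ι ((R t.j : ZMod 5) - (nu : ZMod 5) ^ t.i * (R t.k : ZMod 5) - (cc : ZMod 5) * (t.s : ZMod 5) +
            (nu : ZMod 5) ^ t.m * (R t.l : ZMod 5), (nu : ZMod 5) ^ t.m * (I t.l : ZMod 5)) := by
      have hk' : val ι (0, (cc : ZMod 5)) * (val ι (el t.j 0) ^ 5 * val ι (el t.k t.i) -
          val ι (el t.j 0) * val ι (el t.k t.i) ^ 5) = val ι ((cc : ZMod 5) * (t.s : ZMod 5), (cc : ZMod 5) * 0) := by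
        rw [val_frob hι, val_frob hι, ← val_mul hι, ← val_mul hι, ← val_sub, ← val_mul hι, hsc, hcoc]
      rw [hk', ← val_sub ι (el t.k t.i) (el t.j 0), hsub, hfel _ _ hl, hfel _ _ hk, hfel _ _ hj, ← val_sub,
        ← val_sub, ← val_add, haI, pow_zero, one_mul, one_mul]
      congr 1
      refine Prod.ext ?_ ?_ <;> simp
    simp only [hDy, hDz] at h
    have hcr := cross hι (fun h0 => hIne t.j 0 hj (by
        have := congrArg Prod.snd h0
        simp at this
        simp [this])) (fun h0 => hIne t.l t.m hl (congrArg Prod.snd h0 :)) h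
    simp only [nm2] at hcr
    simp only [expr, Nat.cast_add, Nat.cast_mul, Nat.cast_pow, Nat.cast_ofNat,
      four_three.1, four_three.2]
    linear_combination -hcr
  have hchk := check_all hnu hcc hnc
  simp only [check, List.all_eq_true, List.mem_range, Bool.or_eq_true, Bool.and_eq_true, beq_iff_eq,
    List.any_eq_true] at hchk
  have hIpos : ∀ k < 3, 1 ≤ I k ∧ I k < 5 := fun k hk => by
    refine ⟨Nat.pos_of_ne_zero fun h => hIne k 0 hk (by simp [h]), ?_⟩
    interval_cases k <;> simp [hIdef, pick, ZMod.val_lt]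
  have hI1 := hIpos 1 (by norm_num)
  have hI2 := hIpos 2 (by norm_num)
  have h := hchk (I 1 - 1) (by omega) (I 2 - 1) (by omega) (R 0) (ZMod.val_lt (P 0).1) (R 1) (ZMod.val_lt (P 1).1) (R 2)
    (ZMod.val_lt (P 2).1)
  rw [show pick 1 (I 1 - 1 + 1) (I 2 - 1 + 1) = I by
      rw [Nat.sub_add_cancel hI1.1, Nat.sub_add_cancel hI2.1]; rfl,
    show pick (R 0) (R 1) (R 2) = R by rfl] at h
  rcases h with ⟨t, ht, h⟩ | ⟨⟨⟨⟨⟨⟨h1, h2⟩, h3⟩, h4⟩, h5⟩, h6⟩, h7⟩
  · rw [hgood t ht] at h; exact absurd h (by simp)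
  refine ⟨fun x hx => ?_, h6⟩
  obtain ⟨p, rfl⟩ := hsurj x
  obtain ⟨k, hk, i, hi, rfl⟩ := el_surj p fun h => hx (by rw [h, val_zero])
  have hk' := List.mem_range.1 hk
  have hRk : (R k : ZMod 5) = 0 := by
    interval_cases k
    · rw [h3, Nat.cast_zero]
    · rw [h4, Nat.cast_zero]
    · rw [h5, Nat.cast_zero]
  have hIk : I k = pick 1 3 4 k := by
    interval_cases k
    · rfl
    · show I 1 = 3; omega
    · show I 2 = 4; omega
  rw [hfel k i hk', hRk, hIk, h7, mul_zero, val_frob hι, ← val_mul hι]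
  have hi' : val ι (0, 1) = ι := by simp [val]
  have e : ∀ q, ι * val ι q = val ι (mul2 (0, 1) q) := fun q => by rw [val_mul hι, hi']
  rw [e]
  congr 1
  have hn := nm_el k hk i hi
  refine Prod.ext ?_ ?_ <;> simp [mul2, bar2, nm2] at hn ⊢
  · exact Or.inr (by ring)
  · linear_combination -hn

end Field

end Cfsg.Agent.Lie.UThreeOdd.FiveCheck

namespace Cfsg.Agent.Lie.UThreeOdd

open FiveCheck

/-- The pencil equation for `q = 5`. -/
theorem pencil_five {K : Type} [Field K] [Fintype K] (hK : Fintype.card K = 25) {om nu c : K}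
    (hom : orderOf om = 8) (hnu : orderOf nu = 4) (hc : c ^ 5 = -c) (hnc : c = 0 ∨ nu = om ^ 6)
    (f : K → K) (hf : ∀ x, x ≠ 0 → f x ^ 5 ≠ f x) (hs : ∀ x, f (om * x) = nu * f x)
    (hM : ∀ x y z : K, x ≠ 0 → y ≠ 0 → z ≠ 0 → y ≠ x → z ≠ x → (f y - f x) ^ 5 = f y - f x →
      (f z - f x) ^ 5 = f z - f x →
      let D := fun u => f x - f u - c * (x ^ 5 * u - x * u ^ 5) + f (u - x)
      (D y)⁻¹ - ((D y) ^ 5)⁻¹ = (D z)⁻¹ - ((D z) ^ 5)⁻¹) :
    ∃ J : K, J ≠ 0 ∧ J ^ 5 = -J ∧ (∀ x, x ≠ 0 → f x = J * (x * x ^ 5)) ∧ (c = J ∨ c = -J) := by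
  haveI hp : Fact (Nat.Prime 5) := ⟨by norm_num⟩
  haveI : CharP K 5 := by
    obtain ⟨p, hp'⟩ := CharP.exists K
    obtain ⟨n, hpp, hn⟩ := FiniteField.card K p
    have h5 : p ∣ 5 ^ 2 := by rw [show (5 : ℕ) ^ 2 = 25 by norm_num, ← hK, hn]; exact dvd_pow_self p n.pos.ne'
    rwa [(Nat.prime_dvd_prime_iff_eq hpp hp.out).1 (hpp.dvd_of_dvd_pow h5)] at hp'
  have h5 := five_zero (K := K)
  have sq23 : ∀ x : K, x * x = -1 → x = 2 ∨ x = 3 := fun x hx => by
    rcases mul_eq_zero.1 (show (x - 2) * (x - 3) = 0 by linear_combination hx + (1 - x) * h5) with h | h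
    · exact Or.inl (sub_eq_zero.1 h)
    · exact Or.inr (sub_eq_zero.1 h)
  have hord : ∀ (x : K) (k : ℕ), 0 < k → orderOf x = 2 * k → x ^ k = -1 := fun x k hk hx => by
    have h1 : x ^ k * x ^ k = 1 := by rw [← pow_add, ← two_mul, ← hx, pow_orderOf_eq_one]
    rcases mul_self_eq_one_iff.1 h1 with h | h
    · have := Nat.le_of_dvd hk (orderOf_dvd_of_pow_eq_one h); omega
    · exact h
  have hom4 := hord om 4 (by norm_num) hom
  have hnu2 := hord nu 2 (by norm_num) hnu
  rw [pow_two] at hnu2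
  -- normalise the element of order eight
  obtain ⟨w, m, hw, hm, hrel, hws⟩ : ∃ w m : K, w * w = 3 ∧ (m = 2 ∨ m = 3) ∧ (nu = om ^ 6 → m = w ^ 6) ∧
      ∀ x, f (w * x) = m * f x := by
    rcases sq23 (om * om) (by linear_combination hom4) with h | h
    · refine ⟨om ^ 3, nu ^ 3, ?_, sq23 _ ?_, fun e => ?_, fun x => ?_⟩
      · linear_combination (om * om * om * om + 2 * (om * om) + 4) * h + h5
      · linear_combination (nu * nu * nu * nu - nu * nu + 1) * hnu2
      · rw [e]; ring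
      · rw [show om ^ 3 * x = om * (om * (om * x)) by ring, hs, hs, hs]; ring
    · exact ⟨om, nu, h, sq23 _ hnu2, id, hs⟩
  set ι := 3 * w with hιdef
  have hι : ι * ι = 2 := by rw [hιdef]; linear_combination 9 * hw + 5 * h5
  have hsurj : ∀ x : K, ∃ p, val ι p = x := by
    have h := (Fintype.bijective_iff_injective_and_card (val (K := K) ι)).2 ⟨val_inj hι, by
      rw [Fintype.card_prod, ZMod.card, hK]⟩
    exact h.2
  have hw2 : val ι (0, 2) = w := by
    rw [val_def, map_zero, map_ofNat, hιdef]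
    linear_combination w * h5
  -- scale
  have h1ne : f 1 ^ 5 ≠ f 1 := hf 1 one_ne_zero
  obtain ⟨p, hp1⟩ := hsurj (f 1)
  have hb : p.2 ≠ 0 := fun h => h1ne (by
    rw [← hp1, val_frob hι]
    congr 1
    exact Prod.ext rfl (by simp [bar2, h]))
  set r : K := ZMod.castHom dvd_rfl K p.2⁻¹ with hr
  have hr0 : r ≠ 0 := (map_ne_zero _).2 (inv_ne_zero hb)
  have hr5 : r ^ 5 = r := by rw [hr, ← map_pow, ZMod.pow_card]
  obtain ⟨C, hC⟩ := hsurj (r * c)
  have hC1 : C.1 = 0 := by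
    have h : val ι (bar2 C) = val ι (-C) := by
      rw [← val_frob hι, val_neg, hC, mul_pow, hr5, hc]; ring
    have h' : C.1 = -C.1 := congrArg Prod.fst (val_inj hι h)
    exact eq_zero_of_eq_neg _ h'
  have hCv : val ι (0, ((C.2.val : ℕ) : ZMod 5)) = r * c := by
    rw [ZMod.natCast_zmod_val, ← hC, ← hC1]
  obtain ⟨nn, hnn, hmn⟩ : ∃ n : ℕ, (n = 2 ∨ n = 3) ∧ m = (n : K) := by
    rcases hm with h | h
    · exact ⟨2, Or.inl rfl, by simpa using h⟩
    · exact ⟨3, Or.inr rfl, by simpa using h⟩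
  have hnc' : nn = 3 → C.2.val = 0 := by
    intro h3
    by_contra hne
    rcases hnc with h | h
    · rw [h, mul_zero] at hC
      exact hne (by rw [val_inj hι (hC.trans (val_zero ι).symm)]; rfl)
    · have h6 := hrel h
      rw [hmn, h3] at h6
      have : (24 : K) = 0 := by
        push_cast at h6
        linear_combination -(w * w * (w * w) + 3 * (w * w) + 9) * hw - h6
      have hd : (5 : ℕ) ∣ 24 := (CharP.cast_eq_zero_iff K 5 24).1 (by simpa using this)
      norm_num at hd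
  obtain ⟨hres, hcc⟩ := model hι hsurj hnn (ZMod.val_lt _) hnc' (fun x => r * f x)
    (fun x hx h => hf x hx (by
      rw [mul_pow, hr5] at h
      exact mul_left_cancel₀ hr0 h))
    (fun x => by rw [hw2, hws, hmn]; ring)
    ⟨p.2⁻¹ * p.1, by
      rw [← hp1, val_def, hr, val, map_mul]
      rw [show ZMod.castHom dvd_rfl K (1 : ZMod 5) = ZMod.castHom dvd_rfl K (p.2⁻¹ * p.2) by
        rw [inv_mul_cancel₀ hb], map_mul]
      ring⟩
    (fun x y z hx hy hz hyx hzx h1 h2 => by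
      have hfix : ∀ a : K, (r * a) ^ 5 = r * a → a ^ 5 = a := fun a h => by
        rw [mul_pow, hr5] at h
        exact mul_left_cancel₀ hr0 h
      rw [← mul_sub] at h1 h2
      have h := hM x y z hx hy hz hyx hzx (hfix _ h1) (hfix _ h2)
      intro D
      have hD : ∀ u, D u = r * (f x - f u - c * (x ^ 5 * u - x * u ^ 5) + f (u - x)) := fun u => by
        show r * f x - r * f u - _ * _ + r * f (u - x) = _
        rw [hCv]; ring
      rw [hD, hD, mul_pow, mul_pow, hr5, mul_inv, mul_inv, mul_inv, mul_inv, ← mul_sub, ← mul_sub]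
      exact congrArg _ h)
  refine ⟨r⁻¹ * ι, mul_ne_zero (inv_ne_zero hr0) fun h => ?_, ?_, fun x hx => ?_, ?_⟩
  · rw [h, mul_zero] at hι
    have hd : (5 : ℕ) ∣ 2 := (CharP.cast_eq_zero_iff K 5 2).1 (by simpa using hι.symm)
    norm_num at hd
  · rw [mul_pow, inv_pow, hr5]
    linear_combination r⁻¹ * (ι * (ι * ι + 2)) * hι + r⁻¹ * ι * h5
  · have h : r * f x = ι * (x * x ^ 5) := hres x hx
    rw [mul_assoc, ← h, inv_mul_cancel_left₀ hr0]
  · rcases hcc with h | h <;> rw [h] at hCv <;>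
      simp only [val_def, map_zero, zero_add, Nat.cast_one, Nat.cast_ofNat, map_one, map_ofNat, one_mul] at hCv
    · left
      rw [hCv, inv_mul_cancel_left₀ hr0]
    · right
      rw [← inv_mul_cancel_left₀ hr0 c, ← hCv]
      linear_combination r⁻¹ * ι * h5

end Cfsg.Agent.Lie.UThreeOdd
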