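import Cfsg.Agent.Lib.Lie.UThreeOdd.Setup

/-!
The fixed set of an element of the two-point stabiliser: a block of a design. Its size `s + 1` satisfies
`(s + 1) s ≤ q³` and `(s + 1) ∣ q³ + 1`, whence `s ≤ q`.
-/

set_option autoImplicit false
set_option linter.unusedSectionVars false

namespace Cfsg.Agent.Lie.UThreeOdd

open MulAction

universe u v

/-- `pʲ + 1 ∣ p³ⁿ + 1` and `(pʲ + 1) pʲ ≤ p³ⁿ` force `j ≤ n`. -/
theorem exp_le {p j n : ℕ} (hp : 2 ≤ p) (hd : p ^ j + 1 ∣ (p ^ n) ^ 3 + 1)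
    (hle : (p ^ j + 1) * p ^ j ≤ (p ^ n) ^ 3) : j ≤ n := by
  rw [← pow_mul] at hd hle
  by_contra hj
  have hp0 : ∀ i, 0 < p ^ i := fun i => Nat.pow_pos (by omega)
  have h2 : 2 * j < n * 3 := by
    rw [← Nat.pow_lt_pow_iff_right (show 1 < p by omega), two_mul, pow_add]
    have := hp0 j
    nlinarith
  set M : ℤ := (p : ℤ) ^ j + 1 with hM
  have hd' : M ∣ (p : ℤ) ^ (n * 3) + 1 := by
    have := Int.natCast_dvd_natCast.2 hd
    push_cast at this
    exact this
  have e1 : (p : ℤ) ^ (n * 3) = (p : ℤ) ^ j * (p : ℤ) ^ j * (p : ℤ) ^ (n * 3 - 2 * j) := by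
    rw [← pow_add, ← pow_add]; congr 1; omega
  have h3 : M ∣ (p : ℤ) ^ (n * 3 - 2 * j) + 1 := by
    have : (p : ℤ) ^ (n * 3 - 2 * j) + 1 =
        ((p : ℤ) ^ (n * 3) + 1) - M * (((p : ℤ) ^ j - 1) * (p : ℤ) ^ (n * 3 - 2 * j)) := by
      rw [hM, e1]; ring
    rw [this]
    exact dvd_sub hd' ⟨_, rfl⟩
  have h4 := Int.le_of_dvd (by positivity) h3
  have h5 : p ^ (n * 3 - 2 * j) < p ^ j := Nat.pow_lt_pow_right (by omega) (by omega)
  have h6 : (p : ℤ) ^ (n * 3 - 2 * j) < (p : ℤ) ^ j := by exact_mod_cast h5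
  omega

namespace Hyp

variable {G : Type u} {Ω : Type v} [Group G] [MulAction G Ω] [Finite G] (D : Hyp G Ω)
include D

omit D in
theorem conj_fix_iff {g z : G} {c : Ω} : (g * z * g⁻¹) • c = c ↔ z • g⁻¹ • c = g⁻¹ • c := by
  rw [mul_smul, mul_smul, smul_eq_iff_eq_inv_smul]

omit D in
theorem conj_fix {g z : G} {c : Ω} (h : z • c = c) : (g * z * g⁻¹) • g • c = g • c := by
  rw [conj_fix_iff, inv_smul_smul, h]

omit D [Finite G] in
theorem orderOf_conj' (g z : G) : orderOf (g * z * g⁻¹) = orderOf z :=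
  MulEquiv.orderOf_eq (MulAut.conj g) z

theorem H_cent {z : G} (hz : z ∈ D.H) {g : G} (hg : g ∈ D.H) : g * z * g⁻¹ = z := by
  rw [D.H_comm hg hz, mul_inv_cancel_right]

/-- An element moving `(a, b)` to a pair of fixed points of `z` preserves the fixed set of `z`. -/
theorem fix_smul_iff {z : G} (hz : z ∈ D.H) {x y : Ω} (hxy : x ≠ y) (hx : z • x = x) (hy : z • y = y) {g : G}
    (hga : g • D.a = x) (hgb : g • D.b = y) (c : Ω) : z • g • c = g • c ↔ z • c = c := by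
  have h1 := D.fix_iff hxy (z := z) (z' := g * z * g⁻¹) hx hy (hga ▸ conj_fix hz.1) (hgb ▸ conj_fix hz.2)
    (orderOf_conj' g z).symm (g • c)
  rw [h1, conj_fix_iff, inv_smul_smul]

omit D in
/-- The setwise stabiliser of the fixed set of `z`. -/
def fixStab (_D : Hyp G Ω) (z : G) : Subgroup G where
  carrier := {g | ∀ c : Ω, z • g • c = g • c ↔ z • c = c}
  one_mem' := fun c => by rw [one_smul]
  mul_mem' := fun {g g'} hg hg' c => by rw [mul_smul]; exact (hg (g' • c)).trans (hg' c)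
  inv_mem' := fun {g} hg c => by
    have h := hg (g⁻¹ • c)
    rw [smul_inv_smul] at h
    exact h.symm

theorem card_fix {z : G} (hz : z ∈ D.H) : Nat.card {c : Ω // z • c = c} = Nat.card (D.cU z) + 1 := by
  classical
  haveI := D.finite_points
  have h0 : z • D.a = D.a := hz.1
  rw [Nat.card_congr (D.fixEquiv hz),
    ← Nat.card_congr (Equiv.optionSubtypeNe (⟨D.a, h0⟩ : {c : Ω // z • c = c})), Finite.card_option]
  congr 1
  refine Nat.card_congr
    { toFun := fun c => ⟨c.1.1, fun e => c.2 (Subtype.ext e), c.1.2⟩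
      invFun := fun c => ⟨⟨c.1, c.2.2⟩, fun e => c.2.1 (congrArg Subtype.val e)⟩
      left_inv := fun c => rfl
      right_inv := fun c => rfl }

theorem card_fixStab {z : G} (hz : z ∈ D.H) :
    Nat.card (D.fixStab z) = (Nat.card (D.cU z) + 1) * (Nat.card (D.cU z) * Nat.card D.H) := by
  classical
  haveI := D.finite_points
  set N := D.fixStab z with hN
  have hNfix : ∀ g ∈ N, ∀ c : Ω, z • c = c → z • g • c = g • c := fun g hg c hc => (hg c).2 hc
  have hHN : D.H ≤ N := fun g hg c => by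
    rw [← mul_smul, D.H_comm hz hg, mul_smul, smul_left_cancel_iff]
  have htr : ∀ {x y : Ω}, x ≠ y → z • x = x → z • y = y → ∃ g ∈ N, g • D.a = x ∧ g • D.b = y := by
    intro x y hxy hx hy
    obtain ⟨g, hga, hgb⟩ := D.two D.hab hxy
    exact ⟨g, fun c => D.fix_smul_iff hz hxy hx hy hga hgb c, hga, hgb⟩
  let f : N → {c : Ω // z • c = c} := fun g => ⟨(g : G) • D.a, hNfix g g.2 _ hz.1⟩
  -- orbit-stabiliser, twice
  let P := {xy : Ω × Ω // xy.1 ≠ xy.2 ∧ z • xy.1 = xy.1 ∧ z • xy.2 = xy.2}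
  have hP : ∀ xy : P, ∃ g ∈ N, g • D.a = xy.1.1 ∧ g • D.b = xy.1.2 := fun xy => htr xy.2.1 xy.2.2.1 xy.2.2.2
  choose sec hsec using hP
  let Φ : N ≃ P × D.H :=
    { toFun := fun g =>
        let xy : P := ⟨((g : G) • D.a, (g : G) • D.b), fun e => D.hab (smul_left_cancel (g : G) e),
          hNfix g g.2 _ hz.1, hNfix g g.2 _ hz.2⟩
        (xy, ⟨(sec xy)⁻¹ * g, by
          rw [D.mem_H, mul_smul, mul_smul, inv_smul_eq_iff, inv_smul_eq_iff]
          exact ⟨(hsec xy).2.1.symm, (hsec xy).2.2.symm⟩⟩)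
      invFun := fun w => ⟨sec w.1 * w.2, mul_mem (hsec w.1).1 (hHN w.2.2)⟩
      left_inv := fun g => Subtype.ext (mul_inv_cancel_left _ _)
      right_inv := fun w => by
        have e : (⟨((sec w.1 * (w.2 : G)) • D.a, (sec w.1 * (w.2 : G)) • D.b), fun e =>
            D.hab (smul_left_cancel _ e), hNfix _ (mul_mem (hsec w.1).1 (hHN w.2.2)) _ hz.1,
            hNfix _ (mul_mem (hsec w.1).1 (hHN w.2.2)) _ hz.2⟩ : P) = w.1 :=
          Subtype.ext (Prod.ext (by show (sec w.1 * (w.2 : G)) • D.a = _; rw [mul_smul, w.2.2.1, (hsec w.1).2.1])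
            (by show (sec w.1 * (w.2 : G)) • D.b = _; rw [mul_smul, w.2.2.2, (hsec w.1).2.2]))
        refine Prod.ext e (Subtype.ext ?_)
        show (sec _)⁻¹ * (sec w.1 * (w.2 : G)) = w.2
        rw [e, inv_mul_cancel_left] }
  rw [Nat.card_congr Φ, Nat.card_prod, ← mul_assoc, ← D.card_fix hz]
  congr 1
  let S := {c : Ω // z • c = c}
  haveI : Fintype S := Fintype.ofFinite _
  have hp : Nat.card P = Nat.card {xy : S × S // xy.1 ≠ xy.2} := Nat.card_congr
    { toFun := fun xy => ⟨(⟨xy.1.1, xy.2.2.1⟩, ⟨xy.1.2, xy.2.2.2⟩), fun e => xy.2.1 (congrArg Subtype.val e)⟩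
      invFun := fun xy => ⟨(xy.1.1.1, xy.1.2.1), fun e => xy.2 (Subtype.ext e), xy.1.1.2, xy.1.2.2⟩
      left_inv := fun xy => rfl
      right_inv := fun xy => rfl }
  rw [hp, Nat.card_eq_fintype_card, Fintype.card_subtype,
    show (Finset.univ.filter fun xy : S × S => xy.1 ≠ xy.2) = (Finset.univ : Finset S).offDiag from
      Finset.ext fun xy => by simp [Finset.mem_offDiag], Finset.offDiag_card, Finset.card_univ,
    ← Nat.card_eq_fintype_card, D.card_fix hz]
  rw [← Nat.mul_sub_one, Nat.add_sub_cancel]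

theorem card_G : Nat.card G = (D.q ^ 3 + 1) * (D.q ^ 3 * Nat.card D.H) := by
  classical
  haveI := D.finite_points
  have h1 := D.card_fixStab (z := 1) (one_mem _)
  have h2 : D.cU (1 : G) = D.U := Subgroup.ext fun u => by simp [D.mem_cU]
  have h3 : D.fixStab (1 : G) = ⊤ := eq_top_iff.2 fun g _ c => by simp only [one_smul]
  rw [h2, D.card_U, h3, Subgroup.card_top] at h1
  exact h1

theorem cU_dvd {z : G} (hz : z ∈ D.H) : Nat.card (D.cU z) + 1 ∣ D.q ^ 3 + 1 := by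
  have h := Subgroup.card_subgroup_dvd_card (D.fixStab z)
  rw [D.card_fixStab hz, D.card_G, ← mul_assoc, ← mul_assoc] at h
  have h1 : Nat.card (D.cU z) + 1 ∣ (D.q ^ 3 + 1) * D.q ^ 3 :=
    dvd_trans (dvd_mul_right _ _) (Nat.dvd_of_mul_dvd_mul_right Nat.card_pos h)
  by_cases h0 : Nat.card (D.cU z) = 1
  · obtain ⟨k, hk⟩ := D.odd_q.pow (n := 3)
    exact ⟨k + 1, by rw [h0]; omega⟩
  refine Nat.Coprime.dvd_of_dvd_mul_right ?_ h1
  have hle : D.cU z ≤ D.U := inf_le_left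
  have hdvd := Subgroup.card_dvd_of_le hle
  rw [D.card_U, ← pow_mul] at hdvd
  obtain ⟨j, -, hj⟩ := (Nat.dvd_prime_pow D.hp).1 hdvd
  rw [D.q_def, ← pow_mul]
  refine Nat.Coprime.pow_right _ ((Nat.Prime.coprime_iff_not_dvd D.hp).2 fun hd => ?_).symm
  rw [hj] at hd h0
  have hj0 : j ≠ 0 := fun e => h0 (by rw [e, pow_zero])
  exact D.hp.not_dvd_one ((Nat.dvd_add_right (dvd_pow_self D.p hj0)).1 hd)

theorem cU_mul_le [FaithfulSMul G Ω] {z : G} (hz : z ∈ D.H) (hz1 : z ≠ 1) :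
    (Nat.card (D.cU z) + 1) * Nat.card (D.cU z) ≤ D.q ^ 3 := by
  classical
  haveI := D.finite_points
  obtain ⟨c, hc⟩ : ∃ c : Ω, z • c ≠ c := by
    by_contra h
    push Not at h
    exact hz1 (eq_of_smul_eq_smul fun c => by rw [h c, one_smul])
  have hca : c ≠ D.a := fun e => hc (e ▸ hz.1)
  have hcb : c ≠ D.b := fun e => hc (e ▸ hz.2)
  obtain ⟨g, hga, hgb⟩ := D.two D.hab (Ne.symm hcb)
  set z' := g * z * g⁻¹ with hz'
  have hb' : z' • D.b = D.b := hga ▸ conj_fix hz.1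
  have hc' : z' • c = c := hgb ▸ conj_fix hz.2
  have ha' : z' • D.a ≠ D.a := fun e => hc
    ((D.fix_iff D.hab hz.1 hz.2 e hb' (orderOf_conj' g z).symm c).2 hc')
  have hmem : ∀ x : {x : Ω // z' • x = x}, (x : Ω) ≠ D.a := fun x e => ha' (e ▸ x.2)
  let f : {x : Ω // z' • x = x} → D.U ⧸ (D.cU z).subgroupOf D.U := fun x =>
    QuotientGroup.mk (D.pointEquiv.symm ⟨x.1, hmem x⟩)
  have hf : Function.Injective f := by
    intro x y hxy
    by_contra hne
    set u : D.U := D.pointEquiv.symm ⟨x.1, hmem x⟩ with hu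
    set v : D.U := D.pointEquiv.symm ⟨y.1, hmem y⟩ with hv
    have hux : (u : G) • D.b = x.1 := congrArg Subtype.val (D.pointEquiv.apply_symm_apply ⟨x.1, hmem x⟩)
    have hvy : (v : G) • D.b = y.1 := congrArg Subtype.val (D.pointEquiv.apply_symm_apply ⟨y.1, hmem y⟩)
    have huv : (u : G)⁻¹ * v ∈ D.cU z := Subgroup.mem_subgroupOf.1 (QuotientGroup.eq.1 hxy)
    set z'' := (u : G) * z * (u : G)⁻¹ with hz''
    have h1 : z'' • x.1 = x.1 := hux ▸ conj_fix hz.2
    have h2 : z'' • y.1 = y.1 := by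
      rw [hz'', conj_fix_iff, ← hvy, ← mul_smul (u : G)⁻¹, D.cU_fix hz huv]
    have h3 : z'' • D.a = D.a := by
      have := conj_fix (g := (u : G)) hz.1
      rwa [D.U_fix _ u.2] at this
    exact ha' ((D.fix_iff (fun e => hne (Subtype.ext e)) h1 h2 x.2 y.2
      (by rw [hz'', hz', orderOf_conj', orderOf_conj']) D.a).1 h3)
  have h4 := Nat.card_le_card_of_injective f hf
  have h5 : Nat.card {x : Ω // z' • x = x} = Nat.card {x : Ω // z • x = x} := Nat.card_congr
    { toFun := fun x => ⟨g⁻¹ • x.1, (conj_fix_iff).1 x.2⟩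
      invFun := fun x => ⟨g • x.1, conj_fix x.2⟩
      left_inv := fun x => Subtype.ext (smul_inv_smul g x.1)
      right_inv := fun x => Subtype.ext (inv_smul_smul g x.1) }
  rw [h5, D.card_fix hz] at h4
  have h6 := ((D.cU z).subgroupOf D.U).index_mul_card
  rw [Nat.card_congr (Subgroup.subgroupOfEquivOfLe (show D.cU z ≤ D.U from inf_le_left)).toEquiv,
    D.card_U] at h6
  rw [← D.q_def] at h6
  rw [← h6]
  exact Nat.mul_le_mul_right _ h4

/-- A non-identity element of `H` centralises at most `q` elements of `U`. -/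
theorem cU_le [FaithfulSMul G Ω] {z : G} (hz : z ∈ D.H) (hz1 : z ≠ 1) : Nat.card (D.cU z) ≤ D.q := by
  have hdvd := Subgroup.card_dvd_of_le (show D.cU z ≤ D.U from inf_le_left)
  rw [D.card_U, ← pow_mul] at hdvd
  obtain ⟨j, -, hj⟩ := (Nat.dvd_prime_pow D.hp).1 hdvd
  have h1 := D.cU_dvd hz
  have h2 := D.cU_mul_le hz hz1
  rw [hj] at h1 h2 ⊢
  exact Nat.pow_le_pow_right D.hp.pos (exp_le D.hp.two_le h1 h2)

end Hyp

end Cfsg.Agent.Lie.UThreeOdd
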