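import Cfsg.Agent.Lib.Lie.UThreeOdd.Centre
import Cfsg.Agent.Lib.Lie.UThreeOdd.Biadd

/-!
Coordinates on `U`: pairs `(θ, z)` with `θ` in a field `K` of `q²` elements and `z` fixed by `x ↦ xᑫ`, multiplied
through a hermitian-skew form `c (θ̄ θ' - θ θ̄')`, a generator of `H` acting by `(ω θ, ν z)`.
-/

set_option autoImplicit false
set_option linter.unusedSectionVars false
set_option linter.style.haveILetI false

namespace Cfsg.Agent.Lie.UThreeOdd

open MulAction

universe u v

/-- Coordinates on `U`. -/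
structure Coord {G : Type u} {Ω : Type v} [Group G] [MulAction G Ω] [Finite G] (D : Hyp G Ω) (K : Type)
    [Field K] [Fintype K] where
  g : G
  ω : K
  ν : K
  c : K
  P : K → K → G
  card : Fintype.card K = D.q ^ 2
  g_mem : g ∈ D.H
  g_gen : ∀ x ∈ D.H, ∃ k : ℕ, g ^ k = x
  ω_order : D.d * orderOf ω = D.q ^ 2 - 1
  ν_order : orderOf ν = D.q - 1
  ν_fix : ν ^ D.q = ν
  c_skew : c ^ D.q = -c
  c_cases : c = 0 ∨ ν = ω ^ (D.q + 1)
  P_mem : ∀ θ z : K, z ^ D.q = z → P θ z ∈ D.U
  P_surj : ∀ u ∈ D.U, ∃ θ z : K, z ^ D.q = z ∧ P θ z = u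
  P_inj : ∀ θ z θ' z' : K, z ^ D.q = z → z' ^ D.q = z' → P θ z = P θ' z' → θ = θ' ∧ z = z'
  P_mul : ∀ θ z θ' z' : K, z ^ D.q = z → z' ^ D.q = z' →
    P θ z * P θ' z' = P (θ + θ') (z + z' + c * (θ ^ D.q * θ' - θ * θ' ^ D.q))
  P_mem_R : ∀ θ z : K, z ^ D.q = z → (P θ z ∈ D.R ↔ θ = 0)
  g_conj : ∀ θ z : K, z ^ D.q = z → g * P θ z * g⁻¹ = P (ω * θ) (ν * z)

/-- A finite field of `q²` elements contains one of `q` elements. -/
theorem exists_embedding {p n : ℕ} [Fact p.Prime] {F K : Type} [Field F] [Fintype F] [Field K] [Fintype K]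
    (hn : 1 ≤ n) (hF : Fintype.card F = p ^ n) (hK : Fintype.card K = (p ^ n) ^ 2) :
    ∃ ι : F →+* K, (∀ x, ι x ^ p ^ n = ι x) ∧ ∀ z : K, z ^ p ^ n = z → ∃ x, ι x = z := by
  classical
  haveI : CharP F p := charP_of_card_eq_prime_pow hF
  haveI : CharP K p := charP_of_card_eq_prime_pow (f := n * 2) (by rw [hK, pow_mul])
  letI := ZMod.algebra F p
  letI := ZMod.algebra K p
  have hfF : Module.finrank (ZMod p) F = n := by
    have h := Module.natCard_eq_pow_finrank (K := ZMod p) (V := F)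
    rw [Nat.card_zmod, Nat.card_eq_fintype_card, hF] at h
    exact (Nat.pow_right_injective (Fact.out : p.Prime).two_le h).symm
  have hfK : Module.finrank (ZMod p) K = n * 2 := by
    have h := Module.natCard_eq_pow_finrank (K := ZMod p) (V := K)
    rw [Nat.card_zmod, Nat.card_eq_fintype_card, hK, ← pow_mul] at h
    exact (Nat.pow_right_injective (Fact.out : p.Prime).two_le h).symm
  obtain ⟨f⟩ := FiniteField.nonempty_algHom_of_finrank_dvd (F := ZMod p) (K := F) (L := K)
    (by rw [hfF, hfK]; exact dvd_mul_right n 2)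
  refine ⟨f.toRingHom, fun x => ?_, fun z hz => ?_⟩
  · rw [← map_pow, ← hF, FiniteField.pow_card]
  · have h1 : 1 < p ^ n := Nat.one_lt_pow (by omega) (Fact.out : p.Prime).one_lt
    have hsub : Finset.univ.image f.toRingHom ⊆ Finset.univ.filter fun z : K => z ^ p ^ n = z := fun z hz => by
      obtain ⟨x, -, rfl⟩ := Finset.mem_image.1 hz
      exact Finset.mem_filter.2 ⟨Finset.mem_univ _, by rw [← map_pow, ← hF, FiniteField.pow_card]⟩
    have hcard : (Finset.univ.filter fun z : K => z ^ p ^ n = z).card ≤ p ^ n := by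
      have hne : (Polynomial.X ^ p ^ n - Polynomial.X : Polynomial K) ≠ 0 :=
        FiniteField.X_pow_card_sub_X_ne_zero K h1
      have h := Polynomial.card_le_degree_of_subset_roots (p := (Polynomial.X ^ p ^ n - Polynomial.X : Polynomial K))
        (Z := Finset.univ.filter fun z : K => z ^ p ^ n = z) (fun z hz => by
          have hz' := (Finset.mem_filter.1 (Finset.mem_def.2 hz)).2
          rw [Polynomial.mem_roots hne]
          simp [sub_eq_zero, hz'])
      rwa [FiniteField.X_pow_card_sub_X_natDegree_eq K h1] at h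
    have heq := Finset.eq_of_subset_of_card_le hsub (by
      rw [Finset.card_image_of_injective _ f.toRingHom.injective, Finset.card_univ, hF]; exact hcard)
    obtain ⟨x, -, hx⟩ := Finset.mem_image.1 (heq.ge (Finset.mem_filter.2 ⟨Finset.mem_univ _, hz⟩))
    exact ⟨x, hx⟩

namespace Hyp

variable {G : Type u} {Ω : Type v} [Group G] [MulAction G Ω] [Finite G] [FaithfulSMul G Ω] (D : Hyp G Ω)
include D

theorem R_pow {r : G} (hr : r ∈ D.R) : r ^ D.q = 1 := by
  have := pow_card_eq_one' (x := (⟨r, hr⟩ : D.R))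
  rw [D.card_R] at this
  exact congrArg Subtype.val this

theorem R_sq {r : G} (hr : r ∈ D.R) (h : r * r = 1) : r = 1 := by
  obtain ⟨k, hk⟩ := D.odd_q
  have h1 := D.R_pow hr
  rwa [hk, pow_succ, pow_mul, sq, h, one_pow, one_mul] at h1

theorem exists_half {r : G} (hr : r ∈ D.R) : ∃ r' ∈ D.R, r' * r' = r := by
  obtain ⟨k, hk⟩ := D.odd_q
  refine ⟨r ^ (k + 1), pow_mem hr _, ?_⟩
  rw [← pow_add, show k + 1 + (k + 1) = D.q + 1 by omega, pow_succ, D.R_pow hr, one_mul]

/-- Modulo `R`, `t` inverts `U`. -/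
theorem t_inverts {u : G} (hu : u ∈ D.U) : u * (D.t * u * D.t⁻¹) ∈ D.R := by
  obtain ⟨-, hcomm, -⟩ := D.layer_V
  set tH : D.H := ⟨D.t, D.t_mem⟩
  set x : D.U ⧸ D.R.subgroupOf D.U := ((⟨u, hu⟩ : D.U) : D.U ⧸ D.R.subgroupOf D.U) with hx
  set y := x * D.actV tH x with hy
  have hfix : D.actV tH y = y := by
    rw [hy, map_mul, ← MulAut.mul_apply, ← map_mul, show tH * tH = 1 from Subtype.ext D.t_mul, map_one,
      MulAut.one_apply, hcomm]
  have hy' : y = ((⟨u * (D.t * u * D.t⁻¹), mul_mem hu (D.H_conj D.t_mem hu)⟩ : D.U) :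
      D.U ⧸ D.R.subgroupOf D.U) := rfl
  rw [hy', D.actV_mk, eq_comm, QuotientGroup.eq, Subgroup.mem_subgroupOf] at hfix
  exact D.mem_R_of_W D.t_mem_W D.t_ne (mul_mem hu (D.H_conj D.t_mem hu)) hfix

theorem exists_coord : ∃ (K : Type) (_ : Field K) (_ : Fintype K), Nonempty (Coord D K) := by
  classical
  haveI := Fact.mk D.hp
  obtain ⟨hinj, hVc, hVirr⟩ := D.layer_V
  obtain ⟨g, hg, hgen⟩ := D.exists_gen
  set γ : D.H := ⟨g, hg⟩
  have hgen' : ∀ x : D.H, ∃ k : ℕ, γ ^ k = x := fun x => by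
    obtain ⟨k, hk⟩ := hgen x x.2
    exact ⟨k, Subtype.ext (by simpa using hk)⟩
  letI : CommGroup (D.U ⧸ D.R.subgroupOf D.U) :=
    { (inferInstance : Group (D.U ⧸ D.R.subgroupOf D.U)) with mul_comm := hVc }
  haveI : Nontrivial (D.U ⧸ D.R.subgroupOf D.U) := Finite.one_lt_card_iff_nontrivial.1 (by
    rw [D.card_V]; exact Nat.one_lt_pow (by norm_num) (by have := D.three_le_q; omega))
  let fV : AddMonoid.End (Additive (D.U ⧸ D.R.subgroupOf D.U)) := (D.actV γ).toMonoidHom.toAdditive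
  obtain ⟨K, iK, iKf, e, ω, hω⟩ := exists_field fV (fun B hB => by
    rcases hVirr B.toSubgroup' (fun h x hx => by
      obtain ⟨j, rfl⟩ := hgen' h
      induction j with
      | zero => simpa using hx
      | succ j ih =>
        rw [pow_succ', map_mul, MulAut.mul_apply]
        exact hB _ ih) with h | h
    · exact Or.inl ((AddSubgroup.eq_bot_iff_forall _).2 fun x hx =>
        (Subgroup.mem_bot.1 (h.le (show Additive.toMul x ∈ B.toSubgroup' from hx)) :
          (Additive.toMul x : D.U ⧸ D.R.subgroupOf D.U) = 1))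
    · exact Or.inr (eq_top_iff.2 fun x _ => h.ge (Subgroup.mem_top (Additive.toMul x))))
  -- the field of `R`
  letI : CommGroup D.R := { (inferInstance : Group D.R) with
    mul_comm := fun x y => Subtype.ext (D.R_comm x.2 y.2) }
  haveI : Nontrivial D.R := (Subgroup.nontrivial_iff_ne_bot _).2 D.R_ne_bot
  let hRH : ∀ h ∈ D.H, ∀ u ∈ D.R, h * u * h⁻¹ ∈ D.R := fun _ hh _ hu => D.H_R hh hu
  let fR : AddMonoid.End (Additive D.R) := (D.act D.R hRH γ).toMonoidHom.toAdditive
  obtain ⟨F, iF, iFf, e', ν', hν'⟩ := exists_field fR (fun B hB => by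
    set M : Subgroup G := (B.toSubgroup').map D.R.subtype with hM
    rcases D.R_irr (M := M) (Subgroup.map_subtype_le _) (fun h hh x hx => by
      obtain ⟨j, rfl⟩ := hgen h hh
      induction j with
      | zero => simpa using hx
      | succ j ih =>
        obtain ⟨y, hy, e1⟩ := ih (pow_mem hg j)
        refine ⟨D.act D.R hRH γ y, hB _ hy, ?_⟩
        show g * (y : G) * g⁻¹ = _
        rw [show (y : G) = g ^ j * x * (g ^ j)⁻¹ from e1, pow_succ']; group) with h | h
    · refine Or.inl ((AddSubgroup.eq_bot_iff_forall _).2 fun x hx => ?_)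
      have h' : ((Additive.toMul x : D.R) : G) ∈ M := ⟨Additive.toMul x, hx, rfl⟩
      rw [h, Subgroup.mem_bot] at h'
      exact (Subtype.ext h' : (Additive.toMul x : D.R) = 1)
    · refine Or.inr (eq_top_iff.2 fun x _ => ?_)
      obtain ⟨y, hy, hyx⟩ := h.ge (Additive.toMul x : D.R).2
      rw [show x = Additive.ofMul y from Additive.toMul.injective (Subtype.ext hyx.symm)]
      exact hy)
  have hK : Fintype.card K = D.q ^ 2 := by
    rw [← D.card_V, ← Nat.card_eq_fintype_card, Nat.card_congr e.toEquiv, Nat.card_congr Additive.toMul]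
  have hFc : Fintype.card F = D.q := by
    rw [← D.card_R, ← Nat.card_eq_fintype_card, Nat.card_congr e'.toEquiv, Nat.card_congr Additive.toMul]
  haveI : CharP K D.p := charP_of_card_eq_prime_pow (f := D.n * 2) (by rw [hK, pow_mul]; rfl)
  -- orders
  have hωk : ∀ (k : ℕ) (x : K), (D.actV γ ^ k) (Additive.toMul (e x)) = Additive.toMul (e (ω ^ k * x)) := by
    intro k x
    induction k with
    | zero => simp
    | succ k ih =>
      rw [pow_succ', MulAut.mul_apply, ih, pow_succ', mul_assoc]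
      exact congrArg Additive.toMul (hω (ω ^ k * x))
  have hνk : ∀ (k : ℕ) (x : F), (D.act D.R hRH γ ^ k) (Additive.toMul (e' x)) =
      Additive.toMul (e' (ν' ^ k * x)) := by
    intro k x
    induction k with
    | zero => simp
    | succ k ih =>
      rw [pow_succ', MulAut.mul_apply, ih, pow_succ', mul_assoc]
      exact congrArg Additive.toMul (hν' (ν' ^ k * x))
  have hωo : orderOf ω = Nat.card D.H := by
    rw [← orderOf_eq_card_of_forall_mem_zpowers (g := γ) fun x => by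
      obtain ⟨k, rfl⟩ := hgen' x; exact Subgroup.npow_mem_zpowers _ _, ← orderOf_injective D.actV hinj γ]
    refine orderOf_eq_orderOf_iff.2 fun k => ⟨fun h => ?_, fun h => ?_⟩
    · refine MulEquiv.ext fun y => ?_
      obtain ⟨x, hx⟩ := e.surjective (Additive.ofMul y)
      rw [MulAut.one_apply, show y = Additive.toMul (e x) by rw [hx]; rfl, hωk, h, one_mul]
    · have h1 := hωk k 1
      rw [h, MulAut.one_apply, mul_one] at h1
      exact (e.injective (Additive.toMul.injective h1)).symm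
  have hνo : orderOf ν' = D.q - 1 := by
    rw [← D.card_act_R, card_range_eq hgen']
    refine orderOf_eq_orderOf_iff.2 fun k => ⟨fun h => ?_, fun h => ?_⟩
    · refine MulEquiv.ext fun y => ?_
      obtain ⟨x, hx⟩ := e'.surjective (Additive.ofMul y)
      rw [MulAut.one_apply, show y = Additive.toMul (e' x) by rw [hx]; rfl, hνk, h, one_mul]
    · have h1 := hνk k 1
      rw [h, MulAut.one_apply, mul_one] at h1
      exact (e'.injective (Additive.toMul.injective h1)).symm
  obtain ⟨ι, hιq, hιs⟩ := exists_embedding (p := D.p) D.hn hFc hK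
  -- the symmetric section
  let π : K → D.U ⧸ D.R.subgroupOf D.U := fun x => Additive.toMul (e x)
  have hπadd : ∀ x y, π (x + y) = π x * π y := fun x y => by simp only [π, map_add]; rfl
  have hsec : ∀ x, ∃ s, ∃ hs : s ∈ D.U,
      ((⟨s, hs⟩ : D.U) : D.U ⧸ D.R.subgroupOf D.U) = π x ∧ D.t * s * D.t⁻¹ = s⁻¹ := by
    intro x
    obtain ⟨⟨u, hu⟩, hux⟩ := QuotientGroup.mk_surjective (π x)
    have hr := D.t_inverts hu
    obtain ⟨r', hr', hsq⟩ := D.exists_half (inv_mem hr)
    refine ⟨u * r', mul_mem hu (D.R_le hr'), ?_, ?_⟩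
    · rw [← hux, QuotientGroup.eq, Subgroup.mem_subgroupOf]
      simpa using inv_mem hr'
    · calc D.t * (u * r') * D.t⁻¹ = (D.t * u * D.t⁻¹) * (D.t * r' * D.t⁻¹) := by group
        _ = (D.t * u * D.t⁻¹) * r' := by rw [(D.mem_R.1 hr').2, mul_inv_cancel_right]
        _ = u⁻¹ * (u * (D.t * u * D.t⁻¹) * r' * r') * r'⁻¹ := by group
        _ = u⁻¹ * (u * (D.t * u * D.t⁻¹) * (r' * r')) * r'⁻¹ := by group
        _ = u⁻¹ * r'⁻¹ := by rw [hsq]; group
        _ = (u * r')⁻¹ := by rw [mul_inv_rev, D.R_central (inv_mem hr') (inv_mem hu)]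
  choose s hsU hsπ hst using hsec
  have hsuniq : ∀ (x : K) (v : G) (hv : v ∈ D.U), ((⟨v, hv⟩ : D.U) : D.U ⧸ D.R.subgroupOf D.U) = π x →
      D.t * v * D.t⁻¹ = v⁻¹ → v = s x := by
    intro x v hv h1 h2
    have h3 : (s x)⁻¹ * v ∈ D.R :=
      Subgroup.mem_subgroupOf.1 (QuotientGroup.eq.1 ((hsπ x).trans h1.symm))
    have h4 : ((s x)⁻¹ * v) * ((s x)⁻¹ * v) = 1 := by
      have h5 : D.t * ((s x)⁻¹ * v) * D.t⁻¹ = (s x)⁻¹ * v := by
        rw [(D.mem_R.1 h3).2, mul_inv_cancel_right]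
      rw [show D.t * ((s x)⁻¹ * v) * D.t⁻¹ = (D.t * s x * D.t⁻¹)⁻¹ * (D.t * v * D.t⁻¹) by group,
        hst, inv_inv, h2] at h5
      nth_rewrite 2 [← h5]
      rw [← mul_assoc, ← D.R_central h3 (hsU x)]
      group
    exact (inv_mul_eq_one.1 (D.R_sq h3 h4)).symm
  -- the defect of the section
  let r : K → K → G := fun x y => (s (x + y))⁻¹ * (s x * s y)
  have hr : ∀ x y, r x y ∈ D.R := fun x y => by
    refine Subgroup.mem_subgroupOf.1 ((QuotientGroup.eq (s := D.R.subgroupOf D.U)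
      (a := (⟨s (x + y), hsU _⟩ : D.U)) (b := ⟨s x, hsU x⟩ * ⟨s y, hsU y⟩)).1 ?_)
    rw [QuotientGroup.mk_mul, hsπ, hsπ, hsπ, hπadd]
  have hrs : ∀ x y, s x * s y = s (x + y) * r x y := fun x y => (mul_inv_cancel_left _ _).symm
  have hskew : ∀ x y, r y x = (r x y)⁻¹ := by
    intro x y
    have h1 : (s x)⁻¹ * (s y)⁻¹ = (s (x + y))⁻¹ * r x y := by
      calc (s x)⁻¹ * (s y)⁻¹ = D.t * (s x * s y) * D.t⁻¹ := by rw [← hst x, ← hst y]; group
        _ = (D.t * s (x + y) * D.t⁻¹) * (D.t * r x y * D.t⁻¹) := by rw [hrs]; group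
        _ = _ := by rw [hst, (D.mem_R.1 (hr x y)).2, mul_inv_cancel_right]
    have h2 : s y * s x = (r x y)⁻¹ * s (x + y) := by
      calc s y * s x = ((s x)⁻¹ * (s y)⁻¹)⁻¹ := by group
        _ = _ := by rw [h1]; group
    show (s (y + x))⁻¹ * (s y * s x) = _
    rw [add_comm y x, h2, ← mul_assoc, D.R_central (inv_mem (hr x y)) (inv_mem (hsU _))]
    group
  have hcoc : ∀ x y z, r x y * r (x + y) z = r y z * r x (y + z) := by
    intro x y z
    have h1 : s x * s y * s z = s (x + y + z) * (r x y * r (x + y) z) := by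
      rw [hrs x y, mul_assoc, ← D.R_central (hr x y) (hsU z), ← mul_assoc, hrs (x + y) z, mul_assoc,
        D.R_comm (hr (x + y) z) (hr x y)]
    have h2 : s x * s y * s z = s (x + y + z) * (r y z * r x (y + z)) := by
      rw [mul_assoc, hrs y z, ← mul_assoc, hrs x (y + z), mul_assoc, ← add_assoc,
        D.R_comm (hr x (y + z)) (hr y z)]
    exact mul_left_cancel (h1.symm.trans h2)
  have hg1 : ∀ x, g * s x * g⁻¹ = s (ω * x) := fun x => by
    refine hsuniq _ _ (D.H_conj hg (hsU x)) ?_ ?_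
    · have h1 := hωk 1 x
      rw [pow_one, pow_one] at h1
      show _ = Additive.toMul (e (ω * x))
      rw [← h1, show (Additive.toMul (e x) : D.U ⧸ D.R.subgroupOf D.U) = π x from rfl, ← hsπ x, D.actV_mk]
    · calc D.t * (g * s x * g⁻¹) * D.t⁻¹ = (D.t * g) * s x * (D.t * g)⁻¹ := by group
        _ = g * (D.t * s x * D.t⁻¹) * g⁻¹ := by rw [← D.H_comm_t hg]; group
        _ = _ := by rw [hst]; group
  -- coordinates on `R`
  let ρ : F → G := fun x => ((Additive.toMul (e' x) : D.R) : G)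
  have hρ : ∀ x, ρ x ∈ D.R := fun x => (Additive.toMul (e' x) : D.R).2
  have hρadd : ∀ x y, ρ (x + y) = ρ x * ρ y := fun x y => by simp only [ρ, map_add]; rfl
  have hρ0 : ρ 0 = 1 := by simp [ρ]
  have hρinj : Function.Injective ρ := fun x y h =>
    e'.injective (Additive.toMul.injective (Subtype.ext h))
  have hρs : ∀ v ∈ D.R, ∃ x, ρ x = v := fun v hv => by
    obtain ⟨x, hx⟩ := e'.surjective (Additive.ofMul (⟨v, hv⟩ : D.R))
    exact ⟨x, by simp [ρ, hx]⟩
  have hgρ : ∀ x, g * ρ x * g⁻¹ = ρ (ν' * x) := fun x => by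
    have h1 := hνk 1 x
    rw [pow_one, pow_one] at h1
    exact congrArg Subtype.val h1
  choose a ha using fun x y => hρs _ (hr x y)
  have haskew : ∀ x y, a y x = -a x y := fun x y => hρinj (by
    rw [ha, hskew, ← ha x y]
    refine inv_eq_of_mul_eq_one_left ?_
    rw [← hρadd, neg_add_cancel, hρ0])
  have hacoc : ∀ x y z, a x y + a (x + y) z = a y z + a x (y + z) := fun x y z => hρinj (by
    rw [hρadd, hρadd, ha, ha, ha, ha, hcoc])
  have hF2 : (2 : F) ≠ 0 := fun h => by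
    haveI : CharP F D.p := charP_of_card_eq_prime_pow hFc
    have h' : ((2 : ℕ) : F) = 0 := by exact_mod_cast h
    rw [CharP.cast_eq_zero_iff F D.p] at h'
    have := Nat.le_of_dvd (by norm_num) h'
    have := D.three_le_p
    omega
  have hal : ∀ x y z, a (x + y) z = a x z + a y z := fun x y z => by
    have e1 := hacoc x y z
    have e2 := hacoc x z y
    have e3 := hacoc y x z
    rw [add_comm y x] at e3
    rw [haskew y z, add_comm z y] at e2
    rw [haskew x y, haskew (x + z) y] at e3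
    refine mul_left_cancel₀ hF2 ?_
    linear_combination e1 - e2 + e3
  have har : ∀ x y z, a x (y + z) = a x y + a x z := fun x y z => by
    rw [haskew (y + z) x, hal, haskew x y, haskew x z]; ring
  have hag : ∀ x y, a (ω * x) (ω * y) = ν' * a x y := fun x y => hρinj (by
    rw [ha, ← hgρ, ha]
    show (s (ω * x + ω * y))⁻¹ * (s (ω * x) * s (ω * y)) = g * ((s (x + y))⁻¹ * (s x * s y)) * g⁻¹
    rw [← mul_add, ← hg1, ← hg1, ← hg1]; group)
  have hνq : ι ν' ^ D.q = ι ν' := hιq ν'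
  obtain ⟨σ, c, hc, hσ, hcν⟩ := skew_of_semi (p := D.p) (n := D.n) (d := D.d) D.three_le_p D.hn
    (D.d_cases.imp id fun h => ⟨h.1, h.2.2⟩) hK (ω := ω) (ν := ι ν') hνq
    ((orderOf_injective ι.toMonoidHom ι.injective ν').trans hνo)
    (by rw [hωo]; exact D.card_H) (fun x y => ι (a x y))
    (fun x y z => by rw [hal, map_add]) (fun x y z => by rw [har, map_add])
    (fun x y => by rw [haskew, map_neg]) (fun x y => hιq _) (fun x y => by rw [hag, map_mul])
  -- assemble
  let j : F →+* K := σ.toRingHom.comp ι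
  have hjq : ∀ x, j x ^ D.q = j x := fun x => by rw [← map_pow, ← hFc, FiniteField.pow_card]
  have hjs : ∀ z : K, z ^ D.q = z → ∃ x, j x = z := fun z hz => by
    obtain ⟨x, hx⟩ := hιs (σ.symm z) (by rw [← map_pow, show z ^ D.p ^ D.n = z from hz])
    exact ⟨x, by show σ (ι x) = z; rw [hx, RingEquiv.apply_symm_apply]⟩
  have hji : ∀ x, Function.invFun j (j x) = x := Function.leftInverse_invFun j.injective
  let P : K → K → G := fun θ z => s θ * ρ (Function.invFun j z)
  have hPj : ∀ θ x, P θ (j x) = s θ * ρ x := fun θ x => by simp only [P, hji]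
  refine ⟨K, iK, iKf, ⟨⟨g, ω, j ν', c, P, hK, hg, hgen, by rw [hωo]; exact D.card_H,
    (orderOf_injective j.toMonoidHom j.injective ν').trans hνo, hjq ν', hc, hcν,
    ?_, ?_, ?_, ?_, ?_, ?_⟩⟩⟩
  · exact fun θ z _ => mul_mem (hsU θ) (D.R_le (hρ _))
  · intro u hu
    obtain ⟨θ, hθ⟩ := e.surjective (Additive.ofMul ((⟨u, hu⟩ : D.U) : D.U ⧸ D.R.subgroupOf D.U))
    have h1 : (s θ)⁻¹ * u ∈ D.R := Subgroup.mem_subgroupOf.1 (QuotientGroup.eq.1
      ((hsπ θ).trans (congrArg Additive.toMul hθ)))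
    obtain ⟨x, hx⟩ := hρs _ h1
    exact ⟨θ, j x, hjq x, by rw [hPj, hx, mul_inv_cancel_left]⟩
  · intro θ z θ' z' hz hz' h
    obtain ⟨x, rfl⟩ := hjs z hz
    obtain ⟨x', rfl⟩ := hjs z' hz'
    rw [hPj, hPj] at h
    have h1 : θ = θ' := by
      refine e.injective (Additive.toMul.injective ?_)
      show π θ = π θ'
      rw [← hsπ, ← hsπ, QuotientGroup.eq, Subgroup.mem_subgroupOf]
      show (s θ)⁻¹ * s θ' ∈ D.R
      rw [show (s θ)⁻¹ * s θ' = ρ x * (ρ x')⁻¹ by rw [eq_mul_inv_iff_mul_eq, mul_assoc, ← h, inv_mul_cancel_left]]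
      exact mul_mem (hρ x) (inv_mem (hρ x'))
    subst h1
    exact ⟨rfl, congrArg j (hρinj (mul_left_cancel h))⟩
  · intro θ z θ' z' hz hz'
    obtain ⟨x, rfl⟩ := hjs z hz
    obtain ⟨x', rfl⟩ := hjs z' hz'
    rw [hPj, hPj, show j x + j x' + c * (θ ^ D.q * θ' - θ * θ' ^ D.q) = j (a θ θ' + (x + x')) by
      rw [map_add, map_add, show j (a θ θ') = σ (ι (a θ θ')) from rfl, hσ]; rw [D.q_def]; ring, hPj, hρadd, hρadd]
    calc s θ * ρ x * (s θ' * ρ x') = s θ * (ρ x * s θ') * ρ x' := by group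
      _ = s θ * s θ' * (ρ x * ρ x') := by rw [← D.R_central (hρ x) (hsU θ')]; group
      _ = _ := by rw [hrs, ha, mul_assoc]
  · intro θ z hz
    obtain ⟨x, rfl⟩ := hjs z hz
    rw [hPj, Subgroup.mul_mem_cancel_right _ (hρ x)]
    constructor
    · intro h
      refine e.injective (Additive.toMul.injective ?_)
      show π θ = π 0
      rw [← hsπ, (QuotientGroup.eq_one_iff (⟨s θ, hsU θ⟩ : D.U)).2 (Subgroup.mem_subgroupOf.2 h)]
      simp [π]
    · rintro rfl
      have h := hsπ 0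
      rw [show π 0 = 1 by simp [π], QuotientGroup.eq_one_iff] at h
      exact Subgroup.mem_subgroupOf.1 h
  · intro θ z hz
    obtain ⟨x, rfl⟩ := hjs z hz
    rw [← map_mul, hPj, hPj, ← hg1, ← hgρ]
    group

end Hyp

end Cfsg.Agent.Lie.UThreeOdd
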