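import Cfsg.Agent.Lib.Lie.UThreeOdd.Fix

/-!
The involution `t` of the two-point stabiliser, its fixed set of `q + 1` points, and the pointwise stabiliser `W` of
this set, of order `(q + 1)/d`, central in the centraliser of `t`.
-/

set_option autoImplicit false
set_option linter.unusedSectionVars false

namespace Cfsg.Agent.Lie.UThreeOdd

open MulAction

universe u v

/-- The order of the image of a finite cyclic group is the order of the image of a generator. -/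
theorem card_range_eq {A B : Type*} [Group A] [Group B] [Finite A] {g : A} (hg : ∀ x, ∃ k : ℕ, g ^ k = x)
    (f : A →* B) : Nat.card f.range = orderOf (f g) := by
  rw [← Nat.card_zpowers]
  refine congrArg (fun S : Subgroup B => Nat.card S) (le_antisymm ?_ (Subgroup.zpowers_le.2 ⟨g, rfl⟩))
  rintro _ ⟨x, rfl⟩
  obtain ⟨k, rfl⟩ := hg x
  rw [map_pow]
  exact Subgroup.npow_mem_zpowers _ _

namespace Hyp

variable {G : Type u} {Ω : Type v} [Group G] [MulAction G Ω] [Finite G] (D : Hyp G Ω)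
include D

/-- `H` acting on a subgroup it normalises. -/
def act (N : Subgroup G) (hN : ∀ h ∈ D.H, ∀ u ∈ N, h * u * h⁻¹ ∈ N) : D.H →* MulAut N where
  toFun h :=
    { toFun := fun u => ⟨(h : G) * u * (h : G)⁻¹, hN h h.2 u u.2⟩
      invFun := fun u => ⟨(h : G)⁻¹ * u * (h : G)⁻¹⁻¹, hN _ (inv_mem h.2) u u.2⟩
      left_inv := fun u => Subtype.ext (by group)
      right_inv := fun u => Subtype.ext (by group)
      map_mul' := fun u v => Subtype.ext (by simp only [Subgroup.coe_mul]; group) }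
  map_one' := by ext u; simp
  map_mul' h k := by ext u; simp [mul_assoc]

theorem act_apply {N : Subgroup G} (hN : ∀ h ∈ D.H, ∀ u ∈ N, h * u * h⁻¹ ∈ N) (h : D.H) (u : N) :
    ((D.act N hN h) u : G) = (h : G) * u * (h : G)⁻¹ := rfl

/-- The elements of `H` centralising `N`. -/
def cH (N : Subgroup G) : Subgroup G := D.H ⊓ Subgroup.centralizer (N : Set G)

theorem mem_cH {N : Subgroup G} {h : G} : h ∈ D.cH N ↔ h ∈ D.H ∧ ∀ u ∈ N, h * u = u * h := by
  rw [cH, Subgroup.mem_inf, Subgroup.mem_centralizer_iff]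
  exact and_congr_right fun _ => ⟨fun e u hu => (e u hu).symm, fun e u hu => (e u hu).symm⟩

theorem mem_ker_act {N : Subgroup G} (hN : ∀ h ∈ D.H, ∀ u ∈ N, h * u * h⁻¹ ∈ N) (h : D.H) :
    h ∈ (D.act N hN).ker ↔ (h : G) ∈ D.cH N := by
  rw [MonoidHom.mem_ker, D.mem_cH]
  refine ⟨fun e => ⟨h.2, fun u hu => mul_inv_eq_iff_eq_mul.1 ?_⟩, fun e => MulEquiv.ext fun u => Subtype.ext ?_⟩
  · exact congrArg (fun f : MulAut N => ((f ⟨u, hu⟩ : N) : G)) e
  · exact mul_inv_eq_iff_eq_mul.2 (e.2 u u.2)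

theorem card_range_mul {N : Subgroup G} (hN : ∀ h ∈ D.H, ∀ u ∈ N, h * u * h⁻¹ ∈ N) :
    Nat.card (D.act N hN).range * Nat.card (D.cH N) = Nat.card D.H := by
  rw [← (D.act N hN).ker.index_mul_card, Subgroup.index_ker]
  congr 1
  exact Nat.card_congr
    { toFun := fun x => ⟨⟨x.1, (D.mem_cH.1 x.2).1⟩, (D.mem_ker_act hN _).2 x.2⟩
      invFun := fun x => ⟨(x.1 : G), (D.mem_ker_act hN _).1 x.2⟩
      left_inv := fun x => rfl
      right_inv := fun x => rfl }

/-- A cyclic group of operators on a `p`-group `N` has order less than `|N|`. -/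
theorem card_range_lt {N : Subgroup G} (hNU : N ≤ D.U) (hN1 : N ≠ ⊥)
    (hN : ∀ h ∈ D.H, ∀ u ∈ N, h * u * h⁻¹ ∈ N) :
    Nat.card (D.act N hN).range + 1 ≤ Nat.card N ∧ (Nat.card (D.act N hN).range + 1 = Nat.card N →
      (∀ u ∈ N, ∀ v ∈ N, u * v = v * u) ∧
        ∀ M : Subgroup G, M ≤ N → (∀ h ∈ D.H, ∀ u ∈ M, h * u * h⁻¹ ∈ M) → M = ⊥ ∨ M = N) := by
  haveI := Fact.mk D.hp
  haveI : Nontrivial N := (Subgroup.nontrivial_iff_ne_bot N).2 hN1
  have hP : IsPGroup D.p N := by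
    have hU : IsPGroup D.p D.U := IsPGroup.of_card (n := D.n * 3) (by rw [D.card_U, pow_mul])
    exact hU.to_le hNU
  obtain ⟨g, hg, hgen⟩ := D.exists_gen
  have hgen' : ∀ x : D.H, ∃ k : ℕ, (⟨g, hg⟩ : D.H) ^ k = x := fun x => by
    obtain ⟨k, hk⟩ := hgen x x.2
    exact ⟨k, Subtype.ext (by simpa using hk)⟩
  rw [card_range_eq hgen']
  set f := D.act N hN ⟨g, hg⟩ with hf
  obtain ⟨h1, h2⟩ := orderOf_lt hP f (D.coprime_H.coprime_dvd_left
    ((orderOf_map_dvd _ _).trans (orderOf_dvd_natCard _)))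
  refine ⟨h1, fun e => ?_⟩
  obtain ⟨hc, hirr⟩ := h2 e
  refine ⟨fun u hu v hv => congrArg Subtype.val (hc ⟨u, hu⟩ ⟨v, hv⟩), fun M hMN hM => ?_⟩
  rcases hirr (M.subgroupOf N) (fun x hx => hM g hg _ hx) with e' | e'
  · left
    rw [← Subgroup.map_subgroupOf_eq_of_le hMN, e', Subgroup.map_bot]
  · right
    exact le_antisymm hMN (Subgroup.subgroupOf_eq_top.1 e')

/-! ### The involution -/

theorem exists_t : ∃ t ∈ D.H, t * t = 1 ∧ t ≠ 1 := by
  haveI := Fact.mk Nat.prime_two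
  obtain ⟨⟨t, ht⟩, hto⟩ := exists_prime_orderOf_dvd_card' (G := D.H) 2 (even_iff_two_dvd.1 D.even_H)
  rw [Subgroup.orderOf_mk] at hto
  exact ⟨t, ht, by rw [← sq, ← hto, pow_orderOf_eq_one], fun e => by rw [e, orderOf_one] at hto; omega⟩

/-- The involution of `H`. -/
noncomputable def t : G := D.exists_t.choose

theorem t_mem : D.t ∈ D.H := D.exists_t.choose_spec.1
theorem t_mul : D.t * D.t = 1 := D.exists_t.choose_spec.2.1
theorem t_ne : D.t ≠ 1 := D.exists_t.choose_spec.2.2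
theorem t_inv : D.t⁻¹ = D.t := inv_eq_of_mul_eq_one_right D.t_mul
theorem t_order : orderOf D.t = 2 := by
  haveI := Fact.mk Nat.prime_two
  exact orderOf_eq_prime (by rw [sq, D.t_mul]) D.t_ne

theorem t_smul (c : Ω) : D.t • D.t • c = c := by rw [← mul_smul, D.t_mul, one_smul]

/-- The involutions fixing two given points coincide. -/
theorem invol_eq {x y : Ω} (hxy : x ≠ y) {z z' : G} (hz : orderOf z = 2) (hz' : orderOf z' = 2)
    (hx : z • x = x) (hy : z • y = y) (hx' : z' • x = x) (hy' : z' • y = y) : z = z' := by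
  have h := D.zpowers_eq hxy hx hy hx' hy' (hz.trans hz'.symm)
  obtain ⟨k, hk⟩ := Subgroup.mem_zpowers_iff.1 (h ▸ Subgroup.mem_zpowers z : z ∈ Subgroup.zpowers z')
  rw [← zpow_mod_orderOf, hz'] at hk
  rcases Int.emod_two_eq_zero_or_one k with e | e
  · rw [show k % ((2 : ℕ) : ℤ) = 0 from e, zpow_zero] at hk
    rw [← hk, orderOf_one] at hz
    omega
  · rw [show k % ((2 : ℕ) : ℤ) = 1 from e, zpow_one] at hk
    exact hk.symm

theorem eq_t {z : G} (hz : z ∈ D.H) (ho : orderOf z = 2) : z = D.t :=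
  D.invol_eq D.hab ho D.t_order hz.1 hz.2 D.t_mem.1 D.t_mem.2

theorem H_comm_t {g : G} (hg : g ∈ D.H) : g * D.t = D.t * g := D.H_comm hg D.t_mem

/-- An element moving `(a, b)` into the fixed set of `t` centralises `t`. -/
theorem cent_of_fix {g : G} (ha : D.t • g • D.a = g • D.a) (hb : D.t • g • D.b = g • D.b) :
    g * D.t = D.t * g := by
  refine mul_inv_eq_iff_eq_mul.1 (D.invol_eq (fun e => D.hab (smul_left_cancel g e)) ?_ D.t_order
    (conj_fix D.t_mem.1) (conj_fix D.t_mem.2) ha hb)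
  rw [orderOf_conj', D.t_order]

theorem exists_swap : ∃ s : G, s • D.a = D.b ∧ s • D.b = D.a ∧ s * D.t = D.t * s := by
  obtain ⟨s, hsa, hsb⟩ := D.two D.hab D.b_ne
  exact ⟨s, hsa, hsb, D.cent_of_fix (by rw [hsa, D.t_mem.2]) (by rw [hsb, D.t_mem.1])⟩

/-- `U ∩ C(t)`. -/
noncomputable def R : Subgroup G := D.cU D.t

/-- The elements of `H` fixing every fixed point of `t`. -/
noncomputable def W : Subgroup G := D.cH D.R

theorem mem_R {u : G} : u ∈ D.R ↔ u ∈ D.U ∧ D.t * u = u * D.t := D.mem_cU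

theorem R_le : D.R ≤ D.U := inf_le_left

theorem mem_W {h : G} : h ∈ D.W ↔ h ∈ D.H ∧ ∀ u ∈ D.R, h * u = u * h := D.mem_cH

theorem H_R {h : G} (hh : h ∈ D.H) {u : G} (hu : u ∈ D.R) : h * u * h⁻¹ ∈ D.R := by
  obtain ⟨hu1, hu2⟩ := D.mem_R.1 hu
  refine D.mem_R.2 ⟨D.H_conj hh hu1, ?_⟩
  calc D.t * (h * u * h⁻¹) = h * (D.t * u) * h⁻¹ := by
        rw [← mul_assoc, ← mul_assoc, ← D.H_comm_t hh]; group
    _ = h * u * (D.t * h⁻¹) := by rw [hu2]; group
    _ = _ := by rw [← D.H_comm_t (inv_mem hh)]; group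

theorem W_fix {w : G} (hw : w ∈ D.W) {c : Ω} (hc : D.t • c = c) : w • c = c := by
  by_cases h : c = D.a
  · rw [h]; exact (D.mem_W.1 hw).1.1
  · obtain ⟨u, hu, rfl⟩ := D.exists_cU_of_fix D.t_mem h hc
    exact (D.smul_point_eq_iff (D.mem_W.1 hw).1 (D.R_le hu)).2 ((D.mem_W.1 hw).2 u hu)

theorem W_of_fix {w : G} (hw : w ∈ D.H) (h : ∀ c : Ω, D.t • c = c → w • c = c) : w ∈ D.W :=
  D.mem_W.2 ⟨hw, fun _ hu => (D.smul_point_eq_iff hw (D.R_le hu)).1 (h _ (D.cU_fix D.t_mem hu))⟩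

theorem cU_t_le [FaithfulSMul G Ω] : Nat.card D.R ≤ D.q := D.cU_le D.t_mem D.t_ne

/-- An involution conjugate to `t` fixes `c` and `t c`, and commutes with `t`. -/
theorem exists_line {c : Ω} (hc : D.t • c ≠ c) :
    ∃ g : G, g • D.a = c ∧ g • D.b = D.t • c ∧ (g * D.t * g⁻¹) * D.t = D.t * (g * D.t * g⁻¹) := by
  obtain ⟨g, hga, hgb⟩ := D.two D.hab (Ne.symm hc)
  refine ⟨g, hga, hgb, ?_⟩
  set z := g * D.t * g⁻¹ with hz
  have h1 : z • c = c := hga ▸ conj_fix D.t_mem.1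
  have h2 : z • D.t • c = D.t • c := hgb ▸ conj_fix D.t_mem.2
  have e : D.t * z * D.t⁻¹ = z := D.invol_eq (Ne.symm hc) (by rw [orderOf_conj', hz, orderOf_conj', D.t_order])
    (by rw [hz, orderOf_conj', D.t_order])
    (by rw [conj_fix_iff, D.t_inv, h2]) (by rw [conj_fix_iff, inv_smul_smul, h1]) h1 h2
  exact (mul_inv_eq_iff_eq_mul.1 e).symm

theorem R_ne_bot [FaithfulSMul G Ω] : D.R ≠ ⊥ := by
  classical
  haveI := D.finite_points
  intro hR
  have hfix : ∀ c : Ω, D.t • c = c → c = D.a ∨ c = D.b := fun c hc => by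
    by_contra h
    push Not at h
    obtain ⟨u, hu, rfl⟩ := D.exists_cU_of_fix D.t_mem h.1 hc
    rw [show u = 1 from Subgroup.mem_bot.1 (hR ▸ hu), one_smul] at h
    exact h.2 rfl
  obtain ⟨s, hsa, hsb, -⟩ := D.exists_swap
  let X := {c : Ω // D.t • c ≠ c}
  choose g hga hgb hg using fun c : X => D.exists_line c.2
  let z : X → G := fun c => g c * D.t * (g c)⁻¹
  have hswap : ∀ c : X, z c • D.a = D.b ∧ z c • D.b = D.a := by
    intro c
    have hcomm : ∀ y : Ω, D.t • y = y → D.t • z c • y = z c • y := fun y hy => by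
      rw [← mul_smul, ← hg, mul_smul, hy]
    have hne : z c • D.a ≠ D.a := fun e => by
      rcases hfix _ (hcomm _ D.t_mem.2) with h | h
      · exact D.b_ne (smul_left_cancel (z c) (h.trans e.symm))
      · have h0 : z c = D.t := D.eq_t ⟨e, h⟩ (by rw [orderOf_conj', D.t_order])
        have h1 : z c • g c • D.a = g c • D.a := conj_fix D.t_mem.1
        rw [h0, hga] at h1
        exact c.2 h1
    refine ⟨(hfix _ (hcomm _ D.t_mem.1)).resolve_left hne, ?_⟩
    rcases hfix _ (hcomm _ D.t_mem.2) with h | h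
    · exact h
    · exact absurd (smul_left_cancel (z c) (((hfix _ (hcomm _ D.t_mem.1)).resolve_left hne).trans h.symm)) D.hab
  obtain ⟨n0, ⟨eΩ⟩⟩ := Finite.exists_equiv_fin Ω
  let f : X → D.H × Bool := fun c => (⟨s⁻¹ * z c, by
    rw [D.mem_H, mul_smul s⁻¹, mul_smul s⁻¹, (hswap c).1, (hswap c).2, inv_smul_eq_iff, inv_smul_eq_iff]
    exact ⟨hsa.symm, hsb.symm⟩⟩, decide (eΩ c.1 <
      eΩ (D.t • c.1)))
  have hf : Function.Injective f := by
    intro c c' e
    have e1 : z c = z c' := mul_left_cancel (congrArg (fun w : D.H × Bool => (w.1 : G)) e)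
    have hc' : c'.1 = c.1 ∨ c'.1 = D.t • c.1 := by
      have h0 : z c • c'.1 = c'.1 := e1 ▸ hga c' ▸ conj_fix D.t_mem.1
      rcases hfix _ (conj_fix_iff.1 h0) with h | h <;> rw [inv_smul_eq_iff] at h
      · exact Or.inl (h.trans (hga c))
      · exact Or.inr (h.trans (hgb c))
    rcases hc' with h | h
    · exact Subtype.ext h.symm
    · exfalso
      have h2 := congrArg (fun w : D.H × Bool => w.2) e
      simp only [f, h, D.t_smul, decide_eq_decide] at h2
      rcases lt_trichotomy (eΩ c.1)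
        (eΩ (D.t • c.1)) with h3 | h3 | h3
      · exact lt_irrefl _ (h3.trans (h2.1 h3))
      · exact c.2 (eΩ.injective h3).symm
      · exact lt_irrefl _ (h3.trans (h2.2 h3))
  have h1 := Nat.card_le_card_of_injective f hf
  have h2 : Nat.card X + Nat.card {c : Ω // D.t • c = c} = Nat.card Ω := by
    rw [← Nat.card_sum]
    exact Nat.card_congr ((Equiv.sumComm _ _).trans (Equiv.sumCompl _))
  rw [D.card_fix D.t_mem, show D.cU D.t = ⊥ from hR, Subgroup.card_bot, D.card_points] at h2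
  rw [Nat.card_prod, Nat.card_eq_fintype_card (α := Bool), Fintype.card_bool] at h1
  have h3 := D.card_H'
  have hq := D.three_le_q
  have hd : 1 ≤ D.d := by rcases D.d_cases with h | ⟨h, -⟩ <;> omega
  have h4 : Nat.card D.H ≤ (D.q - 1) * (D.q + 1) := h3 ▸ Nat.le_mul_of_pos_left _ (by omega)
  have h5 : (D.q - 1) * (D.q + 1) + 1 = D.q * D.q := by
    obtain ⟨k, hk⟩ : ∃ k, D.q = k + 1 := ⟨D.q - 1, by omega⟩
    rw [hk, Nat.add_sub_cancel]; ring
  have h6 : D.q ^ 3 = D.q * (D.q * D.q) := by ring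
  have h7 : 3 * (D.q * D.q) ≤ D.q * (D.q * D.q) := Nat.mul_le_mul_right _ hq
  omega

theorem exists_swap_t : ∃ s : G, s • D.a = D.b ∧ s • D.b = D.a ∧ s * D.t * s⁻¹ = D.t := by
  obtain ⟨s, hsa, hsb, hs⟩ := D.exists_swap
  exact ⟨s, hsa, hsb, by rw [hs, mul_inv_cancel_right]⟩

/-- `W` is central in the centraliser of `t`. -/
theorem W_central [FaithfulSMul G Ω] {g : G} (hg : g * D.t = D.t * g) {w : G} (hw : w ∈ D.W) :
    g * w = w * g := by
  have hnorm : ∀ {g w : G}, g * D.t = D.t * g → w ∈ D.W → g * w * g⁻¹ ∈ D.W := by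
    intro g w hg hw
    have hfix : ∀ c : Ω, D.t • c = c → (g * w * g⁻¹) • c = c := fun c hc => by
      rw [conj_fix_iff]
      refine D.W_fix hw ?_
      rw [← mul_smul, show D.t * g⁻¹ = g⁻¹ * D.t by
        rw [eq_inv_mul_iff_mul_eq, ← mul_assoc, hg, mul_inv_cancel_right], mul_smul, hc]
    exact D.W_of_fix ⟨hfix _ D.t_mem.1, hfix _ D.t_mem.2⟩ hfix
  let M : Subgroup G := Subgroup.centralizer ({D.t} : Set G) ⊓ Subgroup.centralizer (D.W : Set G)
  have hM : ∀ {g : G}, g ∈ M ↔ g * D.t = D.t * g ∧ ∀ w ∈ D.W, g * w = w * g := fun {g} => by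
    rw [Subgroup.mem_inf, Subgroup.mem_centralizer_singleton_iff, Subgroup.mem_centralizer_iff]
    exact and_congr_right fun _ => ⟨fun e w hw => (e w hw).symm, fun e w hw => (e w hw).symm⟩
  have hR : D.R ≤ M := fun u hu => hM.2
    ⟨(D.mem_R.1 hu).2.symm, fun w hw => ((D.mem_W.1 hw).2 u hu).symm⟩
  have hH : D.H ≤ M := fun h hh => hM.2 ⟨D.H_comm_t hh, fun w hw => D.H_comm hh (D.mem_W.1 hw).1⟩
  have hconj : ∀ {g m : G}, g * D.t = D.t * g → m ∈ M → g * m * g⁻¹ ∈ M := by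
    intro g m hg hm
    have hg' : g⁻¹ * D.t = D.t * g⁻¹ := by
      rw [inv_mul_eq_iff_eq_mul, ← mul_assoc, hg, mul_inv_cancel_right]
    obtain ⟨hm1, hm2⟩ := hM.1 hm
    refine hM.2 ⟨?_, fun w hw => ?_⟩
    · calc g * m * g⁻¹ * D.t = g * (m * D.t) * g⁻¹ := by rw [mul_assoc _ g⁻¹, hg']; group
        _ = g * D.t * m * g⁻¹ := by rw [hm1]; group
        _ = _ := by rw [hg]; group
    · have h1 := hm2 _ (hnorm hg' hw)
      rw [inv_inv] at h1
      calc g * m * g⁻¹ * w = g * (m * (g⁻¹ * w * g)) * g⁻¹ := by group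
        _ = _ := by rw [h1]; group
  obtain ⟨⟨u, hu⟩, hu1⟩ := Subgroup.ne_bot_iff_exists_ne_one.1 D.R_ne_bot
  obtain ⟨s, hsa, hsb, hst⟩ := D.exists_swap
  have hstab : ∀ k : G, k * D.t = D.t * k → k • D.a = D.a → k ∈ M := by
    intro k hk hka
    obtain ⟨v, hv, hvb⟩ := D.exists_cU_of_fix D.t_mem
      (fun e => D.hab (smul_left_cancel k (e.trans hka.symm)).symm)
      (show D.t • k • D.b = k • D.b by rw [← mul_smul, ← hk, mul_smul, D.t_mem.2])
    have : v⁻¹ * k ∈ M := hH ⟨by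
        show (v⁻¹ * k) • D.a = D.a
        rw [mul_smul, hka, inv_smul_eq_iff, D.U_fix v (D.mem_cU.1 hv).1], by
        show (v⁻¹ * k) • D.b = D.b
        rw [mul_smul, ← hvb, inv_smul_smul]⟩
    simpa using mul_mem (hR hv) this
  suffices h : g ∈ M from (hM.1 h).2 w hw
  by_cases hga : g • D.a = D.a
  · exact hstab g hg hga
  · set m₀ := s * u * s⁻¹ with hm₀
    have hm₀M : m₀ ∈ M := hconj hst (hR hu)
    have hy : m₀ • D.a ≠ D.a := by
      rw [hm₀, mul_smul, mul_smul, show s⁻¹ • D.a = D.b from inv_smul_eq_iff.2 hsb.symm, ← hsb]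
      exact fun e => hu1 (Subtype.ext (D.eq_one_of_fix (D.R_le hu) (smul_left_cancel s e)))
    have hfixes : ∀ k : G, k * D.t = D.t * k → D.t • k • D.a = k • D.a := fun k hk => by
      rw [← mul_smul, ← hk, mul_smul, D.t_mem.1]
    obtain ⟨v₁, hv₁, e₁⟩ := D.exists_cU_of_fix D.t_mem hy (hfixes _ (hM.1 hm₀M).1)
    obtain ⟨v₂, hv₂, e₂⟩ := D.exists_cU_of_fix D.t_mem hga (hfixes g hg)
    set m := v₂ * v₁⁻¹ * m₀ with hm
    have hmM : m ∈ M := mul_mem (mul_mem (hR hv₂) (inv_mem (hR hv₁))) hm₀M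
    have hma : m • D.a = g • D.a := by rw [hm, mul_smul, mul_smul, ← e₁, inv_smul_smul, e₂]
    have hmt : m⁻¹ * g * D.t = D.t * (m⁻¹ * g) := by
      rw [mul_assoc, hg, ← mul_assoc, (hM.1 (inv_mem hmM)).1, mul_assoc]
    simpa using mul_mem hmM (hstab _ hmt (by rw [mul_smul, ← hma, inv_smul_smul]))

end Hyp

end Cfsg.Agent.Lie.UThreeOdd
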