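import Cfsg.Agent.Lib.Lie.UThreeOdd.Order

/-!
A group of order at most `q²` on which `H` acts, `W` without fixed points and every other element with at most `q`
fixed points, has order `q²`, is abelian, and `H` acts on it faithfully and irreducibly.
-/

set_option autoImplicit false
set_option linter.unusedSectionVars false

namespace Cfsg.Agent.Lie.UThreeOdd

open MulAction

universe u v

/-- A minimal invariant subgroup of the centre, with the action on it. -/
theorem exists_central_layer {A V : Type*} [Group A] [Group V] [Finite V] [Nontrivial V] {p : ℕ} [Fact p.Prime]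
    (hV : IsPGroup p V) (φ : A →* MulAut V) :
    ∃ (N : Subgroup V) (ψ : A →* MulAut N), N ≠ ⊥ ∧ N ≤ Subgroup.center V ∧
      (∀ a x, ((ψ a x : N) : V) = φ a x) ∧
      ∀ M : Subgroup V, M ≤ N → (∀ a, ∀ x ∈ M, φ a x ∈ M) → M = ⊥ ∨ M = N := by
  classical
  haveI := hV.isNilpotent
  haveI : Finite (Subgroup V) := Finite.of_injective (fun H : Subgroup V => (H : Set V)) SetLike.coe_injective
  have hc : ∀ a, ∀ x ∈ Subgroup.center V, φ a x ∈ Subgroup.center V := fun a x hx =>
    Subgroup.mem_center_iff.2 fun y => by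
      obtain ⟨y, rfl⟩ := (φ a).surjective y
      rw [← map_mul, ← map_mul, Subgroup.mem_center_iff.1 hx y]
  obtain ⟨N, hNmin⟩ := exists_minimal_of_wellFoundedLT (α := Subgroup V)
    (P := fun N : Subgroup V => N ≠ ⊥ ∧ N ≤ Subgroup.center V ∧ ∀ a, ∀ x ∈ N, φ a x ∈ N)
    ⟨Subgroup.center V, Group.IsNilpotent.center_ne_bot _, le_rfl, hc⟩
  obtain ⟨h1, h2, h3⟩ := hNmin.prop
  let ψ : A →* MulAut N :=
    { toFun := fun a =>
        { toFun := fun x => ⟨φ a x, h3 a x x.2⟩
          invFun := fun x => ⟨φ a⁻¹ x, h3 a⁻¹ x x.2⟩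
          left_inv := fun x => Subtype.ext (by
            show φ a⁻¹ (φ a x) = x
            rw [map_inv]; exact (φ a).symm_apply_apply _)
          right_inv := fun x => Subtype.ext (by
            show φ a (φ a⁻¹ x) = x
            rw [map_inv]; exact (φ a).apply_symm_apply _)
          map_mul' := fun x y => Subtype.ext (map_mul (φ a) (x : V) y) }
      map_one' := by ext x; simp
      map_mul' := fun a b => by ext x; simp }
  refine ⟨N, ψ, h1, h2, fun _ _ => rfl, fun M hM hMi => ?_⟩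
  by_cases hMb : M = ⊥
  · exact Or.inl hMb
  · exact Or.inr (le_antisymm hM (hNmin.le_of_le ⟨hMb, hM.trans h2, hMi⟩ hM))

namespace Hyp

variable {G : Type u} {Ω : Type v} [Group G] [MulAction G Ω] [Finite G] [FaithfulSMul G Ω] (D : Hyp G Ω)
include D

/-- The arithmetic of a layer of order `pᵉ` with kernel of order `k` and image of order `m`. -/
theorem layer_arith {e m k : ℕ} (he : 1 ≤ e) (he2 : e ≤ 2 * D.n) (hmk : m * k = Nat.card D.H)
    (hm : m ∣ D.p ^ e - 1) (hW : Nat.card D.W ∣ m) (hk : k ≠ 1 → e ≤ D.n) (hk2 : ¬ Even k) :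
    e = 2 * D.n ∧ k = 1 := by
  have hq := D.three_le_q
  have hcW := D.card_W
  have hW2 := D.two_le_W
  obtain ⟨M, hM, hH⟩ := D.exists_m
  have hpe : 1 < D.p ^ e := Nat.one_lt_pow (by omega) D.hp.one_lt
  have hk1 : k = 1 := by
    by_contra hne
    have hen := hk hne
    have hle := Nat.le_of_dvd (by omega) (hW.trans hm)
    rcases eq_or_lt_of_le hen with rfl | hlt
    · rw [← D.q_def] at hm hle
      have h1 : Nat.card D.W ∣ D.q + 1 := ⟨D.d, by rw [mul_comm]; exact hcW.symm⟩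
      have h2 := Nat.dvd_sub h1 (hW.trans hm)
      rw [show D.q + 1 - (D.q - 1) = 2 by omega] at h2
      have h3 : Nat.card D.W = 2 := le_antisymm (Nat.le_of_dvd (by omega) h2) hW2
      rcases D.d_cases with hd | ⟨hd, -⟩ <;> rw [hd, h3] at hcW
      · omega
      have hq5 : D.q = 5 := by omega
      have h8 : Nat.card D.H = 8 := by
        have h4 := D.card_H'
        rw [hd, hq5] at h4
        omega
      rw [hq5] at hm
      rw [h8] at hmk
      have hkdvd : k ∣ 2 ^ 3 := ⟨m, by rw [mul_comm k m, hmk]; rfl⟩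
      obtain ⟨i, -, rfl⟩ := (Nat.dvd_prime_pow Nat.prime_two).1 hkdvd
      rcases i with _ | i
      · exact hne (pow_zero 2)
      · exact hk2 ⟨2 ^ i, by ring⟩
    · have hpow : D.p ^ e * D.p ≤ D.q := by
        rw [← pow_succ, D.q_def]
        exact Nat.pow_le_pow_right D.hp.pos hlt
      have := D.three_le_p
      rcases D.d_cases with hd | ⟨hd, -, hp5⟩ <;> rw [hd] at hcW
      · nlinarith [Nat.sub_le (D.p ^ e) 1]
      · nlinarith [Nat.sub_le (D.p ^ e) 1]
  refine ⟨?_, hk1⟩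
  rw [hk1, mul_one] at hmk
  rw [hmk] at hm
  by_contra hne
  have h2n : Nat.card D.H ∣ D.p ^ (2 * D.n) - 1 := by
    refine ⟨D.d, ?_⟩
    rw [mul_comm _ D.d, D.card_H', mul_comm 2 D.n, pow_mul, ← D.q_def, mul_comm, ← Nat.sq_sub_sq, one_pow]
  have hg := Nat.dvd_gcd hm h2n
  rw [Nat.pow_sub_one_gcd_pow_sub_one] at hg
  have hgn : Nat.gcd e (2 * D.n) ≤ D.n := by
    obtain ⟨c, hc⟩ := Nat.gcd_dvd_right e (2 * D.n)
    have hle : Nat.gcd e (2 * D.n) ≤ e := Nat.le_of_dvd (by omega) (Nat.gcd_dvd_left _ _)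
    rcases Nat.lt_or_ge c 2 with hc2 | hc2
    · interval_cases c <;> omega
    · nlinarith
  have hgpos : 1 < D.p ^ Nat.gcd e (2 * D.n) :=
    Nat.one_lt_pow (by have := Nat.gcd_pos_of_pos_left (2 * D.n) (show 0 < e by omega); omega) D.hp.one_lt
  have h3 := Nat.le_of_dvd (by omega) hg
  have h4 : D.p ^ Nat.gcd e (2 * D.n) ≤ D.q := Nat.pow_le_pow_right D.hp.pos hgn
  have h5 : (D.q - 1) * (D.q + 1) ≤ 3 * (D.q - 1) := by
    rw [← D.card_H']
    exact Nat.mul_le_mul D.d_le (by omega)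
  have h6 : (D.q - 1) * 4 ≤ (D.q - 1) * (D.q + 1) := Nat.mul_le_mul_left _ (by omega)
  omega

theorem layer {V : Type*} [Group V] [Finite V] [Nontrivial V] (hV : IsPGroup D.p V)
    (hcard : Nat.card V ≤ D.q ^ 2) (φ : D.H →* MulAut V)
    (hW : ∀ h : D.H, (h : G) ∈ D.W → h ≠ 1 → ∀ v, φ h v = v → v = 1)
    (hfix : ∀ h : D.H, h ≠ 1 → Nat.card {v : V // φ h v = v} ≤ D.q) :
    Nat.card V = D.q ^ 2 ∧ Function.Injective φ ∧ (∀ x y : V, x * y = y * x) ∧
      ∀ M : Subgroup V, (∀ h, ∀ x ∈ M, φ h x ∈ M) → M = ⊥ ∨ M = ⊤ := by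
  classical
  haveI := Fact.mk D.hp
  obtain ⟨N, ψ, hN1, hNc, hψ, hirr⟩ := exists_central_layer hV φ
  haveI : Nontrivial N := (Subgroup.nontrivial_iff_ne_bot N).2 hN1
  letI : CommGroup N := { (inferInstance : Group N) with
    mul_comm := fun x y => Subtype.ext (Subgroup.mem_center_iff.1 (hNc y.2) x) }
  obtain ⟨g, hg, hgen⟩ := D.exists_gen
  have hgen' : ∀ x : D.H, ∃ k : ℕ, (⟨g, hg⟩ : D.H) ^ k = x := fun x => by
    obtain ⟨k, hk⟩ := hgen x x.2
    exact ⟨k, Subtype.ext (by simpa using hk)⟩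
  set γ : D.H := ⟨g, hg⟩
  let f : AddMonoid.End (Additive N) := (ψ γ).toMonoidHom.toAdditive
  obtain ⟨K, _, _, e, ω, hω⟩ := exists_field f (fun B hB => by
    set M : Subgroup V := (B.toSubgroup').map N.subtype with hM
    have hMi : ∀ a, ∀ x ∈ M, φ a x ∈ M := by
      intro a x hx
      obtain ⟨j, rfl⟩ := hgen' a
      induction j with
      | zero => simpa using hx
      | succ j ih =>
        rw [pow_succ', map_mul, MulAut.mul_apply]
        obtain ⟨y, hy, e'⟩ := ih
        exact ⟨ψ γ y, hB _ hy, by rw [← e']; exact hψ γ y⟩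
    rcases hirr M (Subgroup.map_subtype_le _) hMi with h | h
    · refine Or.inl ((AddSubgroup.eq_bot_iff_forall _).2 fun x hx => ?_)
      have h' : ((Additive.toMul x : N) : V) ∈ M := ⟨Additive.toMul x, hx, rfl⟩
      rw [h, Subgroup.mem_bot] at h'
      exact (Subtype.ext h' : (Additive.toMul x : N) = 1)
    · refine Or.inr (eq_top_iff.2 fun x _ => ?_)
      obtain ⟨y, hy, hyx⟩ := h.ge (Additive.toMul x : N).2
      rw [show x = Additive.ofMul y from Additive.toMul.injective (Subtype.ext hyx.symm)]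
      exact hy)
  have hωk : ∀ (k : ℕ) (x : K), (ψ γ ^ k) (Additive.toMul (e x)) = Additive.toMul (e (ω ^ k * x)) := by
    intro k x
    induction k with
    | zero => simp
    | succ k ih =>
      rw [pow_succ', MulAut.mul_apply, ih, pow_succ', mul_assoc]
      exact congrArg Additive.toMul (hω (ω ^ k * x))
  have hω0 : ω ≠ 0 := fun h => by
    have h1 := hω 1
    rw [h, zero_mul, map_zero] at h1
    exact one_ne_zero (e.map_eq_zero_iff.1 (Additive.toMul.injective
      ((ψ γ).map_eq_one_iff.1 (congrArg Additive.toMul h1))))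
  have hcardN : Fintype.card K = Nat.card N := by
    rw [← Nat.card_eq_fintype_card, Nat.card_congr e.toEquiv, Nat.card_congr Additive.toMul]
  have hm : Nat.card ψ.range ∣ Nat.card N - 1 := by
    rw [card_range_eq hgen', ← hcardN]
    refine orderOf_dvd_of_pow_eq_one (MulEquiv.ext fun y => ?_)
    obtain ⟨x, hx⟩ := e.surjective (Additive.ofMul y)
    rw [MulAut.one_apply, show y = Additive.toMul (e x) by rw [hx]; rfl, hωk,
      FiniteField.pow_card_sub_one_eq_one ω hω0, one_mul]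
  obtain ⟨j, hj⟩ := IsPGroup.iff_card.1 (hV.to_subgroup N)
  have hj0 : 1 ≤ j := by
    rcases j with _ | j
    · rw [pow_zero] at hj; exact absurd hj (Finite.one_lt_card (α := N)).ne'
    · omega
  have hNV : Nat.card N ≤ Nat.card V := Nat.card_le_card_of_injective _ Subtype.coe_injective
  have hj2 : j ≤ 2 * D.n := by
    refine (Nat.pow_le_pow_iff_right D.hp.one_lt).1 ?_
    rw [← hj, mul_comm 2 D.n, pow_mul]
    exact hNV.trans hcard
  -- an element of `W` acting trivially on `N`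
  have hWker : ∀ h : D.H, (h : G) ∈ D.W → h ∈ ψ.ker → h = 1 := by
    intro h hh hk
    by_contra hne
    obtain ⟨⟨x, hx⟩, hx1⟩ := exists_ne (1 : N)
    refine hx1 (Subtype.ext (hW h hh hne x ?_))
    rw [← hψ h ⟨x, hx⟩, MonoidHom.mem_ker.1 hk]
    rfl
  have hWdvd : Nat.card D.W ∣ Nat.card ψ.range := by
    let ι : D.W →* ψ.range :=
      { toFun := fun w => ⟨ψ ⟨w, (D.mem_W.1 w.2).1⟩, _, rfl⟩
        map_one' := Subtype.ext (map_one ψ)
        map_mul' := fun w w' => Subtype.ext (map_mul ψ ⟨w, (D.mem_W.1 w.2).1⟩ ⟨w', (D.mem_W.1 w'.2).1⟩) }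
    have hι : Function.Injective ι := (injective_iff_map_eq_one ι).2 fun w hw =>
      Subtype.ext (congrArg (fun z : D.H => (z : G)) (hWker ⟨w, (D.mem_W.1 w.2).1⟩ w.2 (congrArg Subtype.val hw)))
    rw [Nat.card_congr (MonoidHom.ofInjective hι).toEquiv]
    exact Subgroup.card_subgroup_dvd_card _
  have hk2 : ¬ Even (Nat.card ψ.ker) := fun hev => by
    haveI := Fact.mk Nat.prime_two
    obtain ⟨⟨h, hh⟩, ho⟩ := exists_prime_orderOf_dvd_card' (G := ψ.ker) 2 (even_iff_two_dvd.1 hev)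
    rw [Subgroup.orderOf_mk, ← Subgroup.orderOf_coe] at ho
    have e1 : (h : G) = D.t := D.eq_t h.2 ho
    rw [hWker h (e1 ▸ D.t_mem_W) hh, Subgroup.coe_one, orderOf_one] at ho
    omega
  have hk1 : Nat.card ψ.ker ≠ 1 → j ≤ D.n := fun hne => by
    obtain ⟨⟨h, hh⟩, hh1⟩ : ∃ h : ψ.ker, h ≠ 1 := by
      haveI : Nontrivial ψ.ker := Finite.one_lt_card_iff_nontrivial.1
        (lt_of_le_of_ne Nat.card_pos (Ne.symm hne))
      exact exists_ne 1
    refine (Nat.pow_le_pow_iff_right D.hp.one_lt).1 ?_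
    rw [← hj, ← D.q_def]
    refine le_trans ?_ (hfix h fun e' => hh1 (Subtype.ext e'))
    refine Nat.card_le_card_of_injective (fun x : N => (⟨x, ?_⟩ : {v : V // φ h v = v})) fun x y e' =>
      Subtype.ext (congrArg (fun v : {v : V // φ h v = v} => (v : V)) e')
    rw [← hψ, MonoidHom.mem_ker.1 hh]; rfl
  have hmk : Nat.card ψ.range * Nat.card ψ.ker = Nat.card D.H := by
    rw [← ψ.ker.index_mul_card, Subgroup.index_ker]
  rw [hj] at hm
  obtain ⟨h2n, hker⟩ := D.layer_arith hj0 hj2 hmk hm hWdvd hk1 hk2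
  have hNq : Nat.card N = D.q ^ 2 := by rw [hj, h2n, mul_comm 2 D.n, pow_mul]; rfl
  have htop : N = ⊤ := Subgroup.eq_top_of_card_eq N (le_antisymm hNV (hNq ▸ hcard))
  have hψinj : Function.Injective ψ := (MonoidHom.ker_eq_bot_iff ψ).1 (Subgroup.eq_bot_of_card_eq _ hker)
  refine ⟨le_antisymm hcard (hNq ▸ hNV), fun h h' e' => hψinj (MulEquiv.ext fun x => Subtype.ext ?_),
    fun x y => Subgroup.mem_center_iff.1 (hNc (htop ▸ Subgroup.mem_top y)) x, fun M hM => ?_⟩
  · rw [hψ, hψ, e']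
  · rcases hirr M (htop ▸ le_top) hM with h | h
    · exact Or.inl h
    · exact Or.inr (h.trans htop)

end Hyp

end Cfsg.Agent.Lie.UThreeOdd
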