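import Cfsg.Agent.Lib.Lie.UThreeOdd.Moebius

/-!
The centraliser of `t` is transitive on the points moved by `t`; these map equivariantly to the elements of `K` not
fixed by `x ↦ xᑫ`, and points with the same image lie on one block.
-/

set_option autoImplicit false
set_option linter.unusedSectionVars false

namespace Cfsg.Agent.Lie.UThreeOdd

open MulAction
open Hyp (conj_fix conj_fix_iff orderOf_conj')

universe u v

namespace Coord

variable {G : Type u} {Ω : Type v} [Group G] [MulAction G Ω] [Finite G] [FaithfulSMul G Ω] {D : Hyp G Ω}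
  {K : Type} [Field K] [Fintype K] (C : Coord D K)
include C

/-- The centraliser of `t`. -/
def M (_C : Coord D K) : Subgroup G := Subgroup.centralizer {D.t}

theorem mem_M {m : G} : m ∈ C.M ↔ m * D.t = D.t * m := Subgroup.mem_centralizer_singleton_iff

theorem jv_mem : C.jv ∈ C.M := C.mem_M.2 C.jv_comm

theorem P0_mem {v : K} (hv : v ^ D.q = v) : C.P 0 v ∈ C.M := C.mem_M.2 (C.P0_comm hv)

theorem H_mem {h : G} (hh : h ∈ D.H) : h ∈ C.M := C.mem_M.2 (D.H_comm_t hh)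

theorem exists_to_fix {P : Ω} (hP : D.t • P = P) : ∃ m ∈ C.M, m • D.a = P := by
  by_cases h : P = D.a
  · exact ⟨1, one_mem _, by rw [one_smul, h]⟩
  · obtain ⟨v, hv, rfl⟩ := C.exists_pt0 h hP
    exact ⟨C.P 0 v * C.jv, mul_mem (C.P0_mem hv) C.jv_mem, by rw [mul_smul, C.jv_a]; rfl⟩

/-- An involution commuting with `t` and sharing a fixed point with it is `t`. -/
theorem invol_eq_t {z : G} (hz : z ∈ C.M) (ho : orderOf z = 2) {P : Ω} (htP : D.t • P = P) (hzP : z • P = P) :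
    z = D.t := by
  obtain ⟨m, hm, hma⟩ := C.exists_to_fix htP
  set z' := m⁻¹ * z * m with hz'
  have hz'M : z' ∈ C.M := mul_mem (mul_mem (inv_mem hm) hz) hm
  have hz'a : z' • D.a = D.a := by rw [hz', mul_smul, mul_smul, hma, hzP, ← hma, inv_smul_smul]
  suffices h : z' = D.t by
    rw [show z = m * z' * m⁻¹ by rw [hz']; group, h, C.mem_M.1 hm, mul_inv_cancel_right]
  have hz'2 : z' * z' = 1 := by
    have : z * z = 1 := by rw [← sq, ← ho, pow_orderOf_eq_one]
    rw [hz', show m⁻¹ * z * m * (m⁻¹ * z * m) = m⁻¹ * (z * z) * m by group, this]; group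
  have hz'1 : z' ≠ 1 := fun e => by
    have : z = 1 := by rw [show z = m * z' * m⁻¹ by rw [hz']; group, e]; group
    rw [this, orderOf_one] at ho
    omega
  have hb : z' • D.b ≠ D.a := fun e => D.hab (smul_left_cancel z' (e.trans hz'a.symm)).symm
  obtain ⟨v, hv, hbv⟩ := C.exists_pt0 hb (D.fix_of_cent (C.mem_M.1 hz'M) D.t_mem.2)
  set h := (C.P 0 v)⁻¹ * z' with hh
  have hhH : h ∈ D.H := by
    constructor
    · show h • D.a = D.a
      rw [hh, mul_smul, hz'a, inv_smul_eq_iff, D.U_fix _ (C.P_mem _ _ hv)]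
    · show h • D.b = D.b
      rw [hh, mul_smul, ← hbv, pt, inv_smul_smul]
  have hρ : C.P 0 v ∈ D.R := (C.P_mem_R 0 v hv).2 rfl
  have e1 : h * h = (C.P 0 v * (h * C.P 0 v * h⁻¹))⁻¹ := by
    refine eq_inv_of_mul_eq_one_right ?_
    calc C.P 0 v * (h * C.P 0 v * h⁻¹) * (h * h) = (C.P 0 v * h) * (C.P 0 v * h) := by group
      _ = 1 := by rw [hh, mul_inv_cancel_left, hz'2]
  have hhh : h * h = 1 :=
    D.eq_one_of_fix (e1 ▸ inv_mem (mul_mem (D.R_le hρ) (D.H_conj hhH (D.R_le hρ)))) (mul_mem hhH hhH).2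
  rw [hhh, eq_comm, inv_eq_one] at e1
  have hdec : z' = C.P 0 v * h := by rw [hh, mul_inv_cancel_left]
  by_cases h1 : h = 1
  · rw [h1, one_mul, inv_one, mul_one] at e1
    rw [hdec, h1, mul_one, D.R_sq hρ e1] at hz'1
    exact absurd rfl hz'1
  · haveI := Fact.mk Nat.prime_two
    have h2 : h = D.t := D.eq_t hhH (orderOf_eq_prime (by rw [sq, hhh]) h1)
    rw [h2, (D.mem_R.1 hρ).2, mul_inv_cancel_right] at e1
    rw [hdec, h2, D.R_sq hρ e1, one_mul]

/-- The base point off the fixed set of `t`. -/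
def c₀ : Ω := C.pt 1 0

theorem c₀_moved : D.t • C.c₀ ≠ C.c₀ := fun h => one_ne_zero ((C.fix_t C.cj_zero).1 h)

/-- An element taking `(a, b)` to `(c₀, t c₀)`. -/
noncomputable def g₁ : G := (D.exists_line C.c₀_moved).choose

theorem g₁_a : C.g₁ • D.a = C.c₀ := (D.exists_line C.c₀_moved).choose_spec.1
theorem g₁_b : C.g₁ • D.b = D.t • C.c₀ := (D.exists_line C.c₀_moved).choose_spec.2.1

/-- The involution of the block through `c₀` and `t c₀`. -/
noncomputable def z₁ : G := C.g₁ * D.t * C.g₁⁻¹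

theorem z₁_mem : C.z₁ ∈ C.M := C.mem_M.2 (D.exists_line C.c₀_moved).choose_spec.2.2

theorem W_line {w : G} (hw : w ∈ D.W) : C.g₁ * w * C.g₁⁻¹ ∈ C.M := by
  have h0 : C.g₁ * D.t * C.g₁⁻¹ * D.t = D.t * (C.g₁ * D.t * C.g₁⁻¹) := C.mem_M.1 C.z₁_mem
  have h1 : (C.g₁⁻¹ * D.t * C.g₁) * D.t = D.t * (C.g₁⁻¹ * D.t * C.g₁) := by
    calc (C.g₁⁻¹ * D.t * C.g₁) * D.t = C.g₁⁻¹ * (D.t * (C.g₁ * D.t * C.g₁⁻¹)) * C.g₁ := by group
      _ = _ := by rw [← h0]; group
  have h2 := D.W_central h1 hw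
  refine C.mem_M.2 ?_
  calc C.g₁ * w * C.g₁⁻¹ * D.t = C.g₁ * (w * (C.g₁⁻¹ * D.t * C.g₁)) * C.g₁⁻¹ := by group
    _ = C.g₁ * ((C.g₁⁻¹ * D.t * C.g₁) * w) * C.g₁⁻¹ := by rw [h2]
    _ = _ := by group

theorem stab_mem_H {x : G} (hx : x ∈ C.M) (hxc : x • C.c₀ = C.c₀) : C.g₁⁻¹ * x * C.g₁ ∈ D.H := by
  constructor <;> show (C.g₁⁻¹ * x * C.g₁) • _ = _
  · rw [mul_smul, mul_smul, C.g₁_a, hxc, ← C.g₁_a, inv_smul_smul]
  · rw [mul_smul, mul_smul, C.g₁_b, ← mul_smul x, C.mem_M.1 hx, mul_smul, hxc, ← C.g₁_b, inv_smul_smul]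

/-- A non-identity element of the centraliser of `t` fixing `c₀` fixes no fixed point of `t`. -/
theorem stab_semireg {x : G} (hx : x ∈ C.M) (hxc : x • C.c₀ = C.c₀) (hx1 : x ≠ 1) {P : Ω} (hP : D.t • P = P) :
    x • P ≠ P := by
  intro hxP
  have hH := C.stab_mem_H hx hxc
  set x' := C.g₁⁻¹ * x * C.g₁ with hx'
  have hx'1 : x' ≠ 1 := fun e => hx1 (by
    rw [show x = C.g₁ * x' * C.g₁⁻¹ by rw [hx']; group, e]; group)
  set Q := C.g₁⁻¹ • P with hQ
  have hxQ : x' • Q = Q := by rw [hx', hQ, mul_smul, mul_smul, smul_inv_smul, hxP]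
  have hPQ : P = C.g₁ • Q := (smul_inv_smul _ _).symm
  have hzP : C.z₁ • P = P := by
    suffices hQt : D.t • Q = Q by rw [hPQ]; exact conj_fix hQt
    by_cases hW : x' ∈ D.W
    · exact D.W_semireg hW hx'1 hxQ
    · by_cases hQa : Q = D.a
      · rw [hQa, D.t_mem.1]
      obtain ⟨u, hu, huQ⟩ := D.exists_cU_of_fix hH hQa hxQ
      rw [D.cU_eq_bot hH hW, Subgroup.mem_bot] at hu
      rw [← huQ, hu, one_smul, D.t_mem.2]
  have e : C.z₁ = D.t := C.invol_eq_t C.z₁_mem (by rw [z₁, orderOf_conj', D.t_order]) hP hzP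
  exact C.c₀_moved (e ▸ C.g₁_a ▸ conj_fix D.t_mem.1)

theorem stab_eq {x : G} (hx : x ∈ C.M) (hxc : x • C.c₀ = C.c₀) : C.g₁⁻¹ * x * C.g₁ ∈ D.W := by
  classical
  haveI := D.finite_points
  let S : Subgroup G := C.M ⊓ stabilizer G C.c₀
  let f : S →* D.H :=
    { toFun := fun y => ⟨C.g₁⁻¹ * y * C.g₁, C.stab_mem_H y.2.1 y.2.2⟩
      map_one' := Subtype.ext (by simp)
      map_mul' := fun y y' => Subtype.ext (by simp only [Subgroup.coe_mul]; group) }
  have hf : Function.Injective f := fun y y' e => Subtype.ext (by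
    have h := congrArg (fun h : D.H => C.g₁ * (h : G) * C.g₁⁻¹) e
    simp only [f, MonoidHom.coe_mk, OneHom.coe_mk] at h
    simpa [mul_assoc] using h)
  let X := {P : Ω // D.t • P = P}
  letI : MulAction S X :=
    { smul := fun y P => ⟨(y : G) • P.1, D.fix_of_cent (C.mem_M.1 y.2.1) P.2⟩
      one_smul := fun P => Subtype.ext (one_smul G P.1)
      mul_smul := fun y y' P => Subtype.ext (mul_smul (y : G) (y' : G) P.1) }
  have hfree := Block.Zas.card_of_free (H := S) (X := X) fun y P hy => by_contra fun hne =>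
    C.stab_semireg y.2.1 y.2.2 (fun e => hne (Subtype.ext e)) P.2 (congrArg Subtype.val hy)
  rw [D.card_fix D.t_mem] at hfree
  change Nat.card D.R + 1 = _ at hfree
  rw [D.card_R] at hfree
  have hd1 : Nat.card S ∣ D.q + 1 := ⟨_, hfree.trans (mul_comm _ _)⟩
  have hd2 : Nat.card S ∣ Nat.card D.H := by
    rw [Nat.card_congr (MonoidHom.ofInjective hf).toEquiv]
    exact Subgroup.card_subgroup_dvd_card _
  have hcW := D.card_W
  obtain ⟨m, hm, hH⟩ := D.exists_m
  have hWm : Nat.card D.W = m :=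
    Nat.eq_of_mul_eq_mul_left (by rcases D.d_cases with h | ⟨h, -⟩ <;> omega) (hcW.trans hm.symm)
  have hS : Nat.card S ∣ m := by
    have h3 := Nat.dvd_gcd hd1 (hH ▸ hd2)
    rw [← hm, mul_comm D.d, Nat.gcd_mul_left, show Nat.gcd D.d (D.q - 1) = 1 by
      rcases D.d_cases with h | ⟨h, hq, -⟩
      · rw [h]; exact Nat.gcd_one_left _
      · rw [h]
        rcases (Nat.dvd_prime Nat.prime_three).1 (Nat.gcd_dvd_left 3 (D.q - 1)) with h' | h'
        · exact h'
        · have := Nat.gcd_dvd_right 3 (D.q - 1)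
          rw [h'] at this
          omega, mul_one] at h3
    exact h3
  let e : D.W → S := fun w => ⟨C.g₁ * w * C.g₁⁻¹, C.W_line w.2, by
    show (C.g₁ * (w : G) * C.g₁⁻¹) • C.c₀ = C.c₀
    rw [← C.g₁_a]
    exact conj_fix (D.mem_W.1 w.2).1.1⟩
  have he : Function.Bijective e := (Nat.bijective_iff_injective_and_card e).2 ⟨fun w w' h =>
    Subtype.ext (mul_left_cancel (mul_right_cancel (congrArg Subtype.val h))), by
      refine le_antisymm (Nat.card_le_card_of_injective e fun w w' h =>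
        Subtype.ext (mul_left_cancel (mul_right_cancel (congrArg Subtype.val h)))) ?_
      rw [hWm]
      exact Nat.le_of_dvd (by rw [← hWm]; exact Nat.card_pos) hS⟩
  obtain ⟨w, hw⟩ := he.2 ⟨x, hx, hxc⟩
  rw [← show C.g₁ * (w : G) * C.g₁⁻¹ = x from congrArg Subtype.val hw]
  simp [mul_assoc]

theorem transitive_moved {c : Ω} (hc : D.t • c ≠ c) : ∃ m ∈ C.M, m • C.c₀ = c := by
  classical
  haveI := D.finite_points
  haveI := Fintype.ofFinite Ω
  have hM : C.M = D.fixStab D.t := by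
    refine le_antisymm (fun m hm c => ?_) fun m hm => C.mem_M.2
      (D.cent_of_fix ((hm D.a).2 D.t_mem.1) ((hm D.b).2 D.t_mem.2))
    rw [← mul_smul, ← C.mem_M.1 hm, mul_smul, smul_left_cancel_iff]
  have hcardM : Nat.card C.M = (D.q + 1) * (D.q * Nat.card D.H) := by
    rw [hM, D.card_fixStab D.t_mem]
    change (Nat.card D.R + 1) * (Nat.card D.R * _) = _
    rw [D.card_R]
  let ι : stabilizer C.M C.c₀ → D.W := fun y => ⟨_, C.stab_eq (y : C.M).2 (mem_stabilizer_iff.1 y.2)⟩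
  have hstab : Nat.card (stabilizer C.M C.c₀) ≤ Nat.card D.W := by
    refine Nat.card_le_card_of_injective ι fun y y' h => Subtype.ext (Subtype.ext ?_)
    exact mul_left_cancel (mul_right_cancel (congrArg Subtype.val h))
  have horb := (stabilizer C.M C.c₀).index_mul_card
  set S := Finset.univ.filter fun c : Ω => D.t • c ≠ c with hS
  have hScard : S.card = D.q ^ 3 - D.q := by
    have h2 := D.card_fix D.t_mem
    rw [Nat.card_eq_fintype_card, Fintype.card_subtype] at h2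
    change _ = Nat.card D.R + 1 at h2
    rw [D.card_R] at h2
    have h3 := Finset.card_filter_add_card_filter_not (s := (Finset.univ : Finset Ω)) (fun c : Ω => D.t • c = c)
    rw [h2, Finset.card_univ, ← Nat.card_eq_fintype_card, D.card_points] at h3
    have h4 : D.q ≤ D.q ^ 3 := Nat.le_self_pow (by norm_num) _
    simp only [hS, ne_eq]
    omega
  have hsub : (orbit C.M C.c₀).toFinset ⊆ S := fun y hy => by
    obtain ⟨m, rfl⟩ := Set.mem_toFinset.1 hy
    refine Finset.mem_filter.2 ⟨Finset.mem_univ _, fun e => C.c₀_moved ?_⟩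
    have e' : D.t • (m : G) • C.c₀ = (m : G) • C.c₀ := e
    rwa [← mul_smul, ← C.mem_M.1 m.2, mul_smul, smul_left_cancel_iff] at e'
  have hge : S.card ≤ (orbit C.M C.c₀).toFinset.card := by
    rw [hScard, Set.toFinset_card]
    obtain ⟨m, hm, hH⟩ := D.exists_m
    have hWm : Nat.card D.W = m :=
      Nat.eq_of_mul_eq_mul_left (by rcases D.d_cases with h | ⟨h, -⟩ <;> omega) (D.card_W.trans hm.symm)
    rw [index_stabilizer, ← Nat.card_coe_set_eq, Nat.card_eq_fintype_card (α := ↥(orbit C.M C.c₀))] at horb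
    have hm0 : 0 < m := hWm ▸ Nat.card_pos
    refine Nat.le_of_mul_le_mul_right ?_ hm0
    calc (D.q ^ 3 - D.q) * m = (D.q + 1) * (D.q * Nat.card D.H) := by
          rw [hH, show D.q ^ 3 - D.q = (D.q + 1) * (D.q * (D.q - 1)) by
            obtain ⟨k, hk⟩ : ∃ k, D.q = k + 1 := ⟨D.q - 1, by have := D.three_le_q; omega⟩
            rw [hk, Nat.add_sub_cancel]
            refine Nat.sub_eq_of_eq_add ?_
            ring]
          ring
      _ = _ := by rw [← hcardM, ← horb]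
      _ ≤ _ := Nat.mul_le_mul_left _ (hWm ▸ hstab)
  obtain ⟨m, hm⟩ := Set.mem_toFinset.1 ((Finset.eq_of_subset_of_card_le hsub hge).ge
    (Finset.mem_filter.2 ⟨Finset.mem_univ c, hc⟩))
  exact ⟨m, m.2, hm⟩

/-- The stabiliser of `c₀` fixes an element of `K` not fixed by `x ↦ xᑫ`. -/
theorem exists_base : ∃ x : K, x ^ D.q ≠ x ∧ ∀ m ∈ C.M, m • C.c₀ = C.c₀ → C.mob m x = x := by
  classical
  set w₀ := C.g ^ (D.q - 1) with hw₀
  have hw₀W : w₀ ∈ D.W := by rw [hw₀, C.mem_W_iff, ← C.ν_order, pow_orderOf_eq_one]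
  have hgen : ∀ w ∈ D.W, ∃ i : ℕ, w₀ ^ i = w := fun w hw => by
    obtain ⟨k, rfl⟩ := C.g_gen w (D.mem_W.1 hw).1
    have h := (C.mem_W_iff k).1 hw
    rw [← orderOf_dvd_iff_pow_eq_one, C.ν_order] at h
    obtain ⟨i, rfl⟩ := h
    exact ⟨i, (pow_mul _ _ _).symm⟩
  set s := C.g₁ * w₀ * C.g₁⁻¹ with hs
  have hsM : s ∈ C.M := C.W_line hw₀W
  have hsc : s • C.c₀ = C.c₀ := C.g₁_a ▸ conj_fix (D.mem_W.1 hw₀W).1.1
  have hs1 : s ≠ 1 := fun e => by
    have h0 : w₀ = 1 := by rwa [hs, conj_eq_one_iff] at e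
    haveI : Nontrivial D.W := Finite.one_lt_card_iff_nontrivial.1 D.two_le_W
    obtain ⟨⟨w, hw⟩, hw1⟩ := exists_ne (1 : D.W)
    obtain ⟨i, hi⟩ := hgen w hw
    exact hw1 (Subtype.ext (show w = 1 by rw [← hi, h0, one_pow]))
  obtain ⟨α, β, γ, δ, hrep⟩ := C.exists_rep (C.mem_M.1 hsM)
  obtain ⟨⟨ha, hb, hc, hd⟩, hdet, hact⟩ := id hrep
  have hnofix : ∀ x y : K, x ^ D.q = x → y ^ D.q = y → (x ≠ 0 ∨ y ≠ 0) →
      C.lp (α * x + β * y) (γ * x + δ * y) ≠ C.lp x y := fun x y hx hy hxy e => by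
    have htl : D.t • C.lp x y = C.lp x y := by
      by_cases h0 : y = 0
      · rw [h0, C.lp_a, D.t_mem.1]
      · rw [C.lp_pt _ h0, C.t_fix_pt0 (C.fix_div hx hy)]
    exact C.stab_semireg hsM hsc hs1 htl ((hact x y hx hy hxy).trans e)
  have hγ : γ ≠ 0 := fun h0 => hnofix 1 0 (one_pow _) C.cj_zero (Or.inl one_ne_zero) (by
    rw [h0]; simp [C.lp_a])
  set E := (δ - α) ^ 2 + 4 * β * γ with hE
  have h4 : (4 : K) ^ D.q = 4 := by
    have h2q : (2 : K) ^ D.q = 2 := by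
      rw [show (2 : K) = 1 + 1 by norm_num]; exact C.fix_add (one_pow _) (one_pow _)
    rw [show (4 : K) = 2 * 2 by norm_num]; exact C.fix_mul h2q h2q
  have hEq : E ^ D.q = E := C.fix_add (by rw [← pow_mul, mul_comm, pow_mul, C.cj_sub, hd, ha])
    (C.fix_mul (C.fix_mul h4 hb) hc)
  obtain ⟨r, hr⟩ : IsSquare E := by
    by_cases hE0 : E = 0
    · rw [hE0]; exact IsSquare.zero
    rw [FiniteField.isSquare_iff ?_ hE0, C.card]
    · obtain ⟨k, hk⟩ := D.odd_q
      rw [show D.q ^ 2 / 2 = (D.q - 1) * (k + 1) by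
        rw [hk, show (2 * k + 1) ^ 2 = 1 + 2 * (2 * k * (k + 1)) by ring, Nat.add_mul_div_left _ _ two_pos,
          Nat.add_sub_cancel]
        simp]
      have h1 : E ^ (D.q - 1) = 1 := mul_right_cancel₀ hE0 (by
        rw [← pow_succ, Nat.sub_add_cancel (by omega), hEq, one_mul])
      rw [pow_mul, h1, one_pow]
    · intro h2
      have h3 := ringChar.charP K
      rw [h2] at h3
      exact C.two_ne (CharP.cast_eq_zero K 2)
  set x := (α - δ + r) / (2 * γ) with hx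
  have h2 : (2 : K) * γ ≠ 0 := mul_ne_zero C.two_ne hγ
  have hroot : x * (γ * x + δ) = α * x + β := by
    have e : x * (2 * γ) = α - δ + r := div_mul_cancel₀ _ h2
    refine mul_left_cancel₀ (mul_ne_zero (mul_ne_zero C.two_ne C.two_ne) hγ) ?_
    linear_combination (x * (2 * γ) + (δ - α) + r) * e - hr
  have hxq : x ^ D.q ≠ x := fun hxq => by
    have hne := C.image_ne hdet (x := x) (y := 1) (Or.inr one_ne_zero)
    refine hnofix x 1 hxq (one_pow _) (Or.inr one_ne_zero) ?_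
    by_cases h0 : γ * x + δ = 0
    · exact absurd (show α * x + β * 1 = 0 by rw [mul_one, ← hroot, h0, mul_zero]) (hne.resolve_right (by simpa using h0))
    · rw [C.lp_pt _ (by simpa using h0), C.lp_pt _ one_ne_zero, mul_one, mul_one, ← hroot,
        mul_div_assoc, div_self h0, mul_one, div_one]
  refine ⟨x, hxq, fun m hm hmc => ?_⟩
  obtain ⟨i, hi⟩ := hgen _ (C.stab_eq hm hmc)
  have hmi : m = s ^ i := by rw [hs, conj_pow, hi]; group
  subst hmi
  have hfix : C.mob s x = x := by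
    rw [C.mob_eq (C.mem_M.1 hsM) hrep, frac, div_eq_iff (C.den_ne hdet hc hd hxq), hroot]
  clear hi hmc hm
  induction i with
  | zero => rw [pow_zero, C.mob_one]
  | succ i ih => rw [pow_succ', C.mob_mul (C.mem_M.1 hsM) (C.mem_M.1 (pow_mem hsM i)) hxq, ih, hfix]

/-- The base value. -/
noncomputable def x₀ : K := C.exists_base.choose

theorem x₀_ne : C.x₀ ^ D.q ≠ C.x₀ := C.exists_base.choose_spec.1

theorem x₀_fix {m : G} (hm : m ∈ C.M) (h : m • C.c₀ = C.c₀) : C.mob m C.x₀ = C.x₀ :=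
  C.exists_base.choose_spec.2 m hm h

/-- The value of a point moved by `t`. -/
noncomputable def dl (c : Ω) : K :=
  open scoped _root_.Classical in
  if h : ∃ m ∈ C.M, m • C.c₀ = c then C.mob h.choose C.x₀ else 0

theorem dl_eq {m : G} (hm : m ∈ C.M) : C.dl (m • C.c₀) = C.mob m C.x₀ := by
  have h : ∃ m' ∈ C.M, m' • C.c₀ = m • C.c₀ := ⟨m, hm, rfl⟩
  rw [dl, dif_pos h]
  obtain ⟨h1, h2⟩ := h.choose_spec
  have h3 : m⁻¹ * h.choose ∈ C.M := mul_mem (inv_mem hm) h1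
  conv_lhs => rw [show h.choose = m * (m⁻¹ * h.choose) by group]
  rw [C.mob_mul (C.mem_M.1 hm) (C.mem_M.1 h3) C.x₀_ne, C.x₀_fix h3 (by rw [mul_smul, h2, inv_smul_smul])]

theorem dl_ne {c : Ω} (hc : D.t • c ≠ c) : C.dl c ^ D.q ≠ C.dl c := by
  obtain ⟨m, hm, rfl⟩ := C.transitive_moved hc
  rw [C.dl_eq hm]
  exact C.mob_ne (C.mem_M.1 hm) C.x₀_ne

theorem dl_smul {m : G} (hm : m ∈ C.M) {c : Ω} (hc : D.t • c ≠ c) : C.dl (m • c) = C.mob m (C.dl c) := by
  obtain ⟨k, hk, rfl⟩ := C.transitive_moved hc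
  rw [← mul_smul, C.dl_eq (mul_mem hm hk), C.dl_eq hk, C.mob_mul (C.mem_M.1 hm) (C.mem_M.1 hk) C.x₀_ne]

/-- Points with the same value lie on a block with the first of them and its image under `t`. -/
theorem dl_line {c c' : Ω} (hc : D.t • c ≠ c) (hc' : D.t • c' ≠ c') (h : C.dl c = C.dl c') :
    ∃ z : G, orderOf z = 2 ∧ z • c = c ∧ z • D.t • c = D.t • c ∧ z • c' = c' := by
  obtain ⟨m, hm, rfl⟩ := C.transitive_moved hc
  obtain ⟨m', hm', rfl⟩ := C.transitive_moved hc'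
  rw [C.dl_eq hm, C.dl_eq hm'] at h
  set k := m⁻¹ * m' with hk
  have hkM : k ∈ C.M := mul_mem (inv_mem hm) hm'
  have hkx : C.mob k C.x₀ = C.x₀ := by
    rw [hk, C.mob_mul (C.mem_M.1 (inv_mem hm)) (C.mem_M.1 hm') C.x₀_ne, ← h,
      ← C.mob_mul (C.mem_M.1 (inv_mem hm)) (C.mem_M.1 hm) C.x₀_ne, inv_mul_cancel, C.mob_one]
  -- the stabiliser of the base value is abelian
  let T : Subgroup G :=
    { carrier := {y | y ∈ C.M ∧ C.mob y C.x₀ = C.x₀}
      one_mem' := ⟨one_mem _, C.mob_one _⟩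
      mul_mem' := fun {y y'} hy hy' => ⟨mul_mem hy.1 hy'.1, by
        rw [C.mob_mul (C.mem_M.1 hy.1) (C.mem_M.1 hy'.1) C.x₀_ne, hy'.2, hy.2]⟩
      inv_mem' := fun {y} hy => ⟨inv_mem hy.1, by
        conv_lhs => rw [← hy.2]
        rw [← C.mob_mul (C.mem_M.1 (inv_mem hy.1)) (C.mem_M.1 hy.1) C.x₀_ne, inv_mul_cancel, C.mob_one]⟩ }
  choose α β γ δ hrep using fun y : T => C.exists_rep (C.mem_M.1 y.2.1)
  have hden : ∀ y : T, γ y * C.x₀ + δ y ≠ 0 := fun y =>
    C.den_ne (hrep y).2.1 (hrep y).1.2.2.1 (hrep y).1.2.2.2 C.x₀_ne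
  have hroot : ∀ y : T, α y * C.x₀ + β y = C.x₀ * (γ y * C.x₀ + δ y) := fun y => by
    have h1 := (C.mob_eq (C.mem_M.1 y.2.1) (hrep y) C.x₀).symm.trans y.2.2
    rwa [frac, div_eq_iff (hden y)] at h1
  have hfq : ∀ r : K, r ≠ 0 → r ^ D.q = r → r ^ (D.q - 1) = 1 := fun r hr hrq => mul_right_cancel₀ hr (by
    rw [← pow_succ, Nat.sub_add_cancel (by have := D.three_le_q; omega), hrq, one_mul])
  let χ : T →* Kˣ := MonoidHom.mk' (fun y => Units.mk0 ((γ y * C.x₀ + δ y) ^ (D.q - 1))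
    (pow_ne_zero _ (hden y))) fun y y' => Units.ext (by
      simp only [Units.val_mk0, Units.val_mul]
      have h1 := C.rep_mul (hrep y) (hrep y')
      obtain ⟨r, hr, -, -, e3, e4⟩ := C.rep_unique h1 (hrep (y * y'))
      have hrq : r ^ D.q = r := by
        obtain ⟨⟨-, -, hc1, hd1⟩, -, -⟩ := h1
        obtain ⟨⟨-, -, hc2, hd2⟩, hdet2, -⟩ := hrep (y * y')
        by_cases h0 : γ y * α y' + δ y * γ y' = 0
        · have h0' : γ y * β y' + δ y * δ y' ≠ 0 := fun h0' => hdet2 (by rw [e3, e4, h0, h0']; ring)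
          rw [show r = δ (y * y') / (γ y * β y' + δ y * δ y') by rw [e4]; field_simp]
          exact C.fix_div hd2 hd1
        · rw [show r = γ (y * y') / (γ y * α y' + δ y * γ y') by rw [e3]; field_simp]
          exact C.fix_div hc2 hc1
      have e : γ (y * y') * C.x₀ + δ (y * y') = r * ((γ y * C.x₀ + δ y) * (γ y' * C.x₀ + δ y')) := by
        rw [e3, e4]
        linear_combination (r * γ y) * hroot y'
      rw [e, mul_pow, hfq r hr hrq, one_mul, mul_pow])
  have hker : χ.ker ≤ Subgroup.center T := fun y hy => by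
    have h1 : (γ y * C.x₀ + δ y) ^ (D.q - 1) = 1 := congrArg Units.val hy
    obtain ⟨⟨ha, hb, hc1, hd1⟩, hdet, hact⟩ := hrep y
    have h2 : (γ y * C.x₀ + δ y) ^ D.q = γ y * C.x₀ + δ y := by
      rw [show D.q = D.q - 1 + 1 by have := D.three_le_q; omega, pow_succ, h1, one_mul]
    rw [C.cj_add, mul_pow, hc1, hd1, add_left_inj] at h2
    have hγ : γ y = 0 := by
      by_contra h0
      exact C.x₀_ne (mul_left_cancel₀ h0 h2)
    have h3 := hroot y
    rw [hγ, zero_mul, zero_add] at h3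
    have hαδ : α y = δ y := by
      by_contra h0
      refine C.x₀_ne ?_
      rw [show C.x₀ = β y / (δ y - α y) by
        rw [eq_div_iff (sub_ne_zero.2 (Ne.symm h0))]; linear_combination -h3]
      exact C.fix_div hb (by rw [C.cj_sub, hd1, ha])
    have hβ : β y = 0 := by linear_combination h3 - C.x₀ * hαδ
    have hfix : ∀ c : Ω, D.t • c = c → (y : G) • c = c := by
      intro c hc
      by_cases hca : c = D.a
      · rw [hca, ← C.lp_a 1, hact 1 0 (one_pow _) C.cj_zero (Or.inl one_ne_zero), hγ]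
        simp [C.lp_a]
      · obtain ⟨v, hv, rfl⟩ := C.exists_pt0 hca hc
        rw [show C.pt 0 v = C.lp v 1 by rw [C.lp_pt _ one_ne_zero, div_one],
          hact v 1 hv (one_pow _) (Or.inr one_ne_zero), hγ, hαδ, hβ]
        have hδ : δ y ≠ 0 := fun h0 => hdet (by rw [hγ, h0]; ring)
        simp only [zero_mul, mul_one, add_zero, zero_add]
        rw [C.lp_pt _ hδ, C.lp_pt _ one_ne_zero, mul_div_cancel_left₀ _ hδ, div_one]
    have hW := D.W_of_fix ⟨hfix _ D.t_mem.1, hfix _ D.t_mem.2⟩ hfix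
    exact Subgroup.mem_center_iff.2 fun x => Subtype.ext (D.W_central (C.mem_M.1 x.2.1) hW)
  have hcomm := commutative_of_cyclic_center_quotient χ hker
  have hzc : C.z₁ • C.c₀ = C.c₀ := C.g₁_a ▸ conj_fix D.t_mem.1
  have hz : C.z₁ ∈ T := ⟨C.z₁_mem, C.x₀_fix C.z₁_mem hzc⟩
  have hcz : k * C.z₁ = C.z₁ * k := congrArg Subtype.val (hcomm ⟨k, hkM, hkx⟩ ⟨C.z₁, hz⟩)
  refine ⟨m * C.z₁ * m⁻¹, by rw [orderOf_conj', z₁, orderOf_conj', D.t_order], conj_fix hzc, ?_, ?_⟩
  · rw [← mul_smul D.t m, ← C.mem_M.1 hm, mul_smul m D.t]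
    exact conj_fix (C.g₁_b ▸ conj_fix D.t_mem.2)
  · rw [show m' = m * k by rw [hk]; group, mul_smul m k]
    exact conj_fix (by rw [← mul_smul, ← hcz, mul_smul, hzc])

end Coord

end Cfsg.Agent.Lie.UThreeOdd
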