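import Cfsg.Agent.Lib.Lie.UThreeOdd.Swap

/-!
The centraliser of `t` acts on its fixed set by Moebius maps, hence on the elements of `K` not fixed by `x ↦ xᑫ`.
-/

set_option autoImplicit false
set_option linter.unusedSectionVars false

namespace Cfsg.Agent.Lie.UThreeOdd

open MulAction
open Hyp (conj_fix conj_fix_iff orderOf_conj')

universe u v

/-- The fractional linear map of a matrix. -/
def frac {K : Type} [Field K] (α β γ δ x : K) : K := (α * x + β) / (γ * x + δ)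

namespace Coord

variable {G : Type u} {Ω : Type v} [Group G] [MulAction G Ω] [Finite G] [FaithfulSMul G Ω] {D : Hyp G Ω}
  {K : Type} [Field K] [Fintype K] (C : Coord D K)
include C

open scoped _root_.Classical in
/-- The fixed point of `t` with homogeneous coordinates `(x, y)`. -/
noncomputable def lp (x y : K) : Ω := if y = 0 then D.a else C.pt 0 (x / y)

theorem lp_a (x : K) : C.lp x 0 = D.a := if_pos rfl

theorem lp_pt (x : K) {y : K} (hy : y ≠ 0) : C.lp x y = C.pt 0 (x / y) := if_neg hy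

theorem fix_div {x y : K} (hx : x ^ D.q = x) (hy : y ^ D.q = y) : (x / y) ^ D.q = x / y := by rw [div_pow, hx, hy]

theorem lp_prop {x y x' y' : K} (hx : x ^ D.q = x) (hy : y ^ D.q = y) (hx' : x' ^ D.q = x') (hy' : y' ^ D.q = y')
    (h : C.lp x y = C.lp x' y') : x * y' = x' * y := by
  by_cases h0 : y = 0 <;> by_cases h0' : y' = 0
  · rw [h0, h0']; ring
  · rw [h0, C.lp_a, C.lp_pt _ h0'] at h
    exact absurd h.symm (C.pt_ne (C.fix_div hx' hy'))
  · rw [h0', C.lp_a, C.lp_pt _ h0] at h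
    exact absurd h (C.pt_ne (C.fix_div hx hy))
  · rw [C.lp_pt _ h0, C.lp_pt _ h0'] at h
    exact (div_eq_div_iff h0 h0').1 (C.pt_inj (C.fix_div hx hy) (C.fix_div hx' hy') h).2

/-- `m` acts on the fixed set of `t` as the matrix `(α β; γ δ)`. -/
def Rep (m : G) (α β γ δ : K) : Prop :=
  (α ^ D.q = α ∧ β ^ D.q = β ∧ γ ^ D.q = γ ∧ δ ^ D.q = δ) ∧ α * δ - β * γ ≠ 0 ∧
    ∀ x y : K, x ^ D.q = x → y ^ D.q = y → (x ≠ 0 ∨ y ≠ 0) →
      m • C.lp x y = C.lp (α * x + β * y) (γ * x + δ * y)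

theorem image_ne {α β γ δ x y : K} (hd : α * δ - β * γ ≠ 0) (h : x ≠ 0 ∨ y ≠ 0) :
    α * x + β * y ≠ 0 ∨ γ * x + δ * y ≠ 0 := by
  by_contra hc
  push Not at hc
  rcases h with h | h
  · exact h ((mul_eq_zero.1 (show (α * δ - β * γ) * x = 0 by
      linear_combination δ * hc.1 - β * hc.2)).resolve_left hd)
  · exact h ((mul_eq_zero.1 (show (α * δ - β * γ) * y = 0 by
      linear_combination α * hc.2 - γ * hc.1)).resolve_left hd)

theorem rep_mul {m m' : G} {α β γ δ α' β' γ' δ' : K} (h : C.Rep m α β γ δ) (h' : C.Rep m' α' β' γ' δ') :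
    C.Rep (m * m') (α * α' + β * γ') (α * β' + β * δ') (γ * α' + δ * γ') (γ * β' + δ * δ') := by
  obtain ⟨⟨ha, hb, hc, hd⟩, hdet, hm⟩ := h
  obtain ⟨⟨ha', hb', hc', hd'⟩, hdet', hm'⟩ := h'
  refine ⟨⟨?_, ?_, ?_, ?_⟩, ?_, fun x y hx hy hxy => ?_⟩
  · exact C.fix_add (C.fix_mul ha ha') (C.fix_mul hb hc')
  · exact C.fix_add (C.fix_mul ha hb') (C.fix_mul hb hd')
  · exact C.fix_add (C.fix_mul hc ha') (C.fix_mul hd hc')
  · exact C.fix_add (C.fix_mul hc hb') (C.fix_mul hd hd')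
  · rw [show (α * α' + β * γ') * (γ * β' + δ * δ') - (α * β' + β * δ') * (γ * α' + δ * γ') =
      (α * δ - β * γ) * (α' * δ' - β' * γ') by ring]
    exact mul_ne_zero hdet hdet'
  · rw [mul_smul, hm' x y hx hy hxy, hm _ _ (C.fix_add (C.fix_mul ha' hx) (C.fix_mul hb' hy))
      (C.fix_add (C.fix_mul hc' hx) (C.fix_mul hd' hy)) (C.image_ne hdet' hxy)]
    congr 1 <;> ring

theorem rep_P {v : K} (hv : v ^ D.q = v) : C.Rep (C.P 0 v) 1 v 0 1 := by
  refine ⟨⟨one_pow _, hv, C.cj_zero, one_pow _⟩, by simp, fun x y hx hy _ => ?_⟩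
  by_cases h : y = 0
  · subst h
    simp only [mul_zero, add_zero, zero_mul, C.lp_a]
    exact D.U_fix _ (C.P_mem _ _ hv)
  · simp only [one_mul, zero_mul, zero_add]
    rw [C.lp_pt _ h, C.lp_pt _ h, C.P_smul_pt hv (C.fix_div hx hy), add_zero, C.A_zero_right, add_zero]
    congr 1
    field_simp; ring

theorem rep_g_pow (k : ℕ) : C.Rep (C.g ^ k) (C.ν ^ k) 0 0 1 := by
  refine ⟨⟨C.ν_pow_fix k, C.cj_zero, C.cj_zero, one_pow _⟩, by simpa using C.ν_pow_ne k, fun x y hx hy _ => ?_⟩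
  simp only [zero_mul, add_zero, zero_add, one_mul]
  by_cases h : y = 0
  · subst h
    rw [C.lp_a, C.lp_a]
    exact (pow_mem C.g_mem k : C.g ^ k ∈ D.H).1
  · rw [C.lp_pt _ h, C.lp_pt _ h, C.g_pow_pt0 k (C.fix_div hx hy), mul_div_assoc]

/-- The element inverting the coordinate. -/
noncomputable def jv : G := C.exists_inv.choose

theorem jv_comm : C.jv * D.t = D.t * C.jv := C.exists_inv.choose_spec.1
theorem jv_a : C.jv • D.a = D.b := C.exists_inv.choose_spec.2.1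
theorem jv_b : C.jv • D.b = D.a := C.exists_inv.choose_spec.2.2.1
theorem jv_pt {z : K} (hz : z ^ D.q = z) (h0 : z ≠ 0) : C.jv • C.pt 0 z = C.pt 0 z⁻¹ :=
  C.exists_inv.choose_spec.2.2.2 z hz h0

theorem rep_jv : C.Rep C.jv 0 1 1 0 := by
  refine ⟨⟨C.cj_zero, one_pow _, one_pow _, C.cj_zero⟩, by simp, fun x y hx hy hxy => ?_⟩
  simp only [zero_mul, zero_add, add_zero, one_mul]
  by_cases hy0 : y = 0
  · subst hy0
    rw [C.lp_a, C.jv_a, C.lp_pt _ (hxy.resolve_right (not_not.2 rfl)), zero_div, C.pt_zero]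
  · rw [C.lp_pt _ hy0]
    by_cases hx0 : x = 0
    · subst hx0
      rw [zero_div, C.pt_zero, C.jv_b, C.lp_a]
    · rw [C.jv_pt (C.fix_div hx hy) (div_ne_zero hx0 hy0), inv_div, C.lp_pt _ hx0]

theorem exists_rep {m : G} (hm : m * D.t = D.t * m) : ∃ α β γ δ : K, C.Rep m α β γ δ := by
  have hstab : ∀ k : G, k * D.t = D.t * k → k • D.a = D.a → ∃ α β γ δ : K, C.Rep k α β γ δ := by
    intro k hk hka
    have hkb : k • D.b ≠ D.a := fun e => D.hab (smul_left_cancel k (e.trans hka.symm)).symm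
    obtain ⟨v, hv, hkv⟩ := C.exists_pt0 hkb (D.fix_of_cent hk D.t_mem.2)
    obtain ⟨i, hi⟩ := C.g_gen ((C.P 0 v)⁻¹ * k) ⟨by
        show ((C.P 0 v)⁻¹ * k) • D.a = D.a
        rw [mul_smul, hka, inv_smul_eq_iff, D.U_fix _ (C.P_mem _ _ hv)], by
        show ((C.P 0 v)⁻¹ * k) • D.b = D.b
        rw [mul_smul, ← hkv, pt, inv_smul_smul]⟩
    have h := C.rep_mul (C.rep_P hv) (C.rep_g_pow i)
    rw [hi, mul_inv_cancel_left] at h
    exact ⟨_, _, _, _, h⟩
  by_cases hma : m • D.a = D.a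
  · exact hstab m hm hma
  · obtain ⟨v, hv, hmv⟩ := C.exists_pt0 hma (D.fix_of_cent hm D.t_mem.1)
    set k := C.jv⁻¹ * ((C.P 0 v)⁻¹ * m) with hk
    have hPt : (C.P 0 v)⁻¹ * D.t = D.t * (C.P 0 v)⁻¹ :=
      ((D.mem_R.1 (inv_mem ((C.P_mem_R 0 v hv).2 rfl))).2).symm
    have hjt : C.jv⁻¹ * D.t = D.t * C.jv⁻¹ := by
      rw [inv_mul_eq_iff_eq_mul, ← mul_assoc, C.jv_comm, mul_inv_cancel_right]
    have hkt : k * D.t = D.t * k := by
      calc k * D.t = C.jv⁻¹ * ((C.P 0 v)⁻¹ * (m * D.t)) := by rw [hk]; group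
        _ = C.jv⁻¹ * (((C.P 0 v)⁻¹ * D.t) * m) := by rw [hm]; group
        _ = (C.jv⁻¹ * D.t) * ((C.P 0 v)⁻¹ * m) := by rw [hPt]; group
        _ = _ := by rw [hjt, hk]; group
    obtain ⟨α, β, γ, δ, h⟩ := hstab k hkt (by
      rw [hk, mul_smul, mul_smul, ← hmv, pt, inv_smul_smul, inv_smul_eq_iff, C.jv_a])
    have e : m = C.P 0 v * (C.jv * k) := by rw [hk]; group
    rw [e]
    exact ⟨_, _, _, _, C.rep_mul (C.rep_P hv) (C.rep_mul C.rep_jv h)⟩

theorem rep_unique {m : G} {α β γ δ α' β' γ' δ' : K} (h : C.Rep m α β γ δ) (h' : C.Rep m α' β' γ' δ') :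
    ∃ r : K, r ≠ 0 ∧ α' = r * α ∧ β' = r * β ∧ γ' = r * γ ∧ δ' = r * δ := by
  obtain ⟨⟨ha, hb, hc, hd⟩, hdet, hm⟩ := h
  obtain ⟨⟨ha', hb', hc', hd'⟩, hdet', hm'⟩ := h'
  have h1 : (1 : K) ^ D.q = 1 := one_pow _
  have key : ∀ x y : K, x ^ D.q = x → y ^ D.q = y → (x ≠ 0 ∨ y ≠ 0) →
      (α * x + β * y) * (γ' * x + δ' * y) = (α' * x + β' * y) * (γ * x + δ * y) := fun x y hx hy hxy =>
    C.lp_prop (C.fix_add (C.fix_mul ha hx) (C.fix_mul hb hy)) (C.fix_add (C.fix_mul hc hx) (C.fix_mul hd hy))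
      (C.fix_add (C.fix_mul ha' hx) (C.fix_mul hb' hy)) (C.fix_add (C.fix_mul hc' hx) (C.fix_mul hd' hy))
      ((hm x y hx hy hxy).symm.trans (hm' x y hx hy hxy))
  have k10 := key 1 0 h1 C.cj_zero (Or.inl one_ne_zero)
  have k01 := key 0 1 C.cj_zero h1 (Or.inr one_ne_zero)
  have k11 := key 1 1 h1 h1 (Or.inl one_ne_zero)
  simp only [mul_one, mul_zero, add_zero, zero_add] at k10 k01 k11
  -- scalars on the two columns
  obtain ⟨r₁, e1, e2⟩ : ∃ r, α' = r * α ∧ γ' = r * γ := by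
    by_cases hα : α = 0
    · have hγ : γ ≠ 0 := fun hγ => hdet (by rw [hα, hγ]; ring)
      refine ⟨γ' / γ, ?_, (div_mul_cancel₀ _ hγ).symm⟩
      rw [hα, zero_mul, eq_comm, mul_eq_zero] at k10
      rw [k10.resolve_right hγ, hα, mul_zero]
    · refine ⟨α' / α, (div_mul_cancel₀ _ hα).symm, ?_⟩
      field_simp
      linear_combination k10
  obtain ⟨r₂, e3, e4⟩ : ∃ r, β' = r * β ∧ δ' = r * δ := by
    by_cases hβ : β = 0
    · have hδ : δ ≠ 0 := fun hδ => hdet (by rw [hβ, hδ]; ring)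
      refine ⟨δ' / δ, ?_, (div_mul_cancel₀ _ hδ).symm⟩
      rw [hβ, zero_mul, eq_comm, mul_eq_zero] at k01
      rw [k01.resolve_right hδ, hβ, mul_zero]
    · refine ⟨β' / β, (div_mul_cancel₀ _ hβ).symm, ?_⟩
      field_simp
      linear_combination k01
  have hr : r₁ = r₂ := by
    rw [e1, e2, e3, e4] at k11
    have : (r₂ - r₁) * (α * δ - β * γ) = 0 := by linear_combination k11
    exact (sub_eq_zero.1 ((mul_eq_zero.1 this).resolve_right hdet)).symm
  subst hr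
  refine ⟨r₁, fun h0 => hdet' ?_, e1, e3, e2, e4⟩
  rw [e1, e2, e3, e4, h0]; ring

theorem den_ne {α β γ δ x : K} (hd : α * δ - β * γ ≠ 0) (hc : γ ^ D.q = γ) (hd' : δ ^ D.q = δ)
    (hx : x ^ D.q ≠ x) : γ * x + δ ≠ 0 := fun h => by
  by_cases hγ : γ = 0
  · rw [hγ, zero_mul, zero_add] at h
    exact hd (by rw [hγ, h]; ring)
  · refine hx ?_
    rw [show x = -δ / γ by field_simp; linear_combination h]
    exact C.fix_div (C.fix_neg hd') hc

/-- The action of the centraliser of `t` on the elements not fixed by `x ↦ xᑫ`. -/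
noncomputable def mob (m : G) (x : K) : K :=
  open scoped _root_.Classical in
  if h : m * D.t = D.t * m then
    frac (C.exists_rep h).choose (C.exists_rep h).choose_spec.choose
      (C.exists_rep h).choose_spec.choose_spec.choose (C.exists_rep h).choose_spec.choose_spec.choose_spec.choose x
  else x

theorem mob_eq {m : G} (hm : m * D.t = D.t * m) {α β γ δ : K} (h : C.Rep m α β γ δ) (x : K) :
    C.mob m x = frac α β γ δ x := by
  rw [mob, dif_pos hm]
  have key : ∀ {a b c d : K}, C.Rep m a b c d → frac a b c d x = frac α β γ δ x := fun {a b c d} h' => by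
    obtain ⟨r, hr, e1, e2, e3, e4⟩ := C.rep_unique h h'
    rw [frac, frac, e1, e2, e3, e4,
      show r * α * x + r * β = r * (α * x + β) by ring, show r * γ * x + r * δ = r * (γ * x + δ) by ring,
      mul_div_mul_left _ _ hr]
  exact key (C.exists_rep hm).choose_spec.choose_spec.choose_spec.choose_spec

theorem mob_mul {m m' : G} (hm : m * D.t = D.t * m) (hm' : m' * D.t = D.t * m') {x : K} (hx : x ^ D.q ≠ x) :
    C.mob (m * m') x = C.mob m (C.mob m' x) := by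
  obtain ⟨α, β, γ, δ, h⟩ := C.exists_rep hm
  obtain ⟨α', β', γ', δ', h'⟩ := C.exists_rep hm'
  rw [C.mob_eq (by rw [mul_assoc, hm', ← mul_assoc, hm, mul_assoc]) (C.rep_mul h h'), C.mob_eq hm h,
    C.mob_eq hm' h']
  simp only [frac]
  have h0 := C.den_ne h'.2.1 h'.1.2.2.1 h'.1.2.2.2 hx
  rw [mul_div_assoc', mul_div_assoc', div_add' _ _ _ h0, div_add' _ _ _ h0, div_div_div_cancel_right₀ h0]
  congr 1 <;> ring

theorem mob_ne {m : G} (hm : m * D.t = D.t * m) {x : K} (hx : x ^ D.q ≠ x) : C.mob m x ^ D.q ≠ C.mob m x := by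
  obtain ⟨α, β, γ, δ, h⟩ := C.exists_rep hm
  rw [C.mob_eq hm h]
  obtain ⟨⟨ha, hb, hc, hd⟩, hdet, -⟩ := h
  intro e
  set y := frac α β γ δ x with hy
  have h0 := C.den_ne hdet hc hd hx
  have h1 : y * (γ * x + δ) = α * x + β := div_mul_cancel₀ _ h0
  have h2 : (γ * y - α) * x = β - δ * y := by linear_combination h1
  by_cases h3 : γ * y - α = 0
  · rw [h3, zero_mul, eq_comm, sub_eq_zero] at h2
    exact hdet (by linear_combination δ * (-1 : K) * h3 - γ * h2)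
  · refine hx ?_
    rw [show x = (β - δ * y) / (γ * y - α) by rw [eq_div_iff h3, mul_comm, h2], div_pow, C.cj_sub, C.cj_sub,
      mul_pow, mul_pow, hb, hd, hc, ha, e]

theorem mob_one (x : K) : C.mob 1 x = x := by
  rw [C.mob_eq (by rw [one_mul, mul_one]) (show C.Rep 1 1 0 0 1 by simpa using C.rep_g_pow 0)]
  simp [frac]

theorem P0_comm {v : K} (hv : v ^ D.q = v) : C.P 0 v * D.t = D.t * C.P 0 v :=
  ((D.mem_R.1 ((C.P_mem_R 0 v hv).2 rfl)).2).symm

theorem mob_P {v : K} (hv : v ^ D.q = v) (x : K) : C.mob (C.P 0 v) x = x + v := by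
  rw [C.mob_eq (C.P0_comm hv) (C.rep_P hv)]
  simp [frac]

theorem mob_g_pow (k : ℕ) (x : K) : C.mob (C.g ^ k) x = C.ν ^ k * x := by
  rw [C.mob_eq (D.H_comm_t (pow_mem C.g_mem k)) (C.rep_g_pow k)]
  simp [frac]

theorem mob_jv (x : K) : C.mob C.jv x = x⁻¹ := by
  rw [C.mob_eq C.jv_comm C.rep_jv]
  simp [frac]

theorem mob_W {w : G} (hw : w ∈ D.W) (x : K) : C.mob w x = x := by
  obtain ⟨k, rfl⟩ := C.g_gen w (D.mem_W.1 hw).1
  rw [C.mob_g_pow, (C.mem_W_iff k).1 hw, one_mul]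

end Coord

end Cfsg.Agent.Lie.UThreeOdd
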