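import Cfsg.Agent.Lib.Lie.UThreeOdd.Kernel

/-!
`R = U ∩ C(t)` has order `q`, `W` has order `(q + 1)/d`, and `H` is transitive on `R ∖ 1`.
-/

set_option autoImplicit false
set_option linter.unusedSectionVars false

namespace Cfsg.Agent.Lie.UThreeOdd

open MulAction

universe u v

namespace Hyp

variable {G : Type u} {Ω : Type v} [Group G] [MulAction G Ω] [Finite G] [FaithfulSMul G Ω] (D : Hyp G Ω)
include D

theorem R_le_cU {w : G} (hw : w ∈ D.W) : D.R ≤ D.cU w := fun u hu =>
  D.mem_cU.2 ⟨D.R_le hu, (D.mem_W.1 hw).2 u hu⟩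

theorem exists_pow {N : Subgroup G} (hN : N ≤ D.U) : ∃ j : ℕ, Nat.card N = D.p ^ j := by
  have hdvd := Subgroup.card_dvd_of_le hN
  rw [D.card_U, ← pow_mul] at hdvd
  obtain ⟨j, -, hj⟩ := (Nat.dvd_prime_pow D.hp).1 hdvd
  exact ⟨j, hj⟩

theorem card_W_mul : Nat.card (D.act D.R fun _ hh _ hu => D.H_R hh hu).range * Nat.card D.W = Nat.card D.H :=
  D.card_range_mul _

/-- `W` has an orbit of full length inside a block disjoint from the fixed set of `t`. -/
theorem card_W_le : Nat.card D.W ≤ Nat.card D.R + 1 := by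
  classical
  haveI := D.finite_points
  haveI := Fintype.ofFinite Ω
  haveI := Fintype.ofFinite G
  set s := Nat.card D.R with hs
  have hsq : s ≤ D.q := D.cU_t_le
  -- the points moved by `t` and fixed by some non-trivial element of `W`
  set F : G → Finset Ω := fun w => Finset.univ.filter fun c => w • c = c ∧ D.t • c ≠ c with hF
  have hFcard : ∀ w ∈ (Finset.univ.filter fun w : G => w ∈ D.W).erase 1, (F w).card ≤ D.q - s := by
    intro w hw
    simp only [Finset.mem_erase, Finset.mem_filter, Finset.mem_univ, true_and] at hw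
    have hwH := (D.mem_W.1 hw.2).1
    have h1 := D.card_fix hwH
    have h2 := D.card_fix D.t_mem
    have h3 := D.cU_le hwH hw.1
    rw [Nat.card_eq_fintype_card, Fintype.card_subtype] at h1 h2
    have h4 : F w = (Finset.univ.filter fun c : Ω => w • c = c) \ (Finset.univ.filter fun c : Ω => D.t • c = c) := by
      ext c; simp [hF]
    rw [h4, Finset.card_sdiff_of_subset (fun c hc => by
      simp only [Finset.mem_filter, Finset.mem_univ, true_and] at hc ⊢
      exact D.W_fix hw.2 hc), h1, h2]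
    change _ - (s + 1) ≤ _
    omega
  obtain ⟨c, hct, hc⟩ : ∃ c : Ω, D.t • c ≠ c ∧ ∀ w ∈ D.W, w ≠ 1 → w • c ≠ c := by
    by_contra hcon
    push Not at hcon
    have hsub : (Finset.univ.filter fun c : Ω => D.t • c ≠ c) ⊆
        ((Finset.univ.filter fun w : G => w ∈ D.W).erase 1).biUnion F := fun c hc => by
      simp only [Finset.mem_filter, Finset.mem_univ, true_and] at hc
      obtain ⟨w, hw, hw1, hwc⟩ := hcon c hc
      simp only [Finset.mem_biUnion, Finset.mem_erase, Finset.mem_filter, Finset.mem_univ, true_and, hF]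
      exact ⟨w, ⟨hw1, hw⟩, hwc, hc⟩
    have h1 := (Finset.card_le_card hsub).trans (Finset.card_biUnion_le_card_mul _ _ _ hFcard)
    have h2 := D.card_fix D.t_mem
    rw [Nat.card_eq_fintype_card, Fintype.card_subtype] at h2
    have h3 := Finset.card_filter_add_card_filter_not (s := (Finset.univ : Finset Ω)) (fun c : Ω => D.t • c = c)
    rw [h2, Finset.card_univ, ← Nat.card_eq_fintype_card, D.card_points] at h3
    have h4 : ((Finset.univ.filter fun w : G => w ∈ D.W).erase 1).card ≤ D.q * D.q := by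
      refine Finset.card_erase_le.trans ?_
      rw [← Fintype.card_subtype, ← Nat.card_eq_fintype_card]
      refine (Nat.le_of_dvd Nat.card_pos (Subgroup.card_dvd_of_le (show D.W ≤ D.H from inf_le_left))).trans ?_
      have h5 := D.card_H'
      have h6 : Nat.card D.H ≤ D.d * Nat.card D.H := Nat.le_mul_of_pos_left _
        (by rcases D.d_cases with h | ⟨h, -⟩ <;> omega)
      rw [h5] at h6
      refine h6.trans ?_
      obtain ⟨k, hk⟩ : ∃ k, D.q = k + 1 := ⟨D.q - 1, by have := D.three_le_q; omega⟩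
      rw [hk, Nat.add_sub_cancel]
      nlinarith
    have h5 : 1 ≤ s := Nat.card_pos
    have h6 := h1.trans (Nat.mul_le_mul_right _ h4)
    have h7 : D.q * D.q * (D.q - s) ≤ D.q * D.q * (D.q - 1) := Nat.mul_le_mul_left _ (by omega)
    have h8 : D.q * D.q * (D.q - 1) + D.q * D.q = D.q ^ 3 := by
      obtain ⟨k, hk⟩ : ∃ k, D.q = k + 1 := ⟨D.q - 1, by have := D.three_le_q; omega⟩
      rw [hk, Nat.add_sub_cancel]; ring
    have h9 : D.q < D.q * D.q := by
      have := D.three_le_q
      nlinarith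
    change Finset.card _ ≤ _ at h6
    have h10 : Nat.card (D.cU D.t) = s := rfl
    simp only [ne_eq] at h6
    omega
  obtain ⟨g, hga, hgb, hg⟩ := D.exists_line hct
  set z := g * D.t * g⁻¹ with hz
  have hzc : z • c = c := hga ▸ conj_fix D.t_mem.1
  let f : D.W → {y : Ω // z • y = y} := fun w => ⟨(w : G) • c, by
    rw [← mul_smul, D.W_central hg w.2, mul_smul, hzc]⟩
  have hf : Function.Injective f := fun w w' e => by
    have e' : ((w' : G)⁻¹ * w) • c = c := by
      rw [mul_smul, show (w : G) • c = (w' : G) • c from congrArg Subtype.val e, inv_smul_smul]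
    by_contra hne
    exact hc _ (mul_mem (inv_mem w'.2) w.2) (fun h => hne (Subtype.ext (inv_mul_eq_one.1 h).symm)) e'
  have h1 := Nat.card_le_card_of_injective f hf
  have h5 : Nat.card {y : Ω // z • y = y} = Nat.card {y : Ω // D.t • y = y} := Nat.card_congr
    { toFun := fun x => ⟨g⁻¹ • x.1, (conj_fix_iff).1 x.2⟩
      invFun := fun x => ⟨g • x.1, conj_fix x.2⟩
      left_inv := fun x => Subtype.ext (smul_inv_smul g x.1)
      right_inv := fun x => Subtype.ext (inv_smul_smul g x.1) }
  rwa [h5, D.card_fix D.t_mem] at h1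

theorem card_R : Nat.card D.R = D.q := by
  obtain ⟨j, hj⟩ := D.exists_pow D.R_le
  have hle : Nat.card D.R ≤ D.q := D.cU_t_le
  have h1 := (D.card_range_lt D.R_le D.R_ne_bot fun _ hh _ hu => D.H_R hh hu).1
  have h2 := D.card_W_le
  have h3 := D.card_W_mul
  have h4 := D.card_H'
  rw [hj] at hle h1 h2 ⊢
  rw [D.q_def] at hle ⊢
  have hjn : j ≤ D.n := (Nat.pow_le_pow_iff_right D.hp.one_lt).1 hle
  rcases eq_or_lt_of_le hjn with rfl | hlt
  · rfl
  exfalso
  have h5 : D.p ^ j * 3 ≤ D.q := by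
    calc D.p ^ j * 3 ≤ D.p ^ j * D.p := Nat.mul_le_mul_left _ D.three_le_p
      _ = D.p ^ (j + 1) := (pow_succ _ _).symm
      _ ≤ _ := Nat.pow_le_pow_right D.hp.pos hlt
  have h6 : (D.q - 1) * (D.q + 1) ≤ 3 * ((D.p ^ j - 1) * (D.p ^ j + 1)) := by
    rw [← h4, ← h3]
    refine Nat.mul_le_mul D.d_le (Nat.mul_le_mul ?_ h2)
    omega
  have := Nat.mul_le_mul h5 h5
  obtain ⟨k, hk⟩ : ∃ k, D.q = k + 1 := ⟨D.q - 1, by have := D.three_le_q; omega⟩
  obtain ⟨l, hl⟩ : ∃ l, D.p ^ j = l + 1 := ⟨D.p ^ j - 1, by have := Nat.pow_pos (n := j) D.hp.pos; omega⟩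
  rw [hl] at h6 this h5
  rw [hk] at h6 this h5
  simp only [Nat.add_sub_cancel] at h6
  nlinarith

theorem cU_W {w : G} (hw : w ∈ D.W) (hw1 : w ≠ 1) : D.cU w = D.R :=
  (Subgroup.eq_of_le_of_card_ge (D.R_le_cU hw) (by
    rw [D.card_R]; exact D.cU_le (D.mem_W.1 hw).1 hw1)).symm

/-- `W` is semiregular outside the fixed set of `t`. -/
theorem W_semireg {w : G} (hw : w ∈ D.W) (hw1 : w ≠ 1) {c : Ω} (hc : w • c = c) : D.t • c = c := by
  by_cases h : c = D.a
  · rw [h]; exact D.t_mem.1
  · obtain ⟨u, hu, rfl⟩ := D.exists_cU_of_fix (D.mem_W.1 hw).1 h hc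
    rw [D.cU_W hw hw1] at hu
    exact D.cU_fix D.t_mem hu

theorem W_dvd : Nat.card D.W ∣ D.q + 1 := by
  classical
  haveI := D.finite_points
  obtain ⟨c, hct⟩ : ∃ c : Ω, D.t • c ≠ c := by
    by_contra h
    push Not at h
    exact D.t_ne (eq_of_smul_eq_smul fun c => by rw [h c, one_smul])
  obtain ⟨g, hga, hgb, hg⟩ := D.exists_line hct
  set z := g * D.t * g⁻¹ with hz
  -- the fixed set of `z` misses that of `t`
  have hdisj : ∀ y : Ω, z • y = y → D.t • y ≠ y := by
    intro y hy hty
    have hex : ∃! y' : Ω, z • y' = y' ∧ D.t • y' = y' := by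
      refine ⟨y, ⟨hy, hty⟩, fun y' hy' => by_contra fun hne => ?_⟩
      have e : z = D.t := D.invol_eq hne (by rw [hz, orderOf_conj', D.t_order]) D.t_order hy'.1 hy hy'.2 hty
      have h1 : z • c = c := hga ▸ conj_fix D.t_mem.1
      exact hct (e ▸ h1)
    haveI := Fintype.ofFinite Ω
    let S := Finset.univ.filter fun x : Ω => z • x = x
    have hev : Even (S.erase y).card := by
      have hinv : ∀ x ∈ S.erase y, D.t • x ∈ S.erase y := by
        intro x hx
        simp only [S, Finset.mem_erase, Finset.mem_filter, Finset.mem_univ, true_and] at hx ⊢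
        refine ⟨fun e => hx.1 (smul_left_cancel D.t (e.trans hty.symm)), ?_⟩
        rw [← mul_smul, hg, mul_smul, hx.2]
      have hne : ∀ x ∈ S.erase y, D.t • x ≠ x := fun x hx e => by
        simp only [S, Finset.mem_erase, Finset.mem_filter, Finset.mem_univ, true_and] at hx
        exact hx.1 (hex.unique ⟨hx.2, e⟩ ⟨hy, hty⟩)
      have h0 : ∑ _x ∈ S.erase y, (1 : ZMod 2) = 0 :=
        Finset.sum_involution (fun x _ => D.t • x) (fun x hx => by decide) (fun x hx _ => hne x hx) hinv
          (fun x hx => D.t_smul x)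
      rw [Finset.sum_const, nsmul_one, ZMod.natCast_eq_zero_iff_even] at h0
      exact h0
    rw [Finset.card_erase_of_mem (by simp [S, hy])] at hev
    have h5 : S.card = D.q + 1 := by
      rw [← Fintype.card_subtype, ← Nat.card_eq_fintype_card,
        Nat.card_congr (show {x : Ω // z • x = x} ≃ {x : Ω // D.t • x = x} from
          { toFun := fun x => ⟨g⁻¹ • x.1, (conj_fix_iff).1 x.2⟩
            invFun := fun x => ⟨g • x.1, conj_fix x.2⟩
            left_inv := fun x => Subtype.ext (smul_inv_smul g x.1)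
            right_inv := fun x => Subtype.ext (inv_smul_smul g x.1) }), D.card_fix D.t_mem]
      exact congrArg (· + 1) D.card_R
    rw [h5, Nat.add_sub_cancel] at hev
    exact Nat.not_even_iff_odd.2 D.odd_q hev
  let X := {x : Ω // z • x = x}
  letI : MulAction D.W X :=
    { smul := fun w x => ⟨(w : G) • x.1, by rw [← mul_smul, D.W_central hg w.2, mul_smul, x.2]⟩
      one_smul := fun x => Subtype.ext (one_smul G x.1)
      mul_smul := fun w w' x => Subtype.ext (mul_smul (w : G) (w' : G) x.1) }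
  have h := Block.Zas.card_of_free (H := D.W) (X := X) fun w x hx => by_contra fun hne =>
    hdisj x.1 x.2 (D.W_semireg w.2 (fun e => hne (Subtype.ext e)) (congrArg Subtype.val hx))
  rw [Nat.card_congr (show X ≃ {x : Ω // D.t • x = x} from
    { toFun := fun x => ⟨g⁻¹ • x.1, (conj_fix_iff).1 x.2⟩
      invFun := fun x => ⟨g • x.1, conj_fix x.2⟩
      left_inv := fun x => Subtype.ext (smul_inv_smul g x.1)
      right_inv := fun x => Subtype.ext (inv_smul_smul g x.1) }), D.card_fix D.t_mem] at h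
  rw [← D.card_R]
  exact ⟨_, h.trans (mul_comm _ _)⟩

theorem card_act_R : Nat.card (D.act D.R fun _ hh _ hu => D.H_R hh hu).range = D.q - 1 := by
  have h1 := (D.card_range_lt D.R_le D.R_ne_bot fun _ hh _ hu => D.H_R hh hu).1
  rw [D.card_R] at h1
  have h3 := D.card_W_mul
  obtain ⟨k, hk⟩ := D.W_dvd
  have h4 := D.card_H'
  set A := Nat.card (D.act D.R fun _ hh _ hu => D.H_R hh hu).range
  set w := Nat.card D.W
  have hw : 0 < w := Nat.card_pos
  rw [← h3, hk] at h4
  have h5 : D.d * A = (D.q - 1) * k := Nat.eq_of_mul_eq_mul_left hw (by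
    linear_combination h4)
  have hq := D.three_le_q
  rcases D.d_cases with hd | ⟨hd, hmod, -⟩ <;> rw [hd] at h5
  · rcases Nat.lt_or_ge k 2 with hk2 | hk2
    · interval_cases k <;> omega
    · have : (D.q - 1) * 2 ≤ (D.q - 1) * k := Nat.mul_le_mul_left _ hk2
      omega
  · have hk3 : 3 ∣ k := by
      refine (Nat.prime_three.dvd_mul.1 ⟨A, h5.symm⟩).resolve_left ?_
      omega
    obtain ⟨i, rfl⟩ := hk3
    rcases Nat.lt_or_ge i 2 with hi | hi
    · interval_cases i <;> omega
    · have : (D.q - 1) * 6 ≤ (D.q - 1) * (3 * i) := Nat.mul_le_mul_left _ (by omega)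
      omega

theorem card_W : D.d * Nat.card D.W = D.q + 1 := by
  have h3 := D.card_W_mul
  have h4 := D.card_H'
  rw [D.card_act_R] at h3
  rw [← h3, mul_left_comm] at h4
  exact Nat.eq_of_mul_eq_mul_left (by have := D.three_le_q; omega) h4

theorem two_le_W : 2 ≤ Nat.card D.W := by
  have h := D.card_W
  have := D.three_le_q
  rcases D.d_cases with hd | ⟨hd, hmod, hp⟩ <;> rw [hd] at h
  · omega
  · have := D.p_le_q; omega

theorem t_mem_W : D.t ∈ D.W := D.W_of_fix D.t_mem fun _ h => h

theorem R_comm {u v : G} (hu : u ∈ D.R) (hv : v ∈ D.R) : u * v = v * u :=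
  ((D.card_range_lt D.R_le D.R_ne_bot fun _ hh _ hu => D.H_R hh hu).2 (by
    rw [D.card_act_R, D.card_R]; have := D.three_le_q; omega)).1 u hu v hv

/-- The only subgroups of `R` normalised by `H` are `1` and `R`. -/
theorem R_irr {M : Subgroup G} (hM : M ≤ D.R) (hinv : ∀ h ∈ D.H, ∀ u ∈ M, h * u * h⁻¹ ∈ M) :
    M = ⊥ ∨ M = D.R :=
  ((D.card_range_lt D.R_le D.R_ne_bot fun _ hh _ hu => D.H_R hh hu).2 (by
    rw [D.card_act_R, D.card_R]; have := D.three_le_q; omega)).2 M hM hinv

end Hyp

end Cfsg.Agent.Lie.UThreeOdd
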