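import Cfsg.Agent.Lib.Lie.UThreeOdd.Line
import Cfsg.Agent.Lib.Lie.UThreeOdd.Algebra

/-!
The pencil of blocks through `b` is mapped by the inverting element onto blocks through `a`, whose points share their
first coordinate. Hence the values are a multiple of the norm, with the form matching.
-/

set_option autoImplicit false
set_option linter.unusedSectionVars false

namespace Cfsg.Agent.Lie.UThreeOdd

open MulAction
open Hyp (conj_fix conj_fix_iff orderOf_conj')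

universe u v

namespace Coord

variable {G : Type u} {Ω : Type v} [Group G] [MulAction G Ω] [Finite G] [FaithfulSMul G Ω] {D : Hyp G Ω}
  {K : Type} [Field K] [Fintype K] (C : Coord D K)
include C

/-- The value of the point with coordinates `(θ, 0)`. -/
noncomputable def f (θ : K) : K :=
  open scoped _root_.Classical in
  if θ = 0 then 0 else C.dl (C.pt θ 0)

theorem f_def {θ : K} (hθ : θ ≠ 0) : C.f θ = C.dl (C.pt θ 0) := if_neg hθ

theorem moved {θ z : K} (hz : z ^ D.q = z) (hθ : θ ≠ 0) : D.t • C.pt θ z ≠ C.pt θ z :=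
  fun h => hθ ((C.fix_t hz).1 h)

theorem dl_pt {θ z : K} (hz : z ^ D.q = z) (hθ : θ ≠ 0) : C.dl (C.pt θ z) = C.f θ + z := by
  have h : C.P 0 z • C.pt θ 0 = C.pt θ z := by
    rw [C.P_smul_pt hz C.cj_zero, zero_add, C.A_zero_left, add_zero, add_zero]
  rw [← h, C.dl_smul (C.P0_mem hz) (C.moved C.cj_zero hθ), C.mob_P hz, C.f_def hθ]

theorem f_ne {θ : K} (hθ : θ ≠ 0) : C.f θ ^ D.q ≠ C.f θ :=
  C.f_def hθ ▸ C.dl_ne (C.moved C.cj_zero hθ)

theorem f_ω (θ : K) : C.f (C.ω * θ) = C.ν * C.f θ := by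
  by_cases hθ : θ = 0
  · subst hθ; simp [f]
  · have h : C.pt (C.ω * θ) 0 = C.g • C.pt θ 0 := by rw [C.g_smul_pt C.cj_zero, mul_zero]
    rw [C.f_def (mul_ne_zero C.ω_ne hθ), h, C.dl_smul (C.H_mem C.g_mem) (C.moved C.cj_zero hθ), ← C.f_def hθ]
    simpa using C.mob_g_pow 1 (C.f θ)

/-- A block through `a` consists of points sharing their first coordinate. -/
theorem block_a {z : G} (ho : orderOf z = 2) (hza : z • D.a = D.a) {θ v θ' v' : K} (hv : v ^ D.q = v)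
    (hv' : v' ^ D.q = v') (h : z • C.pt θ v = C.pt θ v) (h' : z • C.pt θ' v' = C.pt θ' v') : θ = θ' := by
  have hx : C.P θ v ∈ D.U := C.P_mem _ _ hv
  have e : z = C.P θ v * D.t * (C.P θ v)⁻¹ := by
    refine D.invol_eq (C.pt_ne hv).symm ho (by rw [orderOf_conj', D.t_order]) hza h ?_ (conj_fix D.t_mem.2)
    rw [conj_fix_iff, inv_smul_eq_iff.2 (D.U_fix _ hx).symm, D.t_mem.1]
  have hfix := h'
  rw [e, conj_fix_iff, C.P_inv hv, C.P_smul_pt (C.fix_neg hv) hv',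
    C.fix_t (C.fix_add (C.fix_add (C.fix_neg hv) hv') (C.A_fix _ _))] at hfix
  linear_combination -hfix

/-- The block of the translated pencil containing `b` and a point with first coordinate `θ' - θ`. -/
theorem pencil_block {θ θ' : K} (hθ : θ ≠ 0) (hθ' : θ' ≠ 0) (hF : (C.f θ' - C.f θ) ^ D.q = C.f θ' - C.f θ) :
    ∃ z : G, orderOf z = 2 ∧ z • D.b = D.b ∧ z • (C.P θ 0)⁻¹ • D.t • C.pt θ 0 = (C.P θ 0)⁻¹ • D.t • C.pt θ 0 ∧
      z • C.pt (θ' - θ) (C.f θ - C.f θ' - C.A θ θ') = C.pt (θ' - θ) (C.f θ - C.f θ' - C.A θ θ') := by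
  have hv : (C.f θ - C.f θ') ^ D.q = C.f θ - C.f θ' := by rw [← neg_sub, C.fix_neg hF]
  obtain ⟨z, hz, hzc, hztc, hzc'⟩ := C.dl_line (C.moved C.cj_zero hθ) (C.moved hv hθ')
    (by rw [C.dl_pt C.cj_zero hθ, C.dl_pt hv hθ']; ring)
  refine ⟨(C.P θ 0)⁻¹ * z * ((C.P θ 0)⁻¹)⁻¹, by rw [orderOf_conj', hz], ?_, conj_fix hztc, ?_⟩
  · rw [show D.b = (C.P θ 0)⁻¹ • C.pt θ 0 by rw [pt, inv_smul_smul]]
    exact conj_fix hzc
  · rw [show C.pt (θ' - θ) (C.f θ - C.f θ' - C.A θ θ') = (C.P θ 0)⁻¹ • C.pt θ' (C.f θ - C.f θ') by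
      rw [C.P_inv C.cj_zero, C.P_smul_pt (C.fix_neg C.cj_zero) hv]
      congr 1
      · ring
      · simp only [A, C.cj_neg]; ring]
    exact conj_fix hzc'

/-- The conclusion of the pencil equation. -/
theorem exists_J : ∃ J : K, J ≠ 0 ∧ J ^ D.q = -J ∧ (∀ x, x ≠ 0 → C.f x = J * (x * x ^ D.q)) ∧
    (C.c = J ∨ C.c = -J) := by
  haveI := Fact.mk D.hp
  refine pencil D.hp D.hp2 D.hn D.d_cases C.card C.ω_order C.ν_order C.ν_fix C.c_skew C.c_cases C.f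
    (fun x hx => C.f_ne hx) C.f_ω ?_
  intro x y y' hx hy hy' hyx hy'x hFy hFy'
  show (C.f x - C.f y - C.A x y + C.f (y - x))⁻¹ - ((C.f x - C.f y - C.A x y + C.f (y - x)) ^ D.q)⁻¹ =
    (C.f x - C.f y' - C.A x y' + C.f (y' - x))⁻¹ - ((C.f x - C.f y' - C.A x y' + C.f (y' - x)) ^ D.q)⁻¹
  have hs : ∀ {y : K}, (C.f y - C.f x) ^ D.q = C.f y - C.f x →
      (C.f x - C.f y - C.A x y) ^ D.q = C.f x - C.f y - C.A x y := fun {y} h => by
    rw [C.cj_sub, C.A_fix, ← neg_sub (C.f y), C.fix_neg h]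
  obtain ⟨z, hz, hzb, hzt, hzy⟩ := C.pencil_block hx hy hFy
  obtain ⟨z', hz', hzb', hzt', hzy'⟩ := C.pencil_block hx hy' hFy'
  have hne : D.b ≠ (C.P x 0)⁻¹ • D.t • C.pt x 0 := fun e => by
    have e' := congrArg (C.P x 0 • ·) e
    simp only [smul_inv_smul] at e'
    exact C.moved C.cj_zero hx e'.symm
  have hzz : z = z' := D.invol_eq hne hz hz' hzb hzt hzb' hzt'
  subst hzz
  -- the images under the inverting element
  have hmov : ∀ {y : K}, y ≠ x → (C.f y - C.f x) ^ D.q = C.f y - C.f x →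
      C.jv • C.pt (y - x) (C.f x - C.f y - C.A x y) ≠ D.a := fun {y} hyx h e => by
    refine C.moved (hs h) (sub_ne_zero.2 hyx) ?_
    rw [smul_left_cancel C.jv (e.trans C.jv_b.symm), D.t_mem.2]
  obtain ⟨θ₁, z₁, hz₁, e₁⟩ := C.exists_pt (hmov hyx hFy)
  obtain ⟨θ₂, z₂, hz₂, e₂⟩ := C.exists_pt (hmov hy'x hFy')
  have hθ : θ₁ = θ₂ := C.block_a (z := C.jv * z * C.jv⁻¹) (by rw [orderOf_conj', hz])
    (C.jv_b ▸ conj_fix hzb) hz₁ hz₂ (e₁ ▸ conj_fix hzy) (e₂ ▸ conj_fix hzy')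
  have hval : ∀ {y θ z : K}, y ≠ x → (C.f y - C.f x) ^ D.q = C.f y - C.f x → z ^ D.q = z →
      C.pt θ z = C.jv • C.pt (y - x) (C.f x - C.f y - C.A x y) →
      (C.f x - C.f y - C.A x y + C.f (y - x))⁻¹ = C.f θ + z ∧ θ ≠ 0 := by
    intro y θ z hyx h hzq e
    have hm := C.moved (hs h) (sub_ne_zero.2 hyx)
    have hθ : θ ≠ 0 := fun h0 => hm (by
      have e2 := C.t_fix_pt0 hzq
      rw [h0] at e
      rw [e, ← mul_smul, ← C.mem_M.1 C.jv_mem, mul_smul, smul_left_cancel_iff] at e2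
      exact e2)
    refine ⟨?_, hθ⟩
    rw [← C.dl_pt hzq hθ, e, C.dl_smul C.jv_mem hm, C.mob_jv, C.dl_pt (hs h) (sub_ne_zero.2 hyx),
      add_comm (C.f (y - x))]
  obtain ⟨v₁, -⟩ := hval hyx hFy hz₁ e₁
  obtain ⟨v₂, -⟩ := hval hy'x hFy' hz₂ e₂
  rw [← inv_pow, ← inv_pow, v₁, v₂, C.cj_add, C.cj_add, hz₁, hz₂, hθ]
  ring

end Coord

end Cfsg.Agent.Lie.UThreeOdd
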