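import Cfsg.Agent.Lib.Lie.UThreeOdd.Form

/-!
The points in coordinates, and the centraliser of `t` on its fixed set: it contains an element inducing `z ↦ 1/z`.
-/

set_option autoImplicit false
set_option linter.unusedSectionVars false

namespace Cfsg.Agent.Lie.UThreeOdd

open MulAction

universe u v

namespace Coord

variable {G : Type u} {Ω : Type v} [Group G] [MulAction G Ω] [Finite G] [FaithfulSMul G Ω] {D : Hyp G Ω}
  {K : Type} [Field K] [Fintype K] (C : Coord D K)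
include C

theorem charP : CharP K D.p :=
  haveI := Fact.mk D.hp
  charP_of_card_eq_prime_pow (f := D.n * 2) (by rw [C.card, pow_mul]; rfl)

theorem two_ne : (2 : K) ≠ 0 := fun h => by
  haveI := C.charP
  have h' : ((2 : ℕ) : K) = 0 := by exact_mod_cast h
  rw [CharP.cast_eq_zero_iff K D.p] at h'
  have := Nat.le_of_dvd (by norm_num) h'
  have := D.three_le_p
  omega

theorem cj_add (x y : K) : (x + y) ^ D.q = x ^ D.q + y ^ D.q := by
  haveI := Fact.mk D.hp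
  haveI := C.charP
  exact add_pow_char_pow x y D.p D.n

theorem cj_sub (x y : K) : (x - y) ^ D.q = x ^ D.q - y ^ D.q := by
  haveI := Fact.mk D.hp
  haveI := C.charP
  exact sub_pow_char_pow x y D.n

theorem cj_neg (x : K) : (-x) ^ D.q = -x ^ D.q := D.odd_q.neg_pow x

theorem cj_cj (x : K) : (x ^ D.q) ^ D.q = x := by
  rw [← pow_mul, ← sq, ← C.card, FiniteField.pow_card]

theorem cj_zero : (0 : K) ^ D.q = 0 := zero_pow (by have := D.three_le_q; omega)

theorem fix_add {x y : K} (hx : x ^ D.q = x) (hy : y ^ D.q = y) : (x + y) ^ D.q = x + y := by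
  rw [C.cj_add, hx, hy]

theorem fix_neg {x : K} (hx : x ^ D.q = x) : (-x) ^ D.q = -x := by rw [C.cj_neg, hx]

theorem fix_mul {x y : K} (hx : x ^ D.q = x) (hy : y ^ D.q = y) : (x * y) ^ D.q = x * y := by
  rw [mul_pow, hx, hy]

/-- The form. -/
def A (x y : K) : K := C.c * (x ^ D.q * y - x * y ^ D.q)

theorem A_fix (x y : K) : C.A x y ^ D.q = C.A x y := by
  rw [A, mul_pow, C.c_skew, C.cj_sub, mul_pow, mul_pow, C.cj_cj, C.cj_cj]
  ring

theorem P_mul' {θ z θ' z' : K} (hz : z ^ D.q = z) (hz' : z' ^ D.q = z') :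
    C.P θ z * C.P θ' z' = C.P (θ + θ') (z + z' + C.A θ θ') := C.P_mul θ z θ' z' hz hz'

theorem P_zero : C.P 0 0 = 1 := by
  refine mul_left_cancel (a := C.P 0 0) ?_
  rw [C.P_mul' C.cj_zero C.cj_zero, mul_one, A, C.cj_zero]
  simp

theorem P_inv {θ z : K} (hz : z ^ D.q = z) : (C.P θ z)⁻¹ = C.P (-θ) (-z) := by
  refine inv_eq_of_mul_eq_one_right ?_
  rw [C.P_mul' hz (C.fix_neg hz), A, C.cj_neg, ← C.P_zero]
  congr 1 <;> ring

/-- The point with coordinates `(θ, z)`. -/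
def pt (θ z : K) : Ω := C.P θ z • D.b

theorem pt_ne {θ z : K} (hz : z ^ D.q = z) : C.pt θ z ≠ D.a := D.smul_ne (C.P_mem θ z hz) D.b_ne

theorem pt_zero : C.pt 0 0 = D.b := by rw [pt, P_zero, one_smul]

theorem pt_inj {θ z θ' z' : K} (hz : z ^ D.q = z) (hz' : z' ^ D.q = z') (h : C.pt θ z = C.pt θ' z') :
    θ = θ' ∧ z = z' :=
  C.P_inj θ z θ' z' hz hz' (D.U_inj (C.P_mem θ z hz) (C.P_mem θ' z' hz') h)

theorem exists_pt {c : Ω} (hc : c ≠ D.a) : ∃ θ z : K, z ^ D.q = z ∧ C.pt θ z = c := by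
  obtain ⟨u, hu, rfl⟩ := D.exists_U hc
  obtain ⟨θ, z, hz, rfl⟩ := C.P_surj u hu
  exact ⟨θ, z, hz, rfl⟩

theorem P_smul_pt {θ z θ' z' : K} (hz : z ^ D.q = z) (hz' : z' ^ D.q = z') :
    C.P θ z • C.pt θ' z' = C.pt (θ + θ') (z + z' + C.A θ θ') := by
  rw [pt, ← mul_smul, C.P_mul' hz hz']; rfl

theorem A_zero_left (y : K) : C.A 0 y = 0 := by rw [A, C.cj_zero]; ring

theorem A_zero_right (x : K) : C.A x 0 = 0 := by rw [A, C.cj_zero]; ring

theorem pow_conj (k : ℕ) {θ z : K} (hz : z ^ D.q = z) :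
    C.g ^ k * C.P θ z * (C.g ^ k)⁻¹ = C.P (C.ω ^ k * θ) (C.ν ^ k * z) := by
  induction k with
  | zero => simp
  | succ k ih =>
    have hz' : (C.ν ^ k * z) ^ D.q = C.ν ^ k * z := by rw [mul_pow, ← pow_mul, mul_comm k, pow_mul, C.ν_fix, hz]
    rw [pow_succ' C.ω, mul_assoc C.ω, pow_succ' C.ν, mul_assoc C.ν, ← C.g_conj _ _ hz', ← ih, pow_succ']
    group

theorem pow_smul_pt (k : ℕ) {θ z : K} (hz : z ^ D.q = z) :
    C.g ^ k • C.pt θ z = C.pt (C.ω ^ k * θ) (C.ν ^ k * z) := by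
  rw [pt, D.smul_point (pow_mem C.g_mem k), C.pow_conj k hz]
  rfl

theorem g_smul_pt {θ z : K} (hz : z ^ D.q = z) : C.g • C.pt θ z = C.pt (C.ω * θ) (C.ν * z) := by
  simpa using C.pow_smul_pt 1 (θ := θ) hz

theorem mem_W_iff (k : ℕ) : C.g ^ k ∈ D.W ↔ C.ν ^ k = 1 := by
  rw [D.mem_W]
  constructor
  · intro h
    have h1 := h.2 _ ((C.P_mem_R 0 1 (one_pow _)).2 rfl)
    rw [← mul_inv_eq_iff_eq_mul, C.pow_conj k (one_pow _), mul_zero, mul_one] at h1
    exact (C.P_inj _ _ _ _ (by rw [← pow_mul, mul_comm k, pow_mul, C.ν_fix]) (one_pow _) h1).2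
  · refine fun h => ⟨pow_mem C.g_mem k, fun u hu => ?_⟩
    obtain ⟨θ, z, hz, rfl⟩ := C.P_surj u (D.R_le hu)
    obtain rfl := (C.P_mem_R θ z hz).1 hu
    rw [← mul_inv_eq_iff_eq_mul, C.pow_conj k hz, mul_zero, h, one_mul]

theorem ω_ne : C.ω ≠ 0 := fun h => by
  have h1 := C.ω_order
  rw [h, orderOf_zero, mul_zero] at h1
  have := Nat.mul_le_mul D.three_le_q D.three_le_q
  rw [sq] at h1
  omega

theorem ν_ne : C.ν ≠ 0 := fun h => by
  have h1 := C.ν_order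
  rw [h, orderOf_zero] at h1
  have := D.three_le_q
  omega

theorem t_conj {θ z : K} (hz : z ^ D.q = z) : D.t * C.P θ z * D.t⁻¹ = C.P (-θ) z := by
  obtain ⟨k, hk⟩ := C.g_gen D.t D.t_mem
  have hν : C.ν ^ k = 1 := (C.mem_W_iff k).1 (hk ▸ D.t_mem_W)
  rw [← hk, C.pow_conj k hz, hν, one_mul]
  congr 1
  have h2 : C.ω ^ k * C.ω ^ k = 1 := by
    have e := C.pow_conj (k + k) (θ := (1 : K)) C.cj_zero
    rw [pow_add C.g, hk, D.t_mul, one_mul, inv_one, mul_one, pow_add C.ω, mul_one, mul_zero] at e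
    exact (C.P_inj _ _ _ _ C.cj_zero C.cj_zero e).1.symm
  rcases mul_self_eq_one_iff.1 h2 with h | h
  · exfalso
    have h1 : C.P 1 0 ∈ D.R := D.mem_R.2 ⟨C.P_mem _ _ C.cj_zero, by
      rw [← mul_inv_eq_iff_eq_mul, ← hk, C.pow_conj k C.cj_zero, h, hν, one_mul, mul_zero]⟩
    exact one_ne_zero ((C.P_mem_R _ _ C.cj_zero).1 h1)
  · rw [h, neg_one_mul]

theorem t_smul_pt {θ z : K} (hz : z ^ D.q = z) : D.t • C.pt θ z = C.pt (-θ) z := by
  rw [pt, D.smul_point D.t_mem, C.t_conj hz]; rfl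

theorem fix_t {θ z : K} (hz : z ^ D.q = z) : D.t • C.pt θ z = C.pt θ z ↔ θ = 0 := by
  rw [C.t_smul_pt hz]
  refine ⟨fun h => ?_, fun h => by rw [h, neg_zero]⟩
  have h1 := (C.pt_inj hz hz h).1
  rw [neg_eq_iff_add_eq_zero, ← two_mul, mul_eq_zero] at h1
  exact h1.resolve_left C.two_ne

theorem exists_pt0 {c : Ω} (hc : c ≠ D.a) (ht : D.t • c = c) : ∃ z : K, z ^ D.q = z ∧ C.pt 0 z = c := by
  obtain ⟨θ, z, hz, rfl⟩ := C.exists_pt hc
  rw [(C.fix_t hz).1 ht]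
  exact ⟨z, hz, rfl⟩

/-- The powers of `ν` are the non-zero elements fixed by `x ↦ xᑫ`. -/
theorem exists_ν_pow {z : K} (hz : z ^ D.q = z) (h0 : z ≠ 0) : ∃ k : ℕ, C.ν ^ k = z := by
  classical
  have hq := D.three_le_q
  have h1 : 1 < D.q := by omega
  set S : Finset K := (Finset.univ.filter fun z : K => z ^ D.q = z).erase 0
  have hcard : S.card ≤ D.q - 1 := by
    rw [Finset.card_erase_of_mem (by simp [C.cj_zero])]
    have h := Polynomial.card_le_degree_of_subset_roots (p := (Polynomial.X ^ D.q - Polynomial.X : Polynomial K))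
      (Z := Finset.univ.filter fun z : K => z ^ D.q = z) (fun z hz => by
        have hz' := (Finset.mem_filter.1 (Finset.mem_def.2 hz)).2
        rw [Polynomial.mem_roots (FiniteField.X_pow_card_sub_X_ne_zero K h1)]
        simp [sub_eq_zero, hz'])
    rw [FiniteField.X_pow_card_sub_X_natDegree_eq K h1] at h
    omega
  have hsub : (Finset.range (D.q - 1)).image (C.ν ^ ·) ⊆ S := fun x hx => by
    obtain ⟨k, -, rfl⟩ := Finset.mem_image.1 hx
    exact Finset.mem_erase.2 ⟨pow_ne_zero k C.ν_ne, Finset.mem_filter.2 ⟨Finset.mem_univ _, by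
      rw [← pow_mul, mul_comm k, pow_mul, C.ν_fix]⟩⟩
  have heq := Finset.eq_of_subset_of_card_le hsub (by
    rw [Finset.card_image_of_injOn, Finset.card_range]
    · exact hcard
    · intro i hi j hj hij
      exact pow_injOn_Iio_orderOf (by rw [C.ν_order]; simpa using hi) (by rw [C.ν_order]; simpa using hj) hij)
  obtain ⟨k, -, hk⟩ := Finset.mem_image.1 (heq.ge (Finset.mem_erase.2
    ⟨h0, Finset.mem_filter.2 ⟨Finset.mem_univ _, hz⟩⟩))
  exact ⟨k, hk⟩

end Coord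

end Cfsg.Agent.Lie.UThreeOdd
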