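import Cfsg.Agent.Lib.Lie.UThreeOdd.CoprimeField
import Cfsg.Agent.Lib.Block.Zas.Basic

/-!
The setting of a split BN-pair of rank one of odd unitary type, and the basic facts on fixed sets.
-/

set_option autoImplicit false
set_option linter.unusedSectionVars false

namespace Cfsg.Agent.Lie.UThreeOdd

open MulAction

universe u v

/-- `G` is doubly transitive on `Ω` of degree `q³ + 1`, with a normal regular subgroup `U` of a point stabiliser and
a cyclic two-point stabiliser of order `(q² - 1)/(3, q + 1)`. -/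
structure Hyp (G : Type u) (Ω : Type v) [Group G] [MulAction G Ω] where
  a : Ω
  b : Ω
  U : Subgroup G
  p : ℕ
  n : ℕ
  hab : a ≠ b
  hp : p.Prime
  hp2 : p ≠ 2
  hn : 1 ≤ n
  U_fix : ∀ u ∈ U, u • a = a
  U_norm : ∀ g : G, g • a = a → ∀ u ∈ U, g * u * g⁻¹ ∈ U
  U_reg : ∀ c : Ω, c ≠ a → ∃! u : U, (u : G) • b = c
  two : ∀ {x y z w : Ω}, x ≠ y → z ≠ w → ∃ g : G, g • x = z ∧ g • y = w
  card_U : Nat.card U = (p ^ n) ^ 3
  cyc : IsCyclic ↥(stabilizer G a ⊓ stabilizer G b)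
  card_H : Nat.gcd 3 (p ^ n + 1) * Nat.card ↥(stabilizer G a ⊓ stabilizer G b) = (p ^ n) ^ 2 - 1

/-- A cyclic group has at most one subgroup of each order. -/
theorem cyclic_eq_of_card {A : Type u} [Group A] [Finite A] [IsCyclic A] {K L : Subgroup A}
    (h : Nat.card K = Nat.card L) : K = L := by
  classical
  haveI := Fintype.ofFinite A
  have hS : ∀ M : Subgroup A, (M : Set A).toFinset =
      Finset.univ.filter fun x : A => x ^ Nat.card M = 1 := fun M => by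
    refine Finset.eq_of_subset_of_card_le (fun x hx => Finset.mem_filter.2 ⟨Finset.mem_univ _, ?_⟩) ?_
    · exact congrArg Subtype.val (pow_card_eq_one' (x := (⟨x, Set.mem_toFinset.1 hx⟩ : M)))
    · refine (IsCyclic.card_pow_eq_one_le Nat.card_pos).trans ?_
      rw [Set.toFinset_card, ← Nat.card_eq_fintype_card]
      exact le_rfl
  exact SetLike.coe_injective (Set.toFinset_inj.1 (by rw [hS, hS, h]))

namespace Hyp

variable {G : Type u} {Ω : Type v} [Group G] [MulAction G Ω] [Finite G] (D : Hyp G Ω)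
include D

/-- The prime power `q`. -/
def q : ℕ := D.p ^ D.n

/-- The number `(3, q + 1)`. -/
def d : ℕ := Nat.gcd 3 (D.q + 1)

/-- The two-point stabiliser. -/
def H : Subgroup G := stabilizer G D.a ⊓ stabilizer G D.b

theorem mem_H {g : G} : g ∈ D.H ↔ g • D.a = D.a ∧ g • D.b = D.b := Iff.rfl

theorem q_def : D.q = D.p ^ D.n := rfl

theorem p_le_q : D.p ≤ D.q := Nat.le_self_pow (by have := D.hn; omega) _

theorem three_le_p : 3 ≤ D.p := lt_of_le_of_ne D.hp.two_le (Ne.symm D.hp2)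

theorem three_le_q : 3 ≤ D.q := D.three_le_p.trans D.p_le_q

theorem odd_q : Odd D.q := (D.hp.odd_of_ne_two D.hp2).pow

theorem d_cases : D.d = 1 ∨ (D.d = 3 ∧ D.q % 3 = 2 ∧ 5 ≤ D.p) := by
  rcases (Nat.dvd_prime Nat.prime_three).1 (Nat.gcd_dvd_left 3 (D.q + 1)) with h | h
  · exact Or.inl h
  · have h3 : 3 ∣ D.q + 1 := h ▸ Nat.gcd_dvd_right 3 (D.q + 1)
    refine Or.inr ⟨h, by omega, ?_⟩
    have hp3 : D.p ≠ 3 := fun e => by
      have : 3 ∣ D.q := by rw [q_def, e]; exact dvd_pow_self 3 (by have := D.hn; omega)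
      omega
    have := D.three_le_p
    have : D.p ≠ 4 := fun e => by have := D.hp; rw [e] at this; norm_num at this
    omega

theorem d_le : D.d ≤ 3 := by rcases D.d_cases with h | ⟨h, -⟩ <;> omega

theorem card_H' : D.d * Nat.card D.H = (D.q - 1) * (D.q + 1) := by
  rw [mul_comm (D.q - 1), ← Nat.sq_sub_sq, one_pow]
  exact D.card_H

theorem card_H_pos : 0 < Nat.card D.H := Nat.card_pos

/-- `(q + 1)/d` is an integer, `m`, with `|H| = m (q - 1)`. -/
theorem exists_m : ∃ m, D.d * m = D.q + 1 ∧ Nat.card D.H = m * (D.q - 1) := by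
  obtain ⟨m, hm⟩ := (Nat.gcd_dvd_right 3 (D.q + 1))
  refine ⟨m, hm.symm, ?_⟩
  have h := D.card_H'
  rw [show D.q + 1 = D.d * m from hm, mul_left_comm] at h
  rw [Nat.eq_of_mul_eq_mul_left (Nat.pos_of_ne_zero (fun e => by simp [e] at h; rcases D.d_cases with h' | ⟨h', -⟩ <;>
    omega)) h, mul_comm]

theorem coprime_H : (Nat.card D.H).Coprime D.p := by
  refine (Nat.Prime.coprime_iff_not_dvd D.hp).2 (fun h => ?_) |>.symm
  have h1 : D.p ∣ (D.q - 1) * (D.q + 1) := D.card_H' ▸ h.mul_left D.d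
  have h3 : D.p ∣ D.q := dvd_pow_self _ (by have := D.hn; omega)
  have := D.three_le_q
  rcases (Nat.Prime.dvd_mul D.hp).1 h1 with h' | h'
  · exact D.hp.not_dvd_one (by
      have := Nat.dvd_sub h3 h'
      rwa [show D.q - (D.q - 1) = 1 by omega] at this)
  · exact D.hp.not_dvd_one ((Nat.dvd_add_right h3).1 h')

theorem even_H : Even (Nat.card D.H) := by
  obtain ⟨m, hm, h⟩ := D.exists_m
  rw [h]
  obtain ⟨k, hk⟩ := D.odd_q
  exact (show Even (D.q - 1) from ⟨k, by omega⟩).mul_left m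

/-! ### Points and `U` -/

theorem b_ne : D.b ≠ D.a := D.hab.symm

theorem smul_ne {u : G} (hu : u ∈ D.U) {c : Ω} (hc : c ≠ D.a) : u • c ≠ D.a := fun e =>
  hc (smul_left_cancel u (e.trans (D.U_fix u hu).symm))

theorem exists_U {c : Ω} (hc : c ≠ D.a) : ∃ u ∈ D.U, u • D.b = c := by
  obtain ⟨u, hu, -⟩ := D.U_reg c hc
  exact ⟨u, u.2, hu⟩

theorem U_inj {u v : G} (hu : u ∈ D.U) (hv : v ∈ D.U) (h : u • D.b = v • D.b) : u = v :=
  congrArg Subtype.val ((D.U_reg _ (D.smul_ne hv D.b_ne)).unique (y₁ := ⟨u, hu⟩) (y₂ := ⟨v, hv⟩) h rfl)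

theorem eq_one_of_fix {u : G} (hu : u ∈ D.U) (h : u • D.b = D.b) : u = 1 :=
  D.U_inj hu (one_mem _) (by rw [h, one_smul])

/-- The points other than `a`. -/
noncomputable def pointEquiv : D.U ≃ {c : Ω // c ≠ D.a} :=
  Equiv.ofBijective (fun u => ⟨(u : G) • D.b, D.smul_ne u.2 D.b_ne⟩)
    ⟨fun u v h => Subtype.ext (D.U_inj u.2 v.2 (congrArg Subtype.val h)), fun c => by
      obtain ⟨u, hu, h⟩ := D.exists_U c.2
      exact ⟨⟨u, hu⟩, Subtype.ext h⟩⟩

theorem finite_points  : Finite Ω := by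
  classical
  haveI : Finite {c : Ω // c ≠ D.a} := Finite.of_equiv _ D.pointEquiv
  exact Finite.of_equiv _ (Equiv.optionSubtypeNe D.a)

theorem card_points : Nat.card Ω = D.q ^ 3 + 1 := by
  classical
  haveI : Finite {c : Ω // c ≠ D.a} := Finite.of_equiv _ D.pointEquiv
  rw [← Nat.card_congr (Equiv.optionSubtypeNe D.a), Finite.card_option, ← Nat.card_congr D.pointEquiv, D.card_U]
  rfl

theorem transitive (x y : Ω) : ∃ g : G, g • x = y := by
  obtain ⟨x', hx'⟩ : ∃ x', x ≠ x' := by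
    by_cases h : x = D.a
    · exact ⟨D.b, h ▸ D.hab⟩
    · exact ⟨D.a, h⟩
  obtain ⟨y', hy'⟩ : ∃ y', y ≠ y' := by
    by_cases h : y = D.a
    · exact ⟨D.b, h ▸ D.hab⟩
    · exact ⟨D.a, h⟩
  obtain ⟨g, hg, -⟩ := D.two hx' hy'
  exact ⟨g, hg⟩

theorem decomp {g : G} (hg : g • D.a = D.a) : ∃ u ∈ D.U, ∃ h ∈ D.H, g = u * h := by
  obtain ⟨u, hu, hub⟩ := D.exists_U (c := g • D.b) fun e =>
    D.hab (smul_left_cancel g (e.trans hg.symm)).symm
  refine ⟨u, hu, u⁻¹ * g, ⟨?_, ?_⟩, (mul_inv_cancel_left u g).symm⟩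
  · show (u⁻¹ * g) • D.a = D.a
    rw [mul_smul, hg, D.U_fix _ (inv_mem hu)]
  · show (u⁻¹ * g) • D.b = D.b
    rw [mul_smul, ← hub, inv_smul_smul]

theorem H_conj {h : G} (hh : h ∈ D.H) {u : G} (hu : u ∈ D.U) : h * u * h⁻¹ ∈ D.U :=
  D.U_norm h hh.1 u hu

theorem inv_b {h : G} (hh : h ∈ D.H) : h⁻¹ • D.b = D.b := inv_smul_eq_iff.2 hh.2.symm

theorem smul_point {h : G} (hh : h ∈ D.H) (u : G) : h • u • D.b = (h * u * h⁻¹) • D.b := by
  rw [mul_smul, mul_smul, D.inv_b hh]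

theorem smul_point_eq_iff {h : G} (hh : h ∈ D.H) {u : G} (hu : u ∈ D.U) :
    h • u • D.b = u • D.b ↔ h * u = u * h := by
  rw [D.smul_point hh, ← mul_inv_eq_iff_eq_mul]
  exact ⟨fun e => D.U_inj (D.H_conj hh hu) hu e, fun e => by rw [e]⟩

theorem exists_gen : ∃ g ∈ D.H, ∀ x ∈ D.H, ∃ k : ℕ, g ^ k = x := by
  haveI := D.cyc
  obtain ⟨g, hg⟩ := IsCyclic.exists_monoid_generator (α := ↥(stabilizer G D.a ⊓ stabilizer G D.b))
  refine ⟨g, g.2, fun x hx => ?_⟩
  obtain ⟨k, hk⟩ := Submonoid.mem_powers_iff _ _ |>.1 (hg ⟨x, hx⟩)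
  exact ⟨k, by simpa using congrArg Subtype.val hk⟩

theorem H_comm {x y : G} (hx : x ∈ D.H) (hy : y ∈ D.H) : x * y = y * x := by
  obtain ⟨g, -, hg⟩ := D.exists_gen
  obtain ⟨i, rfl⟩ := hg x hx
  obtain ⟨j, rfl⟩ := hg y hy
  rw [← pow_add, ← pow_add, add_comm]

/-- A pair stabiliser is cyclic: two of its elements of the same order generate the same subgroup. -/
theorem zpowers_eq {x y : Ω} (hxy : x ≠ y) {z z' : G} (hx : z • x = x) (hy : z • y = y) (hx' : z' • x = x)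
    (hy' : z' • y = y) (ho : orderOf z = orderOf z') : Subgroup.zpowers z = Subgroup.zpowers z' := by
  obtain ⟨g, hga, hgb⟩ := D.two D.hab hxy
  let f : G ≃* G := MulAut.conj g⁻¹
  have hmem : ∀ w : G, w • x = x → w • y = y → f w ∈ D.H := fun w h1 h2 => by
    constructor <;> show (g⁻¹ * w * g⁻¹⁻¹) • _ = _ <;> rw [inv_inv, mul_smul, mul_smul, inv_smul_eq_iff]
    · rw [hga, h1]
    · rw [hgb, h2]
  have key : Subgroup.zpowers (f z) = Subgroup.zpowers (f z') := by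
    obtain ⟨g0, hg0, hgen⟩ := D.exists_gen
    haveI := D.cyc
    have h1 : Subgroup.zpowers (⟨f z, hmem z hx hy⟩ : D.H) = Subgroup.zpowers ⟨f z', hmem z' hx' hy'⟩ := by
      haveI : IsCyclic D.H := D.cyc
      refine cyclic_eq_of_card ?_
      rw [Nat.card_zpowers, Nat.card_zpowers, Subgroup.orderOf_mk, Subgroup.orderOf_mk,
        MulEquiv.orderOf_eq, MulEquiv.orderOf_eq, ho]
    have h2 := congrArg (Subgroup.map D.H.subtype) h1
    simpa [MonoidHom.map_zpowers] using h2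
  have h3 := congrArg (Subgroup.map f.symm.toMonoidHom) key
  simpa [MonoidHom.map_zpowers] using h3

omit D in
theorem fix_of_zpowers {z z' : G} (h : Subgroup.zpowers z = Subgroup.zpowers z') {c : Ω} (hc : z • c = c) :
    z' • c = c := by
  have h1 : Subgroup.zpowers z ≤ stabilizer G c := Subgroup.zpowers_le.2 (mem_stabilizer_iff.2 hc)
  exact mem_stabilizer_iff.1 (h1 (h ▸ Subgroup.mem_zpowers z'))

/-- Elements of the same order fixing two common points fix the same points. -/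
theorem fix_iff {x y : Ω} (hxy : x ≠ y) {z z' : G} (hx : z • x = x) (hy : z • y = y) (hx' : z' • x = x)
    (hy' : z' • y = y) (ho : orderOf z = orderOf z') (c : Ω) : z • c = c ↔ z' • c = c :=
  ⟨fix_of_zpowers (D.zpowers_eq hxy hx hy hx' hy' ho),
    fix_of_zpowers (D.zpowers_eq hxy hx hy hx' hy' ho).symm⟩

/-- The centraliser in `U` of an element. -/
def cU (z : G) : Subgroup G := D.U ⊓ Subgroup.centralizer {z}

theorem mem_cU {z u : G} : u ∈ D.cU z ↔ u ∈ D.U ∧ z * u = u * z := by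
  rw [cU, Subgroup.mem_inf, Subgroup.mem_centralizer_singleton_iff]
  exact and_congr_right fun _ => eq_comm

theorem cU_fix {z : G} (hz : z ∈ D.H) {u : G} (hu : u ∈ D.cU z) : z • u • D.b = u • D.b :=
  (D.smul_point_eq_iff hz (D.mem_cU.1 hu).1).2 (D.mem_cU.1 hu).2

theorem exists_cU_of_fix {z : G} (hz : z ∈ D.H) {c : Ω} (hc : c ≠ D.a) (h : z • c = c) :
    ∃ u ∈ D.cU z, u • D.b = c := by
  obtain ⟨u, hu, rfl⟩ := D.exists_U hc
  exact ⟨u, D.mem_cU.2 ⟨hu, (D.smul_point_eq_iff hz hu).1 h⟩, rfl⟩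

/-- The fixed points other than `a` of an element of `H`. -/
noncomputable def fixEquiv {z : G} (hz : z ∈ D.H) :
    D.cU z ≃ {c : Ω // c ≠ D.a ∧ z • c = c} :=
  Equiv.ofBijective (fun u => ⟨(u : G) • D.b, D.smul_ne (D.mem_cU.1 u.2).1 D.b_ne, D.cU_fix hz u.2⟩)
    ⟨fun u v h => Subtype.ext (D.U_inj (D.mem_cU.1 u.2).1 (D.mem_cU.1 v.2).1 (congrArg Subtype.val h)),
      fun c => by
      obtain ⟨u, hu, h⟩ := D.exists_cU_of_fix hz c.2.1 c.2.2
      exact ⟨⟨u, hu⟩, Subtype.ext h⟩⟩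

end Hyp

end Cfsg.Agent.Lie.UThreeOdd
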