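import Cfsg.Agent.Lib.Lie.UThreeOdd.Points

/-!
The centraliser of `t` contains an element inducing `z ↦ 1/z` on the fixed set of `t`.
-/

set_option autoImplicit false
set_option linter.unusedSectionVars false

namespace Cfsg.Agent.Lie.UThreeOdd

open MulAction
open Hyp (conj_fix conj_fix_iff orderOf_conj')

universe u v

namespace Hyp

variable {G : Type u} {Ω : Type v} [Group G] [MulAction G Ω] [Finite G] [FaithfulSMul G Ω] (D : Hyp G Ω)
include D

theorem fix_of_cent {m : G} (hm : m * D.t = D.t * m) {c : Ω} (hc : D.t • c = c) : D.t • m • c = m • c := by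
  rw [← mul_smul, ← hm, mul_smul, hc]

/-- An element centralising `t` and fixing three fixed points of `t` fixes all of them. -/
theorem fix_all {m : G} (hm : m * D.t = D.t * m) {x y z : Ω} (hxy : x ≠ y) (hzx : z ≠ x) (hzy : z ≠ y)
    (htx : D.t • x = x) (hty : D.t • y = y) (htz : D.t • z = z) (hx : m • x = x) (hy : m • y = y)
    (hz : m • z = z) {c : Ω} (hc : D.t • c = c) : m • c = c := by
  obtain ⟨k, hka, hkb⟩ := D.two D.hab hxy
  have hk : k * D.t = D.t * k := D.cent_of_fix (by rw [hka, htx]) (by rw [hkb, hty])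
  have hk' : k⁻¹ * D.t = D.t * k⁻¹ := by
    rw [inv_mul_eq_iff_eq_mul, ← mul_assoc, hk, mul_inv_cancel_right]
  set m' := k⁻¹ * m * k with hm'
  have hfix : ∀ w : Ω, m • w = w → m' • k⁻¹ • w = k⁻¹ • w := fun w hw => by
    rw [hm', mul_smul, smul_inv_smul, mul_smul, hw]
  have hH : m' ∈ D.H := by
    constructor
    · show m' • D.a = D.a
      rw [show D.a = k⁻¹ • x by rw [← hka, inv_smul_smul], hfix x hx]
    · show m' • D.b = D.b
      rw [show D.b = k⁻¹ • y by rw [← hkb, inv_smul_smul], hfix y hy]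
  have hW : m' ∈ D.W := by
    by_contra hW
    have hza : k⁻¹ • z ≠ D.a := fun e => hzx (by rw [← hka, ← e, smul_inv_smul])
    obtain ⟨u, hu, huz⟩ := D.exists_cU_of_fix D.t_mem hza (D.fix_of_cent hk' htz)
    have h1 := D.R_fpf hH hW hu ((D.smul_point_eq_iff hH (D.mem_cU.1 hu).1).1 (by rw [huz]; exact hfix z hz))
    rw [h1, one_smul] at huz
    exact hzy (by rw [← hkb, huz, smul_inv_smul])
  have := D.W_fix hW (D.fix_of_cent hk' hc)
  rwa [hm', mul_smul, smul_inv_smul, mul_smul, smul_left_cancel_iff] at this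

end Hyp

namespace Coord

variable {G : Type u} {Ω : Type v} [Group G] [MulAction G Ω] [Finite G] [FaithfulSMul G Ω] {D : Hyp G Ω}
  {K : Type} [Field K] [Fintype K] (C : Coord D K)
include C

theorem ν_pow_fix (k : ℕ) : (C.ν ^ k) ^ D.q = C.ν ^ k := by rw [← pow_mul, mul_comm k, pow_mul, C.ν_fix]

theorem ν_pow_ne (k : ℕ) : C.ν ^ k ≠ 0 := pow_ne_zero k C.ν_ne

theorem t_fix_pt0 {z : K} (hz : z ^ D.q = z) : D.t • C.pt 0 z = C.pt 0 z := (C.fix_t hz).2 rfl

theorem g_pow_pt0 (k : ℕ) {z : K} (hz : z ^ D.q = z) : C.g ^ k • C.pt 0 z = C.pt 0 (C.ν ^ k * z) := by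
  rw [C.pow_smul_pt k hz, mul_zero]

/-- There are a square `y` and a non-square `1 + y`. -/
theorem exists_square_succ : ∃ i j : ℕ, 1 + C.ν ^ (2 * i) = C.ν ^ (2 * j + 1) := by
  classical
  obtain ⟨l, hl⟩ := D.odd_q
  set T : Finset K := Finset.univ.filter fun z : K => z ^ D.q = z with hT
  set S : Finset K := insert 0 ((Finset.range l).image fun i => C.ν ^ (2 * i)) with hS
  have hScard : S.card = l + 1 := by
    rw [hS, Finset.card_insert_of_notMem (fun h => ?_), Finset.card_image_of_injOn, Finset.card_range]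
    · intro i hi j hj hij
      simp only [Finset.coe_range, Set.mem_Iio] at hi hj
      have := pow_injOn_Iio_orderOf (x := C.ν) (by rw [C.ν_order]; show 2 * i < D.q - 1; omega)
        (by rw [C.ν_order]; show 2 * j < D.q - 1; omega) hij
      omega
    · obtain ⟨i, -, hi⟩ := Finset.mem_image.1 h
      exact C.ν_pow_ne _ hi
  have hSfix : ∀ x ∈ S, x ^ D.q = x := fun x hx => by
    rcases Finset.mem_insert.1 hx with rfl | hx
    · exact C.cj_zero
    · obtain ⟨i, -, rfl⟩ := Finset.mem_image.1 hx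
      exact C.ν_pow_fix _
  have hcardT : T.card ≤ D.q := by
    have h1 : 1 < D.q := by have := D.three_le_q; omega
    have h := Polynomial.card_le_degree_of_subset_roots (p := (Polynomial.X ^ D.q - Polynomial.X : Polynomial K))
      (Z := T) (fun z hz => by
        have hz' := (Finset.mem_filter.1 (Finset.mem_def.2 hz)).2
        rw [Polynomial.mem_roots (FiniteField.X_pow_card_sub_X_ne_zero K h1)]
        simp [sub_eq_zero, hz'])
    rwa [FiniteField.X_pow_card_sub_X_natDegree_eq K h1] at h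
  obtain ⟨x, hx⟩ : ∃ x, x ∈ S ∩ S.image (fun x => C.ν - x) := by
    by_contra hcon
    push Not at hcon
    have hdisj : Disjoint S (S.image fun x => C.ν - x) :=
      Finset.disjoint_left.2 fun x hx hx' => hcon x (Finset.mem_inter.2 ⟨hx, hx'⟩)
    have h1 : (S ∪ S.image fun x => C.ν - x) ⊆ T := fun x hx => by
      refine Finset.mem_filter.2 ⟨Finset.mem_univ _, ?_⟩
      rcases Finset.mem_union.1 hx with hx | hx
      · exact hSfix x hx
      · obtain ⟨w, hw, rfl⟩ := Finset.mem_image.1 hx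
        rw [C.cj_sub, C.ν_fix, hSfix w hw]
    have h2 := Finset.card_le_card h1
    rw [Finset.card_union_of_disjoint hdisj, Finset.card_image_of_injective _
      (fun u v h => sub_right_injective h), hScard] at h2
    have h3 := h2.trans hcardT
    omega
  obtain ⟨hx1, hx2⟩ := Finset.mem_inter.1 hx
  obtain ⟨y, hy, hyx⟩ := Finset.mem_image.1 hx2
  have hsq : ∀ i, C.ν ≠ C.ν ^ (2 * i) := fun i h => by
    have h' : C.ν ^ 1 = C.ν ^ (2 * i) := by rw [pow_one]; exact h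
    rw [(orderOf_pos_iff.1 (by rw [C.ν_order]; have := D.three_le_q; omega)).pow_eq_pow_iff_modEq, C.ν_order] at h'
    have h3 : 1 % 2 = 2 * i % 2 := Nat.ModEq.of_dvd (show 2 ∣ D.q - 1 from ⟨l, by omega⟩) h'
    omega
  rcases Finset.mem_insert.1 hx1 with rfl | hx1
  · rcases Finset.mem_insert.1 hy with rfl | hy
    · exact absurd (by linear_combination hyx) C.ν_ne
    · obtain ⟨j, -, rfl⟩ := Finset.mem_image.1 hy
      exact absurd (sub_eq_zero.1 hyx) (hsq j)
  · obtain ⟨i, hi, rfl⟩ := Finset.mem_image.1 hx1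
    rcases Finset.mem_insert.1 hy with rfl | hy
    · exact absurd ((sub_zero _).symm.trans hyx) (hsq i)
    · obtain ⟨j, -, rfl⟩ := Finset.mem_image.1 hy
      rw [Finset.mem_range] at hi
      -- `ν = ν^(2i) + ν^(2j)`: divide by `ν^(2i)`
      refine ⟨j + (l - i), l - i, ?_⟩
      have h1 : C.ν ^ (2 * l) = 1 := by rw [show 2 * l = D.q - 1 by omega, ← C.ν_order, pow_orderOf_eq_one]
      have h2 : C.ν ^ (2 * i) * C.ν ^ (2 * (l - i)) = 1 := by
        rw [← pow_add, ← mul_add, Nat.add_sub_cancel' hi.le, h1]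
      rw [mul_add, pow_add, pow_succ]
      linear_combination -(C.ν ^ (2 * (l - i))) * hyx - h2

/-- An element swapping `a` and `b` that induces `z ↦ z⁻¹` on the fixed set of `t`. -/
theorem exists_inv : ∃ j : G, j * D.t = D.t * j ∧ j • D.a = D.b ∧ j • D.b = D.a ∧
    ∀ z : K, z ^ D.q = z → z ≠ 0 → j • C.pt 0 z = C.pt 0 z⁻¹ := by
  classical
  have hq := D.three_le_q
  have h1' : (1 : K) ^ D.q = 1 := one_pow _
  have hm1 : (-1 : K) ^ D.q = -1 := C.fix_neg h1'
  obtain ⟨k0, hk0⟩ := C.exists_ν_pow hm1 (neg_ne_zero.2 one_ne_zero)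
  set τ := C.g ^ k0 with hτ
  have hτH : τ ∈ D.H := pow_mem C.g_mem _
  have hτpt : ∀ z : K, z ^ D.q = z → τ • C.pt 0 z = C.pt 0 (-z) := fun z hz => by
    rw [hτ, C.g_pow_pt0 k0 hz, hk0, neg_one_mul]
  have hτ2 : τ * τ ∈ D.W := by
    rw [hτ, ← pow_add, C.mem_W_iff, pow_add, hk0, neg_mul_neg, one_mul]
  have hne : C.pt 0 1 ≠ C.pt 0 (-1) := fun h => by
    have := (C.pt_inj h1' hm1 h).2
    rw [eq_neg_iff_add_eq_zero, one_add_one_eq_two] at this
    exact C.two_ne this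
  obtain ⟨g1, hga, hgb⟩ := D.two D.hab hne
  have hg1 : g1 * D.t = D.t * g1 :=
    D.cent_of_fix (by rw [hga, C.t_fix_pt0 h1']) (by rw [hgb, C.t_fix_pt0 hm1])
  set j := g1 * τ * g1⁻¹ with hj
  have hjt : j * D.t = D.t * j := by
    have hg1' : g1⁻¹ * D.t = D.t * g1⁻¹ := by
      rw [inv_mul_eq_iff_eq_mul, ← mul_assoc, hg1, mul_inv_cancel_right]
    calc j * D.t = g1 * (τ * D.t) * g1⁻¹ := by rw [hj, mul_assoc _ g1⁻¹, hg1']; group
      _ = g1 * D.t * τ * g1⁻¹ := by rw [D.H_comm_t hτH]; group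
      _ = _ := by rw [hg1, hj]; group
  have hj1 : j • C.pt 0 1 = C.pt 0 1 := hga ▸ conj_fix hτH.1
  have hjm1 : j • C.pt 0 (-1) = C.pt 0 (-1) := hgb ▸ conj_fix hτH.2
  have hjj : ∀ c : Ω, D.t • c = c → j • j • c = c := fun c hc => by
    rw [← mul_smul, hj, show g1 * τ * g1⁻¹ * (g1 * τ * g1⁻¹) = g1 * (τ * τ) * g1⁻¹ by group,
      D.W_central hg1 hτ2, mul_inv_cancel_right, D.W_fix hτ2 hc]
  have hτfix : ∀ c : Ω, D.t • c = c → τ • c = c → c = D.a ∨ c = D.b := by
    intro c hc h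
    by_cases hca : c = D.a
    · exact Or.inl hca
    obtain ⟨z, hz, rfl⟩ := C.exists_pt0 hca hc
    rw [hτpt z hz] at h
    have := (C.pt_inj (C.fix_neg hz) hz h).2
    rw [neg_eq_iff_add_eq_zero, ← two_mul, mul_eq_zero] at this
    rw [this.resolve_left C.two_ne, C.pt_zero]
    exact Or.inr rfl
  have hcomm : ∀ c : Ω, D.t • c = c → τ • j • c = j • τ • c := by
    intro c hc
    have hord : orderOf (τ * j * τ⁻¹) = orderOf j := orderOf_conj' τ j
    have hτ' : ∀ z : K, z ^ D.q = z → τ⁻¹ • C.pt 0 z = C.pt 0 (-z) := fun z hz => by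
      rw [inv_smul_eq_iff, hτpt _ (C.fix_neg hz), neg_neg]
    have e1 : (τ * j * τ⁻¹) • C.pt 0 1 = C.pt 0 1 := by
      rw [mul_smul, mul_smul, hτ' _ h1', hjm1, hτpt _ hm1, neg_neg]
    have e2 : (τ * j * τ⁻¹) • C.pt 0 (-1) = C.pt 0 (-1) := by
      rw [mul_smul, mul_smul, hτ' _ hm1, neg_neg, hj1, hτpt _ h1']
    have hz := D.zpowers_eq hne e1 e2 hj1 hjm1 hord
    obtain ⟨i, hi⟩ := Subgroup.mem_zpowers_iff.1
      (hz ▸ Subgroup.mem_zpowers (τ * j * τ⁻¹) : τ * j * τ⁻¹ ∈ Subgroup.zpowers j)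
    have hact : ∀ i : ℤ, (∀ c : Ω, D.t • c = c → (j ^ i) • c = c) ∨
        ∀ c : Ω, D.t • c = c → (j ^ i) • c = j • c := by
      intro i
      induction i using Int.induction_on with
      | zero => exact Or.inl fun c _ => by rw [zpow_zero, one_smul]
      | succ k ih =>
        rcases ih with h | h
        · exact Or.inr fun c hc => by rw [zpow_add_one, mul_smul, h _ (D.fix_of_cent hjt hc)]
        · exact Or.inl fun c hc => by rw [zpow_add_one, mul_smul, h _ (D.fix_of_cent hjt hc), hjj c hc]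
      | pred k ih =>
        have hj' : ∀ c : Ω, D.t • c = c → j⁻¹ • c = j • c := fun c hc => inv_smul_eq_iff.2 (hjj c hc).symm
        rcases ih with h | h
        · exact Or.inr fun c hc => by rw [zpow_sub_one, mul_smul, hj' c hc, h _ (D.fix_of_cent hjt hc)]
        · exact Or.inl fun c hc => by
            rw [zpow_sub_one, mul_smul, hj' c hc, h _ (D.fix_of_cent hjt hc), hjj c hc]
    have hτc : D.t • τ • c = τ • c := D.fix_of_cent (D.H_comm_t hτH) hc
    have e3 : (j ^ i) • τ • c = τ • j • c := by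
      rw [hi, mul_smul, mul_smul, inv_smul_smul]
    rcases hact i with h | h
    · -- then `j` fixes `c`
      rw [h _ hτc, smul_left_cancel_iff, eq_comm] at e3
      rw [e3]
      by_contra hne'
      have h0 : ∀ d : Ω, D.t • d = d → j • d = d := fun d hd => by
        have e4 : (j ^ i) • τ • d = τ • j • d := by rw [hi, mul_smul, mul_smul, inv_smul_smul]
        rw [h _ (D.fix_of_cent (D.H_comm_t hτH) hd), smul_left_cancel_iff] at e4
        exact e4.symm
      exact hne' (h0 _ hτc).symm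
    · rw [h _ hτc] at e3
      exact e3.symm
  have hjnt : ¬ (j • D.a = D.a ∧ j • D.b = D.b) := by
    intro h
    have h2 : ∀ {c : Ω}, D.t • c = c → j • c = c := fun {c} hc => D.fix_all hjt D.hab (C.pt_ne h1') (fun e => by
      rw [← C.pt_zero] at e
      exact one_ne_zero (C.pt_inj h1' C.cj_zero e).2) D.t_mem.1 D.t_mem.2 (C.t_fix_pt0 h1') h.1 h.2 hj1 hc
    have h3 : ∀ c : Ω, D.t • c = c → τ • c = c := fun c hc => by
      have e := h2 (D.fix_of_cent hg1 hc)
      rwa [hj, mul_smul, inv_smul_smul, mul_smul, smul_left_cancel_iff] at e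
    have e := h3 _ (C.t_fix_pt0 h1')
    rw [hτpt 1 h1'] at e
    exact hne e.symm
  have hja0 := hτfix _ (D.fix_of_cent hjt D.t_mem.1) (by rw [hcomm _ D.t_mem.1, hτH.1])
  have hjb0 := hτfix _ (D.fix_of_cent hjt D.t_mem.2) (by rw [hcomm _ D.t_mem.2, hτH.2])
  have hja : j • D.a = D.b := by
    refine hja0.resolve_left fun h => hjnt ⟨h, hjb0.resolve_left fun h' => ?_⟩
    exact D.hab (smul_left_cancel j (h.trans h'.symm))
  have hjb : j • D.b = D.a := by
    refine hjb0.resolve_right fun h => ?_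
    exact D.hab (smul_left_cancel j (hja.trans h.symm))
  -- the exponent
  have hgj : j * C.g * j⁻¹ ∈ D.H := by
    constructor <;> show (j * C.g * j⁻¹) • _ = _
    · rw [mul_smul, mul_smul, inv_smul_eq_iff.2 hjb.symm, C.g_mem.2, hjb]
    · rw [mul_smul, mul_smul, inv_smul_eq_iff.2 hja.symm, C.g_mem.1, hja]
  obtain ⟨e, he⟩ := C.g_gen _ hgj
  have hφ : ∀ k : ℕ, j • C.pt 0 (C.ν ^ k) = C.pt 0 (C.ν ^ (e * k)) := fun k => by
    have h := C.g_pow_pt0 k h1'
    rw [mul_one] at h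
    rw [← h, ← mul_smul, show j * C.g ^ k = C.g ^ (e * k) * j by
      rw [pow_mul, he, conj_pow]; group, mul_smul, hj1, C.g_pow_pt0 _ h1', mul_one]
  have hφj : ∀ k : ℕ, C.ν ^ (e * (e * k)) = C.ν ^ k := fun k => by
    have h := hjj _ (C.t_fix_pt0 (C.ν_pow_fix k))
    rw [hφ, hφ] at h
    exact (C.pt_inj (C.ν_pow_fix _) (C.ν_pow_fix _) h).2
  have hsign : ∀ k : ℕ, C.ν ^ (e * k) * C.ν ^ k = 1 ∨ C.ν ^ (e * k) * C.ν ^ k = -1 := by
    intro k
    set u := C.ν ^ (e * k) * C.ν ^ k with hu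
    have hu' : u = C.ν ^ (e * k + k) := (pow_add _ _ _).symm
    have hfix : j • C.pt 0 u = C.pt 0 u := by
      rw [hu', hφ, mul_add, pow_add, hφj k, pow_add, mul_comm]
    have huq : u ^ D.q = u := hu' ▸ C.ν_pow_fix _
    by_contra hcon
    push Not at hcon
    have h0 := D.fix_all hjt hne (fun h => hcon.1 (C.pt_inj huq h1' h).2)
      (fun h => hcon.2 (C.pt_inj huq hm1 h).2) (C.t_fix_pt0 h1') (C.t_fix_pt0 hm1) (C.t_fix_pt0 huq) hj1 hjm1
      hfix D.t_mem.1
    exact D.hab.symm (hja.symm.trans h0)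
  rcases hsign 1 with h1 | h1
  · refine ⟨j, hjt, hja, hjb, fun z hz hz0 => ?_⟩
    obtain ⟨k, rfl⟩ := C.exists_ν_pow hz hz0
    rw [hφ]
    congr 1
    refine eq_inv_of_mul_eq_one_left ?_
    rw [mul_one, pow_one] at h1
    rw [pow_mul, ← mul_pow, h1, one_pow]
  exfalso
  rw [mul_one, pow_one] at h1
  have hφ' : ∀ k : ℕ, j • C.pt 0 (C.ν ^ k) = C.pt 0 ((-1) ^ k / C.ν ^ k) := fun k => by
    rw [hφ]
    congr 1
    rw [eq_div_iff (C.ν_pow_ne k), pow_mul, ← mul_pow, h1]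
  set f := C.P 0 1 * j * C.P 0 (-1) * j * C.P 0 1 * j with hf
  have hP1a : ∀ v : K, v ^ D.q = v → C.P 0 v • D.a = D.a := fun v hv => D.U_fix _ (C.P_mem _ _ hv)
  have hPpt : ∀ v z : K, v ^ D.q = v → z ^ D.q = z → C.P 0 v • C.pt 0 z = C.pt 0 (v + z) := fun v z hv hz => by
    rw [C.P_smul_pt hv hz, add_zero, C.A_zero_right, add_zero]
  have hb0 : D.b = C.pt 0 0 := C.pt_zero.symm
  have hfa : f • D.a = D.a := by
    rw [hf]; simp only [mul_smul]
    rw [hja, hb0, hPpt _ _ h1' C.cj_zero, add_zero, hj1, hPpt _ _ hm1 h1', neg_add_cancel, ← hb0, hjb, hP1a _ h1']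
  have hfb : f • D.b = D.b := by
    rw [hf]; simp only [mul_smul]
    rw [hjb, hP1a _ h1', hja, hb0, hPpt _ _ hm1 C.cj_zero, add_zero, hjm1, hPpt _ _ h1' hm1, add_neg_cancel]
  obtain ⟨kf, hkf⟩ := C.g_gen f ⟨hfa, hfb⟩
  have hlin : ∀ z : K, z ^ D.q = z → f • C.pt 0 z = C.pt 0 (C.ν ^ kf * z) := fun z hz => by
    rw [← hkf, C.g_pow_pt0 kf hz]
  have hlam : C.ν ^ kf = -1 := by
    have h := hlin (-1) hm1
    rw [hf] at h
    simp only [mul_smul] at h
    rw [hjm1, hPpt _ _ h1' hm1, add_neg_cancel, ← hb0, hjb, hP1a _ hm1, hja, hb0, hPpt _ _ h1' C.cj_zero,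
      add_zero] at h
    have h2 := (C.pt_inj h1' (fix_mul C (C.ν_pow_fix kf) hm1) h).2
    linear_combination h2
  obtain ⟨i, i', hi⟩ := C.exists_square_succ
  set y := C.ν ^ (2 * i) with hy
  have hy0 : y ≠ 0 := C.ν_pow_ne _
  have hyq : y ^ D.q = y := C.ν_pow_fix _
  have h1y : (1 + y) ≠ 0 := hi ▸ C.ν_pow_ne _
  have hyinv : y⁻¹ ^ D.q = y⁻¹ := by rw [inv_pow, hyq]
  have hjy : j • C.pt 0 y⁻¹ = C.pt 0 y := by
    have h := hjj _ (C.t_fix_pt0 hyq)
    rwa [show j • C.pt 0 y = C.pt 0 y⁻¹ by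
      rw [hy, hφ', pow_mul, neg_one_sq, one_pow, one_div]] at h
  have hj1y : j • C.pt 0 (1 + y) = C.pt 0 (-1 / (1 + y)) := by
    rw [hi, hφ', pow_succ (-1 : K), pow_mul, neg_one_sq, one_pow, one_mul]
  have hwq : (-1 / (1 + y)) ^ D.q = -1 / (1 + y) := by rw [div_pow, hm1, C.fix_add h1' hyq]
  have hvq : (-1 + -1 / (1 + y)) ^ D.q = -1 + -1 / (1 + y) := C.fix_add hm1 hwq
  have h := hlin y⁻¹ hyinv
  rw [hf] at h
  simp only [mul_smul] at h
  rw [hjy, hPpt _ _ h1' hyq, hj1y, hPpt _ _ hm1 hwq, hlam] at h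
  by_cases hv : -1 + -1 / (1 + y) = 0
  · rw [hv, ← hb0, hjb, hP1a _ h1'] at h
    exact C.pt_ne (C.fix_mul hm1 hyinv) h.symm
  obtain ⟨k, hk⟩ := C.exists_ν_pow hvq hv
  rw [← hk, hφ'] at h
  have hsq : ((-1 : K) ^ k / C.ν ^ k) ^ D.q = (-1) ^ k / C.ν ^ k := by
    rw [div_pow, C.ν_pow_fix, ← pow_mul, mul_comm k, pow_mul, hm1]
  rw [hPpt _ _ h1' hsq] at h
  have h2 := (C.pt_inj (C.fix_add h1' hsq) (C.fix_mul hm1 hyinv) h).2
  rw [hk] at h2
  have hmul : (-1 + -1 / (1 + y)) * (1 + y) = -(2 + y) := by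
    rw [add_mul, div_mul_cancel₀ _ h1y]; ring
  have h3 : ∀ σ : K, 1 + σ / (-1 + -1 / (1 + y)) = -1 * y⁻¹ → -(2 + y) + σ * y = 0 := fun σ e => by
    rw [← hmul]
    have hgen : ∀ v : K, v ≠ 0 → 1 + σ / v = -1 * y⁻¹ → v * (1 + y) + σ * y = 0 := fun v hv e => by
      field_simp at e
      linear_combination e
    exact hgen _ hv e
  rcases neg_one_pow_eq_or K k with e0 | e0 <;> rw [e0] at h2
  · exact C.two_ne (by linear_combination -(h3 1 h2))
  · exact h1y (mul_left_cancel₀ C.two_ne (by linear_combination -(h3 (-1) h2)))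

end Coord

end Cfsg.Agent.Lie.UThreeOdd
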