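import Cfsg.Agent.Lib.Classical.Unit

/-!
The interface between the geometric analysis of a split BN-pair of rank one of odd unitary type and the
identification with `PSU₃(q)`: coordinates of the unital on the regular subgroup `U`, and the action of one element
exchanging `a` and `b`.
-/

set_option autoImplicit false

namespace Cfsg.Agent.Lie.UThreeOdd

open Cfsg.Agent.Classical

variable (G : Type*) (Ω : Type*) [Group G] [MulAction G Ω] {K : Type} [Field K] [Fintype K] {q : ℕ}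

/-- Coordinates of the unital. The point `x • b` has coordinates `(-Δ x, θ x, 1)`, the point `a` has `(1, 0, 0)`,
and `w` acts as `(x, y, z) ↦ (γ * cj γ * z, γ * y, x)` up to a scalar. -/
structure Unital (hF : Fintype.card K = q ^ 2) where
  a : Ω
  b : Ω
  hab : a ≠ b
  U : Subgroup G
  w : G
  γ : K
  θ : G → K
  Δ : G → K
  U_fix : ∀ x ∈ U, x • a = a
  U_reg : ∀ c : Ω, c ≠ a → ∃! x : U, (x : G) • b = c
  θ_mul : ∀ x ∈ U, ∀ y ∈ U, θ (x * y) = θ x + θ y
  Δ_mul : ∀ x ∈ U, ∀ y ∈ U, Δ (x * y) = Δ x + Δ y + qFrob hF (θ x) * θ y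
  norm : ∀ x ∈ U, Δ x + qFrob hF (Δ x) = θ x * qFrob hF (θ x)
  inj : ∀ x ∈ U, ∀ y ∈ U, θ x = θ y → Δ x = Δ y → x = y
  surj : ∀ u η : K, η + qFrob hF η = u * qFrob hF u → ∃ x ∈ U, θ x = u ∧ Δ x = η
  γ_ne : γ ≠ 0
  w_a : w • a = b
  w_b : w • b = a
  w_act : ∀ x ∈ U, x ≠ 1 →
    ∃ y ∈ U, w • x • b = y • b ∧ θ y = -(γ * θ x) / Δ x ∧ Δ y = γ * qFrob hF γ / Δ x
  gen : Subgroup.closure ((U : Set G) ∪ (fun x => w * x * w⁻¹) '' (U : Set G)) = ⊤

end Cfsg.Agent.Lie.UThreeOdd
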