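import Cfsg.Agent.Lib.Lie.UThreeOdd.Pencil

/-!
The coordinates of the unital: the blocks through `b`, and the element inverting the coordinate as
`(ϑ, Δ) ↦ (-γ ϑ/Δ, γ γ̄/Δ)`.
-/

set_option autoImplicit false
set_option linter.unusedSectionVars false

namespace Cfsg.Agent.Lie.UThreeOdd

open MulAction
open Hyp (conj_fix conj_fix_iff orderOf_conj')

universe u v

/-- The constant `J` and the orientation `τ` of the form. -/
structure Coord.Shape {G : Type u} {Ω : Type v} [Group G] [MulAction G Ω] [Finite G] [FaithfulSMul G Ω]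
    {D : Hyp G Ω} {K : Type} [Field K] [Fintype K] (C : Coord D K) where
  J : K
  τ : K →+* K
  J_ne : J ≠ 0
  J_skew : J ^ D.q = -J
  f_eq : ∀ x, x ≠ 0 → C.f x = J * (x * x ^ D.q)
  τ_τ : ∀ x, τ (τ x) = x
  τ_norm : ∀ x, τ x * τ x ^ D.q = x * x ^ D.q
  τ_form : ∀ x y, C.A x y + J * (x ^ D.q * y + x * y ^ D.q) = 2 * J * (τ x ^ D.q * τ y)

namespace Coord

variable {G : Type u} {Ω : Type v} [Group G] [MulAction G Ω] [Finite G] [FaithfulSMul G Ω] {D : Hyp G Ω}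
  {K : Type} [Field K] [Fintype K] (C : Coord D K)
include C

theorem exists_shape : Nonempty C.Shape := by
  obtain ⟨J, hJ0, hJ, hf, hc | hc⟩ := C.exists_J
  · exact ⟨⟨J, RingHom.id K, hJ0, hJ, hf, fun _ => rfl, fun _ => rfl, fun x y => by
      simp only [A, hc, RingHom.id_apply]; ring⟩⟩
  · haveI := Fact.mk D.hp
    haveI := C.charP
    have e : ∀ x : K, iterateFrobenius K D.p D.n x = x ^ D.q := fun x => iterateFrobenius_def (R := K) _ _ x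
    exact ⟨⟨J, iterateFrobenius K D.p D.n, hJ0, hJ, hf, fun x => by rw [e, e, C.cj_cj], fun x => by
      rw [e, C.cj_cj, mul_comm], fun x y => by
      rw [e, e, C.cj_cj]
      simp only [A, hc]; ring⟩⟩

theorem g_pow_conj_U {k : ℕ} {x : G} (hx : x ∈ D.U) : C.g ^ k * x * (C.g ^ k)⁻¹ ∈ D.U :=
  D.H_conj (pow_mem C.g_mem k) hx

variable (S : C.Shape)
include S

theorem twoJ_ne : 2 * S.J ≠ 0 := mul_ne_zero C.two_ne S.J_ne

theorem twoJ_skew : (2 * S.J) ^ D.q = -(2 * S.J) := by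
  rw [mul_pow, S.J_skew, show (2 : K) ^ D.q = 2 by
    rw [show (2 : K) = 1 + 1 by norm_num]; exact C.fix_add (one_pow _) (one_pow _)]
  ring

theorem norm_fix (x : K) : (x * x ^ D.q) ^ D.q = x * x ^ D.q := by rw [mul_pow, C.cj_cj, mul_comm]

/-- The second unital coordinate. -/
def dd (θ z : K) : K := (z + S.J * (θ * θ ^ D.q)) / (2 * S.J)

theorem dd_spec (θ z : K) : 2 * S.J * C.dd S θ z = z + S.J * (θ * θ ^ D.q) :=
  mul_div_cancel₀ _ (C.twoJ_ne S)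

theorem dd_norm {θ z : K} (hz : z ^ D.q = z) :
    C.dd S θ z + C.dd S θ z ^ D.q = S.τ θ * S.τ θ ^ D.q := by
  refine mul_left_cancel₀ (C.twoJ_ne S) ?_
  have e := congrArg (· ^ D.q) (C.dd_spec S θ z)
  rw [mul_pow, C.twoJ_skew S, C.cj_add, mul_pow S.J, S.J_skew, C.norm_fix S, hz] at e
  rw [S.τ_norm]
  linear_combination C.dd_spec S θ z - e

theorem dl_dd {θ z : K} (hz : z ^ D.q = z) (hθ : θ ≠ 0) : C.dl (C.pt θ z) = 2 * S.J * C.dd S θ z := by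
  rw [C.dl_pt hz hθ, S.f_eq θ hθ, C.dd_spec]; ring

theorem dd_ne {θ z : K} (hz : z ^ D.q = z) (hθ : θ ≠ 0) : C.dd S θ z ≠ 0 := fun h => by
  have e := C.dl_ne (C.moved hz hθ)
  rw [C.dl_dd S hz hθ, h, mul_zero] at e
  exact e C.cj_zero

/-- The image of a point moved by `t` under the inverting element. -/
theorem jv_image {θ z : K} (hz : z ^ D.q = z) (hθ : θ ≠ 0) : ∃ θ' z' : K, z' ^ D.q = z' ∧ θ' ≠ 0 ∧
    C.jv • C.pt θ z = C.pt θ' z' ∧ C.dd S θ' z' = ((2 * S.J) ^ 2)⁻¹ / C.dd S θ z := by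
  have hm := C.moved hz hθ
  have hm' : D.t • C.jv • C.pt θ z ≠ C.jv • C.pt θ z := fun e => hm (by
    rwa [← mul_smul, ← C.jv_comm, mul_smul, smul_left_cancel_iff] at e)
  obtain ⟨θ', z', hz', e⟩ := C.exists_pt (c := C.jv • C.pt θ z) (fun h => hm' (h ▸ D.t_mem.1))
  have hθ' : θ' ≠ 0 := fun h => hm' (by rw [← e, h]; exact C.t_fix_pt0 hz')
  refine ⟨θ', z', hz', hθ', e.symm, ?_⟩
  have h1 := C.dl_smul C.jv_mem hm
  rw [← e, C.mob_jv, C.dl_dd S hz hθ, C.dl_dd S hz' hθ'] at h1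
  have h0 := C.dd_ne S hz hθ
  have h2 := C.twoJ_ne S
  calc C.dd S θ' z' = (2 * S.J)⁻¹ * (2 * S.J * C.dd S θ' z') := by rw [inv_mul_cancel_left₀ h2]
    _ = _ := by rw [h1]; field_simp

/-- The parameter of the block through `b` and a point. -/
def par (θ z : K) : K := (-C.dd S θ z / S.τ θ) ^ D.q

theorem par_ne {θ z : K} (hz : z ^ D.q = z) (hθ : θ ≠ 0) : C.par S θ z ≠ 0 :=
  pow_ne_zero _ (div_ne_zero (neg_ne_zero.2 (C.dd_ne S hz hθ)) ((map_ne_zero S.τ).2 hθ))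

theorem par_cond {θ z : K} (hz : z ^ D.q = z) (hθ : θ ≠ 0) :
    (C.par S θ z + S.τ θ) * (C.par S θ z + S.τ θ) ^ D.q = C.par S θ z * C.par S θ z ^ D.q := by
  have hτ : S.τ θ ≠ 0 := (map_ne_zero S.τ).2 hθ
  have hτq : S.τ θ ^ D.q ≠ 0 := pow_ne_zero _ hτ
  have e := C.dd_norm S (θ := θ) hz
  rw [C.cj_add, par, C.cj_cj, div_pow, C.cj_neg]
  field_simp
  linear_combination -(S.τ θ * S.τ θ ^ D.q) * e

theorem par_spec {θ z : K} (hθ : θ ≠ 0) :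
    C.dd S θ z = -(C.par S θ z ^ D.q * S.τ θ) := by
  rw [par, C.cj_cj, div_mul_cancel₀ _ ((map_ne_zero S.τ).2 hθ), neg_neg]

/-- The point on the block of `u` with first coordinate `w`. -/
def bp (u w : K) : Ω := C.pt (S.τ w) (-(2 * S.J * (u ^ D.q * w)) - S.J * (w * w ^ D.q))

theorem bp_fix {u w : K} (h : (u + w) * (u + w) ^ D.q = u * u ^ D.q) :
    (-(2 * S.J * (u ^ D.q * w)) - S.J * (w * w ^ D.q)) ^ D.q =
      -(2 * S.J * (u ^ D.q * w)) - S.J * (w * w ^ D.q) := by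
  rw [C.cj_add] at h
  rw [C.cj_sub, C.cj_neg, mul_pow (2 * S.J), C.twoJ_skew S, mul_pow, C.cj_cj, mul_pow S.J, S.J_skew, C.norm_fix S]
  linear_combination (2 * S.J) * h

theorem bp_dd (u w : K) : C.dd S (S.τ w) (-(2 * S.J * (u ^ D.q * w)) - S.J * (w * w ^ D.q)) = -(u ^ D.q * w) := by
  refine mul_left_cancel₀ (C.twoJ_ne S) ?_
  rw [C.dd_spec, S.τ_norm]
  ring

theorem bp_par {u w : K} (hw : w ≠ 0) :
    C.par S (S.τ w) (-(2 * S.J * (u ^ D.q * w)) - S.J * (w * w ^ D.q)) = u := by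
  rw [par, C.bp_dd, S.τ_τ, neg_neg, mul_div_cancel_right₀ _ hw, C.cj_cj]

theorem bp_of_pt {θ z : K} (hθ : θ ≠ 0) : C.pt θ z = C.bp S (C.par S θ z) (S.τ θ) := by
  rw [bp, S.τ_τ]
  congr 1
  have e := C.dd_spec S θ z
  rw [C.par_spec S hθ] at e
  rw [S.τ_norm]
  linear_combination -e

/-- The block through `b` of parameter `u`. -/
theorem exists_block {u : K} (hu : u ≠ 0) :
    ∃ z : G, orderOf z = 2 ∧ z • D.b = D.b ∧
      ∀ w : K, w ≠ 0 → (u + w) * (u + w) ^ D.q = u * u ^ D.q → z • C.bp S u w = C.bp S u w := by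
  have hτu : S.τ u ≠ 0 := (map_ne_zero S.τ).2 hu
  have hf : ∀ w : K, (u + w) * (u + w) ^ D.q = u * u ^ D.q →
      S.τ (u + w) ≠ 0 ∧ C.f (S.τ (u + w)) = C.f (S.τ u) ∧
      C.bp S u w = C.pt (S.τ (u + w) - S.τ u) (C.f (S.τ u) - C.f (S.τ (u + w)) - C.A (S.τ u) (S.τ (u + w))) := by
    intro w h
    have h0 : S.τ (u + w) ≠ 0 := (map_ne_zero S.τ).2 fun e => by
      rw [e, zero_mul, eq_comm] at h
      exact mul_ne_zero hu (pow_ne_zero _ hu) h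
    have he : C.f (S.τ (u + w)) = C.f (S.τ u) := by
      rw [S.f_eq _ h0, S.f_eq _ hτu, S.τ_norm, S.τ_norm, h]
    refine ⟨h0, he, ?_⟩
    rw [he, sub_self, zero_sub, bp, map_add, add_sub_cancel_left]
    congr 1
    have e1 := S.τ_form (S.τ u) (S.τ u + S.τ w)
    rw [map_add, S.τ_τ, S.τ_τ, C.cj_add] at e1
    have e2 := S.τ_norm u
    have e3 : (S.τ u + S.τ w) * (S.τ u ^ D.q + S.τ w ^ D.q) = u * u ^ D.q := by
      rw [← h, ← C.cj_add, ← map_add, S.τ_norm]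
    have e4 := S.τ_norm w
    linear_combination e1 - S.J * (e3 + e2 - e4)
  have hF : ∀ w : K, (u + w) * (u + w) ^ D.q = u * u ^ D.q →
      (C.f (S.τ (u + w)) - C.f (S.τ u)) ^ D.q = C.f (S.τ (u + w)) - C.f (S.τ u) := fun w h => by
    rw [(hf w h).2.1, sub_self, C.cj_zero]
  have h2 : (u + -2 * u) * (u + -2 * u) ^ D.q = u * u ^ D.q := by
    rw [show u + -2 * u = -u by ring, C.cj_neg]; ring
  obtain ⟨z, hz, hzb, hzt, -⟩ := C.pencil_block hτu (hf _ h2).1 (hF _ h2)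
  refine ⟨z, hz, hzb, fun w hw h => ?_⟩
  obtain ⟨z', hz', hzb', hzt', hzw⟩ := C.pencil_block hτu (hf w h).1 (hF w h)
  have hne : D.b ≠ (C.P (S.τ u) 0)⁻¹ • D.t • C.pt (S.τ u) 0 := fun e => by
    have e' := congrArg (C.P (S.τ u) 0 • ·) e
    simp only [smul_inv_smul] at e'
    exact C.moved C.cj_zero hτu e'.symm
  rw [D.invol_eq hne hz hz' hzb hzt hzb' hzt', (hf w h).2.2]
  exact hzw

theorem card_fix_invol {z : G} (ho : orderOf z = 2) {x y : Ω} (hxy : x ≠ y) (hx : z • x = x) (hy : z • y = y) :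
    Nat.card {c : Ω // z • c = c} = D.q + 1 := by
  obtain ⟨g, hga, hgb⟩ := D.two D.hab hxy
  have e : g * D.t * g⁻¹ = z := D.invol_eq hxy (by rw [orderOf_conj', D.t_order]) ho
    (hga ▸ conj_fix D.t_mem.1) (hgb ▸ conj_fix D.t_mem.2) hx hy
  subst e
  rw [Nat.card_congr (show {c : Ω // (g * D.t * g⁻¹) • c = c} ≃ {c : Ω // D.t • c = c} from
    { toFun := fun x => ⟨g⁻¹ • x.1, (conj_fix_iff).1 x.2⟩
      invFun := fun x => ⟨g • x.1, conj_fix x.2⟩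
      left_inv := fun x => Subtype.ext (smul_inv_smul g x.1)
      right_inv := fun x => Subtype.ext (inv_smul_smul g x.1) }), D.card_fix D.t_mem]
  exact congrArg (· + 1) D.card_R

theorem exists_circle {u : K} (hu : u ≠ 0) : ∃ f : Fin (D.q + 1) → K, Function.Injective f ∧ f 0 = 0 ∧
    ∀ i, (u + f i) * (u + f i) ^ D.q = u * u ^ D.q := by
  classical
  obtain ⟨g, hg⟩ := IsCyclic.exists_ofOrder_eq_natCard (α := Kˣ)
  rw [Nat.card_units, Nat.card_eq_fintype_card, C.card] at hg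
  have hsq : D.q ^ 2 - 1 = (D.q + 1) * (D.q - 1) := by rw [← Nat.sq_sub_sq, one_pow]
  have hg' : orderOf (g : K) = (D.q + 1) * (D.q - 1) := by rw [orderOf_units, hg, hsq]
  set η := (g : K) ^ (D.q - 1) with hη
  have hq := D.three_le_q
  have hηo : orderOf η = D.q + 1 := by
    rw [hη, orderOf_pow' _ (by omega), hg', Nat.gcd_eq_right (dvd_mul_left _ _), Nat.mul_div_cancel _ (by omega)]
  have hη1 : η * η ^ D.q = 1 := by rw [← pow_succ', ← hηo, pow_orderOf_eq_one]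
  refine ⟨fun i => u * η ^ (i : ℕ) - u, fun i j e => Fin.ext ?_, by simp, fun i => ?_⟩
  · exact pow_injOn_Iio_orderOf (by rw [hηo]; exact i.2) (by rw [hηo]; exact j.2)
      (mul_left_cancel₀ hu (sub_left_injective e))
  · rw [add_sub_cancel, mul_pow, pow_right_comm η,
      show u * η ^ (i : ℕ) * (u ^ D.q * (η ^ D.q) ^ (i : ℕ)) = u * u ^ D.q * (η * η ^ D.q) ^ (i : ℕ) by
        rw [mul_pow]; ring, hη1, one_pow, mul_one]

/-- A block through `b` and two points determines their parameters. -/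
theorem par_eq {z : G} (ho : orderOf z = 2) (hzb : z • D.b = D.b) {θ v θ' v' : K} (hv : v ^ D.q = v)
    (hv' : v' ^ D.q = v') (hθ : θ ≠ 0) (hθ' : θ' ≠ 0) (h : z • C.pt θ v = C.pt θ v)
    (h' : z • C.pt θ' v' = C.pt θ' v') : C.par S θ v = C.par S θ' v' := by
  classical
  haveI := D.finite_points
  haveI := Fintype.ofFinite Ω
  set u := C.par S θ v with hu
  have hu0 : u ≠ 0 := C.par_ne S hv hθ
  obtain ⟨z0, hz0, hz0b, hz0w⟩ := C.exists_block S hu0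
  have hne : D.b ≠ C.pt θ v := fun e => C.moved hv hθ (e ▸ D.t_mem.2)
  have hP : z0 • C.pt θ v = C.pt θ v := by
    rw [C.bp_of_pt S hθ]
    exact hz0w _ ((map_ne_zero S.τ).2 hθ) (C.par_cond S hv hθ)
  have e : z = z0 := D.invol_eq hne ho hz0 hzb h hz0b hP
  obtain ⟨f, hf, hf0, hfc⟩ := C.exists_circle S hu0
  let φ : Fin (D.q + 1) → {c : Ω // z0 • c = c} := fun i =>
    if hi : f i = 0 then ⟨D.b, hz0b⟩ else ⟨C.bp S u (f i), hz0w _ hi (hfc i)⟩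
  have hφv : ∀ i, (φ i : Ω) = C.bp S u (f i) := fun i => by
    by_cases hi : f i = 0
    · simp only [φ, dif_pos hi]
      rw [bp, hi, map_zero]
      simpa using C.pt_zero.symm
    · simp only [φ, dif_neg hi]
  have hφ : Function.Injective φ := fun i j hij => by
    have e1 := congrArg Subtype.val hij
    rw [hφv, hφv] at e1
    exact hf (S.τ.injective (C.pt_inj (C.bp_fix S (hfc i)) (C.bp_fix S (hfc j)) e1).1)
  have hsurj := ((Nat.bijective_iff_injective_and_card φ).2 ⟨hφ, by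
    rw [Nat.card_fin, C.card_fix_invol S hz0 hne hz0b hP]⟩).2 ⟨C.pt θ' v', e ▸ h'⟩
  obtain ⟨i, hi⟩ := hsurj
  have e1 := congrArg Subtype.val hi
  rw [hφv] at e1
  obtain ⟨eθ, ev⟩ := C.pt_inj (C.bp_fix S (hfc i)) hv' e1
  rw [← eθ, ← ev, C.bp_par S (fun h0 => hθ' (by rw [← eθ, h0, map_zero]))]

/-- The constant attached to a point. -/
def inc (θ z θ' : K) : K := -(C.dd S θ z * S.τ θ' / S.τ θ)

theorem star_of_par {θ₁ z₁ θ₂ z₂ σ₁ s₁ σ₂ s₂ : K} (h1 : z₁ ^ D.q = z₁) (h2 : z₂ ^ D.q = z₂) (hθ₁ : θ₁ ≠ 0)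
    (hθ₂ : θ₂ ≠ 0) (hs₁ : s₁ ^ D.q = s₁) (hs₂ : s₂ ^ D.q = s₂) (e₁ : C.jv • C.pt θ₁ z₁ = C.pt σ₁ s₁)
    (e₂ : C.jv • C.pt θ₂ z₂ = C.pt σ₂ s₂) (hp : C.par S θ₁ z₁ = C.par S θ₂ z₂) : σ₁ = σ₂ := by
  obtain ⟨z, hz, hzb, hzw⟩ := C.exists_block S (C.par_ne S h1 hθ₁)
  have hfix : ∀ {θ z' : K}, z' ^ D.q = z' → θ ≠ 0 → C.par S θ z' = C.par S θ₁ z₁ → z • C.pt θ z' = C.pt θ z' :=
    fun {θ z'} hq hθ e => by
      rw [C.bp_of_pt S hθ, e]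
      exact hzw _ ((map_ne_zero S.τ).2 hθ) (e ▸ C.par_cond S hq hθ)
  exact C.block_a (z := C.jv * z * C.jv⁻¹) (by rw [orderOf_conj', hz]) (C.jv_b ▸ conj_fix hzb) hs₁ hs₂
    (e₁ ▸ conj_fix (hfix h1 hθ₁ rfl)) (e₂ ▸ conj_fix (hfix h2 hθ₂ hp.symm))

theorem par_of_star {θ₁ z₁ θ₂ z₂ σ s₁ s₂ : K} (h1 : z₁ ^ D.q = z₁) (h2 : z₂ ^ D.q = z₂) (hθ₁ : θ₁ ≠ 0)
    (hθ₂ : θ₂ ≠ 0) (hs₁ : s₁ ^ D.q = s₁) (hs₂ : s₂ ^ D.q = s₂) (e₁ : C.jv • C.pt θ₁ z₁ = C.pt σ s₁)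
    (e₂ : C.jv • C.pt θ₂ z₂ = C.pt σ s₂) : C.par S θ₁ z₁ = C.par S θ₂ z₂ := by
  set z' := C.P σ s₁ * D.t * (C.P σ s₁)⁻¹ with hz'
  have hP : C.P σ s₁ ∈ D.U := C.P_mem _ _ hs₁
  have ha : z' • D.a = D.a := by
    rw [hz', conj_fix_iff, inv_smul_eq_iff.2 (D.U_fix _ hP).symm, D.t_mem.1]
  have h₁ : z' • C.pt σ s₁ = C.pt σ s₁ := conj_fix D.t_mem.2
  have h₂ : z' • C.pt σ s₂ = C.pt σ s₂ := by
    rw [hz', conj_fix_iff, C.P_inv hs₁, C.P_smul_pt (C.fix_neg hs₁) hs₂,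
      C.fix_t (C.fix_add (C.fix_add (C.fix_neg hs₁) hs₂) (C.A_fix _ _))]
    exact neg_add_cancel σ
  refine C.par_eq S (z := C.jv⁻¹ * z' * C.jv⁻¹⁻¹) (by rw [orderOf_conj', hz', orderOf_conj', D.t_order])
    ?_ h1 h2 hθ₁ hθ₂ ?_ ?_
  · rw [show D.b = C.jv⁻¹ • D.a by rw [eq_inv_smul_iff, C.jv_b]]
    exact conj_fix ha
  · rw [show C.pt θ₁ z₁ = C.jv⁻¹ • C.pt σ s₁ by rw [← e₁, inv_smul_smul]]
    exact conj_fix h₁
  · rw [show C.pt θ₂ z₂ = C.jv⁻¹ • C.pt σ s₂ by rw [← e₂, inv_smul_smul]]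
    exact conj_fix h₂

theorem inc_par {θ₁ z₁ θ₂ z₂ σ : K} (hθ₁ : θ₁ ≠ 0) (hθ₂ : θ₂ ≠ 0) (hp : C.par S θ₁ z₁ = C.par S θ₂ z₂) :
    C.inc S θ₁ z₁ σ = C.inc S θ₂ z₂ σ := by
  have h1 : S.τ θ₁ ≠ 0 := (map_ne_zero S.τ).2 hθ₁
  have h2 : S.τ θ₂ ≠ 0 := (map_ne_zero S.τ).2 hθ₂
  rw [inc, inc, C.par_spec S hθ₁, C.par_spec S hθ₂, hp]
  field_simp

theorem inc_first {θ z₁ z₂ σ₁ s₁ σ₂ s₂ : K} (h1 : z₁ ^ D.q = z₁) (h2 : z₂ ^ D.q = z₂) (hθ : θ ≠ 0)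
    (hs₁ : s₁ ^ D.q = s₁) (hs₂ : s₂ ^ D.q = s₂) (e₁ : C.jv • C.pt θ z₁ = C.pt σ₁ s₁)
    (e₂ : C.jv • C.pt θ z₂ = C.pt σ₂ s₂) : C.inc S θ z₁ σ₁ = C.inc S θ z₂ σ₂ := by
  obtain ⟨σ₁', s₁', hs₁', hσ₁, f₁, hd₁⟩ := C.jv_image S h1 hθ
  obtain ⟨rfl, rfl⟩ := C.pt_inj hs₁ hs₁' (e₁.symm.trans f₁)
  obtain ⟨σ₂', s₂', hs₂', hσ₂, f₂, hd₂⟩ := C.jv_image S h2 hθ
  obtain ⟨rfl, rfl⟩ := C.pt_inj hs₂ hs₂' (e₂.symm.trans f₂)
  have hjj : C.jv * C.jv ∈ D.H := by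
    constructor <;> show (C.jv * C.jv) • _ = _ <;> rw [mul_smul]
    · rw [C.jv_a, C.jv_b]
    · rw [C.jv_b, C.jv_a]
  obtain ⟨k, hk⟩ := C.g_gen _ hjj
  have hkq : ∀ {z : K}, z ^ D.q = z → (C.ν ^ k * z) ^ D.q = C.ν ^ k * z := fun h => C.fix_mul (C.ν_pow_fix k) h
  have hp := C.par_of_star S hs₁ hs₂ hσ₁ hσ₂ (hkq h1) (hkq h2) (σ := C.ω ^ k * θ)
    (by rw [← e₁, ← mul_smul, ← hk, C.pow_smul_pt k h1]) (by rw [← e₂, ← mul_smul, ← hk, C.pow_smul_pt k h2])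
  have hτ₁ : S.τ σ₁ ≠ 0 := (map_ne_zero S.τ).2 hσ₁
  have hτ₂ : S.τ σ₂ ≠ 0 := (map_ne_zero S.τ).2 hσ₂
  have h3 : C.dd S σ₁ s₁ / S.τ σ₁ = C.dd S σ₂ s₂ / S.τ σ₂ := by
    rw [C.par_spec S hσ₁, C.par_spec S hσ₂, hp]
    field_simp
  rw [hd₁, hd₂] at h3
  have hd₁0 := C.dd_ne S h1 hθ
  have hd₂0 := C.dd_ne S h2 hθ
  have hJ : ((2 * S.J) ^ 2)⁻¹ ≠ 0 := inv_ne_zero (pow_ne_zero _ (C.twoJ_ne S))
  rw [div_div, div_div] at h3
  have h4 : C.dd S θ z₁ * S.τ σ₁ = C.dd S θ z₂ * S.τ σ₂ :=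
    inv_injective (mul_left_cancel₀ hJ (by simpa [div_eq_mul_inv] using h3))
  rw [inc, inc, h4]

theorem exists_meet {u u' : K} (hu : u ≠ 0) (h : u * u' ^ D.q ≠ u' * u ^ D.q) :
    ∃ w : K, w ≠ 0 ∧ (u + w) * (u + w) ^ D.q = u * u ^ D.q ∧ (u' + w) * (u' + w) ^ D.q = u' * u' ^ D.q := by
  have hne : u - u' ≠ 0 := fun e => h (by rw [sub_eq_zero.1 e])
  have hneq : u ^ D.q - u' ^ D.q ≠ 0 := by rw [← C.cj_sub]; exact pow_ne_zero _ hne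
  set E := u * u' ^ D.q - u' * u ^ D.q with hE
  set r := E / (S.J * ((u - u') * (u - u') ^ D.q)) with hr
  have hden : S.J * ((u - u') * (u - u') ^ D.q) ≠ 0 := mul_ne_zero S.J_ne (mul_ne_zero hne (pow_ne_zero _ hne))
  have hrq : r ^ D.q = r := by
    rw [hr, div_pow, hE, C.cj_sub, mul_pow, mul_pow, C.cj_cj, C.cj_cj, mul_pow, S.J_skew, C.norm_fix S]
    field_simp
    ring
  have e1 : r * (S.J * ((u - u') * (u ^ D.q - u' ^ D.q))) = E := by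
    rw [hr, ← C.cj_sub, div_mul_cancel₀ _ hden]
  refine ⟨r * S.J * (u - u'), mul_ne_zero (mul_ne_zero (div_ne_zero (sub_ne_zero.2 h) hden) S.J_ne) hne, ?_, ?_⟩
  · rw [C.cj_add, mul_pow, mul_pow, hrq, S.J_skew, C.cj_sub]
    linear_combination -(r * S.J) * e1
  · rw [C.cj_add, mul_pow, mul_pow, hrq, S.J_skew, C.cj_sub]
    linear_combination -(r * S.J) * e1

/-- All these constants are equal. -/
theorem exists_γ : ∃ γ : K, γ ≠ 0 ∧ ∀ θ z θ' z' : K, z ^ D.q = z → θ ≠ 0 → z' ^ D.q = z' →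
    C.jv • C.pt θ z = C.pt θ' z' → S.τ θ' = -(γ * S.τ θ) / C.dd S θ z ∧ C.dd S θ' z' = γ * γ ^ D.q / C.dd S θ z := by
  classical
  have himg : ∀ θ z : K, ∃ θ' z' : K, z ^ D.q = z → θ ≠ 0 → z' ^ D.q = z' ∧ θ' ≠ 0 ∧
      C.jv • C.pt θ z = C.pt θ' z' ∧ C.dd S θ' z' = ((2 * S.J) ^ 2)⁻¹ / C.dd S θ z := fun θ z => by
    by_cases h : z ^ D.q = z ∧ θ ≠ 0
    · obtain ⟨θ', z', h'⟩ := C.jv_image S h.1 h.2
      exact ⟨θ', z', fun _ _ => h'⟩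
    · exact ⟨0, 0, fun h1 h2 => absurd ⟨h1, h2⟩ h⟩
  choose σ s hσ using himg
  let Gm : K → K → K := fun θ z => C.inc S θ z (σ θ z)
  have hp : ∀ {θ₁ z₁ θ₂ z₂ : K}, z₁ ^ D.q = z₁ → θ₁ ≠ 0 → z₂ ^ D.q = z₂ → θ₂ ≠ 0 →
      C.par S θ₁ z₁ = C.par S θ₂ z₂ → Gm θ₁ z₁ = Gm θ₂ z₂ := fun {θ₁ z₁ θ₂ z₂} h1 hθ₁ h2 hθ₂ e => by
    obtain ⟨a1, -, b1, -⟩ := hσ θ₁ z₁ h1 hθ₁
    obtain ⟨a2, -, b2, -⟩ := hσ θ₂ z₂ h2 hθ₂
    show C.inc S θ₁ z₁ (σ θ₁ z₁) = C.inc S θ₂ z₂ (σ θ₂ z₂)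
    rw [C.star_of_par S h1 h2 hθ₁ hθ₂ a1 a2 b1 b2 e, C.inc_par S hθ₁ hθ₂ e]
  have hfirst : ∀ {θ z₁ z₂ : K}, z₁ ^ D.q = z₁ → z₂ ^ D.q = z₂ → θ ≠ 0 → Gm θ z₁ = Gm θ z₂ :=
    fun {θ z₁ z₂} h1 h2 hθ => by
      obtain ⟨a1, -, b1, -⟩ := hσ θ z₁ h1 hθ
      obtain ⟨a2, -, b2, -⟩ := hσ θ z₂ h2 hθ
      exact C.inc_first S h1 h2 hθ a1 a2 b1 b2
  let ζ : K → K → K := fun u w => -(2 * S.J * (u ^ D.q * w)) - S.J * (w * w ^ D.q)
  have hbp : ∀ {θ z θ₁ z₁ : K}, z ^ D.q = z → θ ≠ 0 → z₁ ^ D.q = z₁ → θ₁ ≠ 0 →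
      C.par S θ z * C.par S θ₁ z₁ ^ D.q ≠ C.par S θ₁ z₁ * C.par S θ z ^ D.q → Gm θ z = Gm θ₁ z₁ := by
    intro θ z θ₁ z₁ hz hθ hz₁ hθ₁ h
    set u := C.par S θ z
    set u' := C.par S θ₁ z₁
    obtain ⟨w, hw, hw1, hw2⟩ := C.exists_meet S (C.par_ne S hz hθ) h
    have hτw : S.τ w ≠ 0 := (map_ne_zero S.τ).2 hw
    calc Gm θ z = Gm (S.τ w) (ζ u w) := hp hz hθ (C.bp_fix S hw1) hτw (C.bp_par S hw).symm
      _ = Gm (S.τ w) (ζ u' w) := hfirst (C.bp_fix S hw1) (C.bp_fix S hw2) hτw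
      _ = _ := hp (C.bp_fix S hw2) hτw hz₁ hθ₁ (C.bp_par S hw)
  have hconst : ∀ {θ z : K}, z ^ D.q = z → θ ≠ 0 → Gm θ z = Gm 1 0 := by
    intro θ z hz hθ
    by_cases h : C.par S θ z * C.par S 1 0 ^ D.q = C.par S 1 0 * C.par S θ z ^ D.q
    swap
    · exact hbp hz hθ C.cj_zero one_ne_zero h
    -- go through a third parameter
    set u := C.par S θ z
    set u₀ := C.par S 1 0
    have hu : u ≠ 0 := C.par_ne S hz hθ
    have hu₀ : u₀ ≠ 0 := C.par_ne S C.cj_zero one_ne_zero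
    set v := S.J * u with hv
    have hv0 : v ≠ 0 := mul_ne_zero S.J_ne hu
    set w := -2 * v with hw
    have hw0 : w ≠ 0 := mul_ne_zero (neg_ne_zero.2 C.two_ne) hv0
    have hwc : (v + w) * (v + w) ^ D.q = v * v ^ D.q := by
      rw [hw, show v + -2 * v = -v by ring, C.cj_neg]; ring
    have hτw : S.τ w ≠ 0 := (map_ne_zero S.τ).2 hw0
    have hpw : C.par S (S.τ w) (ζ v w) = v := C.bp_par S hw0
    have hz' : ζ v w ^ D.q = ζ v w := C.bp_fix S hwc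
    refine (hbp hz hθ hz' hτw ?_).trans (hbp hz' hτw C.cj_zero one_ne_zero ?_)
    · rw [hpw, hv, mul_pow, S.J_skew]
      intro e
      have e' : 2 * S.J * (u * u ^ D.q) = 0 := by linear_combination -e
      exact mul_ne_zero (C.twoJ_ne S) (mul_ne_zero hu (pow_ne_zero _ hu)) e'
    · rw [hpw, hv, mul_pow, S.J_skew]
      intro e
      have e' : S.J * (u * u₀ ^ D.q) + S.J * (u₀ * u ^ D.q) = 0 := by linear_combination e
      have e'' : 2 * S.J * (u * u₀ ^ D.q) = 0 := by linear_combination e' + S.J * h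
      exact mul_ne_zero (C.twoJ_ne S) (mul_ne_zero hu (pow_ne_zero _ hu₀)) e''
  have h10 := hσ 1 0 C.cj_zero one_ne_zero
  have hγ0 : Gm 1 0 ≠ 0 := neg_ne_zero.2 (div_ne_zero (mul_ne_zero (C.dd_ne S C.cj_zero one_ne_zero)
    ((map_ne_zero S.τ).2 h10.2.1)) ((map_ne_zero S.τ).2 one_ne_zero))
  refine ⟨Gm 1 0, hγ0, fun θ z θ' z' hz hθ hz' e => ?_⟩
  obtain ⟨a1, hσ0, b1, c1⟩ := hσ θ z hz hθ
  obtain ⟨rfl, rfl⟩ := C.pt_inj a1 hz' (b1.symm.trans e)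
  have hd := C.dd_ne S hz hθ
  have hτ : S.τ θ ≠ 0 := (map_ne_zero S.τ).2 hθ
  have hg : -(Gm 1 0 * S.τ θ) = C.dd S θ z * S.τ (σ θ z) := by
    rw [← hconst hz hθ]
    show -(C.inc S θ z (σ θ z) * S.τ θ) = _
    rw [inc]
    field_simp
  have e1 : S.τ (σ θ z) = -(Gm 1 0 * S.τ θ) / C.dd S θ z := by rw [hg, mul_div_cancel_left₀ _ hd]
  refine ⟨e1, ?_⟩
  rw [c1]
  congr 1
  -- from the norm condition
  have n1 := C.dd_norm S (θ := θ) hz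
  have n2 := C.dd_norm S (θ := σ θ z) a1
  have hdq : C.dd S θ z ^ D.q ≠ 0 := pow_ne_zero _ hd
  have hJq : ((2 * S.J) ^ 2) ^ D.q = (2 * S.J) ^ 2 := by
    rw [← pow_mul, Nat.mul_comm 2, pow_mul, C.twoJ_skew S]; ring
  rw [c1, e1, div_pow, div_pow, C.cj_neg, mul_pow (Gm 1 0), inv_pow, hJq] at n2
  set c := ((2 * S.J) ^ 2)⁻¹ with hc
  have hN : S.τ θ * S.τ θ ^ D.q ≠ 0 := mul_ne_zero hτ (pow_ne_zero _ hτ)
  refine mul_right_cancel₀ hN ?_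
  have n3 : c * (C.dd S θ z + C.dd S θ z ^ D.q) = Gm 1 0 * Gm 1 0 ^ D.q * (S.τ θ * S.τ θ ^ D.q) := by
    field_simp at n2
    linear_combination n2
  rw [← n3, n1]

end Coord

end Cfsg.Agent.Lie.UThreeOdd
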